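import Cfsg.Agent.Lib.Schur.Basic

/-!
Brackets of lifts in central extensions, and the part of a multiplier at one prime.
-/

set_option autoImplicit false

namespace CfsgLib.MultSU

open Subgroup
open scoped commutatorElement

universe u

variable {Q : Type*} [Group Q] {Γ : Type*} [Group Γ] {σ : Γ →* Q}

/-- A central extension. -/
structure IsCE (σ : Γ →* Q) : Prop where
  surj : Function.Surjective σ
  central : σ.ker ≤ center Γ

/-- All lifts of `g` commute with all lifts of `h`. -/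
def LiftComm (σ : Γ →* Q) (g h : Q) : Prop := ∀ a b : Γ, σ a = g → σ b = h → a * b = b * a

theorem IsCE.ker_comm (hσ : IsCE σ) {z : Γ} (hz : z ∈ σ.ker) (a : Γ) : a * z = z * a :=
  mem_center_iff.1 (hσ.central hz) a

theorem IsCE.normalizes (hσ : IsCE σ) {z : Γ} (hz : z ∈ σ.ker) (K : Subgroup Γ) {k : Γ} (hk : k ∈ K) :
    z * k * z⁻¹ ∈ K := by
  rwa [← hσ.ker_comm hz, mul_inv_cancel_right]

theorem exists_eq_mul {a b : Γ} (e : σ a = σ b) : ∃ z ∈ σ.ker, a = b * z :=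
  ⟨b⁻¹ * a, by rw [MonoidHom.mem_ker, map_mul, map_inv, e, inv_mul_cancel], by group⟩

theorem bracket_congr_left (hσ : IsCE σ) {a a' b : Γ} (ha : σ a = σ a') : ⁅a, b⁆ = ⁅a', b⁆ := by
  obtain ⟨z, hz, rfl⟩ := exists_eq_mul ha
  rw [commutatorElement_def, commutatorElement_def]
  calc a' * z * b * (a' * z)⁻¹ * b⁻¹ = a' * (z * b) * z⁻¹ * a'⁻¹ * b⁻¹ := by group
    _ = _ := by rw [← hσ.ker_comm hz]; group

theorem bracket_congr (hσ : IsCE σ) {a a' b b' : Γ} (ha : σ a = σ a') (hb : σ b = σ b') :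
    ⁅a, b⁆ = ⁅a', b'⁆ := by
  rw [bracket_congr_left hσ ha, ← commutatorElement_inv b a', bracket_congr_left hσ hb,
    commutatorElement_inv]

theorem liftComm_iff (hσ : IsCE σ) {g h : Q} {a b : Γ} (ha : σ a = g) (hb : σ b = h) :
    LiftComm σ g h ↔ a * b = b * a := by
  refine ⟨fun hc => hc a b ha hb, fun e a' b' ha' hb' => ?_⟩
  rw [← commutatorElement_eq_one_iff_mul_comm, bracket_congr hσ (ha'.trans ha.symm) (hb'.trans hb.symm),
    commutatorElement_eq_one_iff_mul_comm]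
  exact e

theorem LiftComm.symm {g h : Q} (hc : LiftComm σ g h) : LiftComm σ h g :=
  fun a b ha hb => (hc b a hb ha).symm

theorem LiftComm.commute (hσ : IsCE σ) {g h : Q} (hc : LiftComm σ g h) : g * h = h * g := by
  obtain ⟨a, rfl⟩ := hσ.surj g
  obtain ⟨b, rfl⟩ := hσ.surj h
  rw [← map_mul, hc a b rfl rfl, map_mul]

/-- The elements whose lifts commute with those of `g`. -/
def cLift (hσ : IsCE σ) (g : Q) : Subgroup Q where
  carrier := {h | LiftComm σ g h}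
  one_mem' := fun a b _ hb => by rw [hσ.ker_comm hb a]
  mul_mem' {h k} hh hk := by
    obtain ⟨b, rfl⟩ := hσ.surj h
    obtain ⟨c, rfl⟩ := hσ.surj k
    obtain ⟨a, rfl⟩ := hσ.surj g
    refine (liftComm_iff hσ rfl (map_mul σ b c)).2 ?_
    rw [← mul_assoc, hh a b rfl rfl, mul_assoc, hk a c rfl rfl, ← mul_assoc]
  inv_mem' {h} hh := by
    obtain ⟨b, rfl⟩ := hσ.surj h
    obtain ⟨a, rfl⟩ := hσ.surj g
    exact (liftComm_iff hσ rfl (map_inv σ b)).2 (Commute.inv_right (hh a b rfl rfl))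

theorem bracket_mem_ker {a b : Γ} (h : σ a * σ b = σ b * σ a) : ⁅a, b⁆ ∈ σ.ker := by
  rw [MonoidHom.mem_ker, map_commutatorElement, commutatorElement_eq_one_iff_mul_comm]
  exact h

theorem bracket_mul_left (hσ : IsCE σ) {a b c : Γ} (hb : σ b * σ c = σ c * σ b) :
    ⁅a * b, c⁆ = ⁅b, c⁆ * ⁅a, c⁆ := by
  rw [show ⁅a * b, c⁆ = a * ⁅b, c⁆ * a⁻¹ * ⁅a, c⁆ by simp only [commutatorElement_def]; group,
    hσ.ker_comm (bracket_mem_ker hb), mul_inv_cancel_right]

theorem bracket_mul_right (hσ : IsCE σ) {a b c : Γ} (hc : σ a * σ c = σ c * σ a) :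
    ⁅a, b * c⁆ = ⁅a, b⁆ * ⁅a, c⁆ := by
  rw [show ⁅a, b * c⁆ = ⁅a, b⁆ * (b * ⁅a, c⁆ * b⁻¹) by simp only [commutatorElement_def]; group,
    hσ.ker_comm (bracket_mem_ker hc), mul_inv_cancel_right]

theorem bracket_pow_left (hσ : IsCE σ) {a b : Γ} (h : σ a * σ b = σ b * σ a) (k : ℕ) :
    ⁅a ^ k, b⁆ = ⁅a, b⁆ ^ k := by
  induction k with
  | zero => simp [commutatorElement_def]
  | succ k ih => rw [pow_succ, bracket_mul_left hσ h, ih, pow_succ']

theorem bracket_inv_left (hσ : IsCE σ) {a b : Γ} (h : σ a * σ b = σ b * σ a) :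
    ⁅a⁻¹, b⁆ = ⁅a, b⁆⁻¹ := by
  refine eq_inv_of_mul_eq_one_right ?_
  rw [← bracket_mul_left hσ h, inv_mul_cancel]
  simp [commutatorElement_def]

theorem bracket_conj (hσ : IsCE σ) {u a b : Γ} (h : σ a * σ b = σ b * σ a) :
    ⁅u * a * u⁻¹, u * b * u⁻¹⁆ = ⁅a, b⁆ := by
  rw [show ⁅u * a * u⁻¹, u * b * u⁻¹⁆ = u * ⁅a, b⁆ * u⁻¹ by simp only [commutatorElement_def]; group,
    hσ.ker_comm (bracket_mem_ker h), mul_inv_cancel_right]

theorem eq_one_of_pow {r : ℕ} [Fact r.Prime] (hr : IsPGroup r σ.ker) {z : Γ} (hz : z ∈ σ.ker) {N : ℕ}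
    (hN : z ^ N = 1) (hco : ¬ r ∣ N) : z = 1 := by
  obtain ⟨k, hk⟩ := hr ⟨z, hz⟩
  have hk' : z ^ r ^ k = 1 := congrArg Subtype.val hk
  have := pow_gcd_eq_one.2 ⟨hk', hN⟩
  rwa [Nat.Coprime.pow_left k ((Nat.Prime.coprime_iff_not_dvd Fact.out).2 hco), pow_one] at this

/-- An element inverting `g` and fixing `h` makes the lifts commute, for odd `r`. -/
theorem liftComm_of_invert (hσ : IsCE σ) {r : ℕ} [Fact r.Prime] (hr : IsPGroup r σ.ker) (hodd : r ≠ 2)
    {g h u : Q} (hgh : g * h = h * g) (hug : u * g * u⁻¹ = g⁻¹) (huh : u * h * u⁻¹ = h) :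
    LiftComm σ g h := by
  obtain ⟨a, rfl⟩ := hσ.surj g
  obtain ⟨b, rfl⟩ := hσ.surj h
  obtain ⟨c, rfl⟩ := hσ.surj u
  refine (liftComm_iff hσ rfl rfl).2 (commutatorElement_eq_one_iff_mul_comm.1 ?_)
  have e : ⁅a⁻¹, b⁆ = ⁅a, b⁆ := by
    rw [← bracket_conj hσ (u := c) hgh]
    exact bracket_congr hσ (by simp [hug]) (by simp [huh])
  rw [bracket_inv_left hσ hgh] at e
  refine eq_one_of_pow hr (bracket_mem_ker hgh) (N := 2) ?_ fun hd =>
    hodd ((Nat.prime_dvd_prime_iff_eq Fact.out Nat.prime_two).1 hd)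
  rw [sq]
  exact inv_eq_iff_mul_eq_one.1 e

/-- A commuting pair in which one element has order prime to `r`. -/
theorem liftComm_of_coprime (hσ : IsCE σ) {r : ℕ} [Fact r.Prime] (hr : IsPGroup r σ.ker) {g h : Q}
    (hgh : g * h = h * g) {N : ℕ} (hN : h ^ N = 1) (hco : ¬ r ∣ N) : LiftComm σ g h := by
  obtain ⟨a, rfl⟩ := hσ.surj g
  obtain ⟨b, rfl⟩ := hσ.surj h
  refine LiftComm.symm ((liftComm_iff hσ rfl rfl).2 (commutatorElement_eq_one_iff_mul_comm.1 ?_))
  refine eq_one_of_pow hr (bracket_mem_ker hgh.symm) (N := N) ?_ hco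
  rw [← bracket_pow_left hσ hgh.symm, bracket_congr_left hσ (a' := 1) (by rw [map_pow, hN, map_one])]
  simp [commutatorElement_def]

/-- Commutators of a subgroup generated modulo the kernel. -/
theorem inf_comm_eq_bot [Finite Γ] (hσ : IsCE σ) {H : Subgroup Γ} (X : Set Γ) (K : Subgroup Γ)
    (hgen : H ≤ closure (X ∪ (σ.ker : Set Γ))) (hnorm : ∀ x ∈ X, ∀ k ∈ K, x * k * x⁻¹ ∈ K)
    (hcomm : ∀ x ∈ X, ∀ y ∈ X, ⁅x, y⁆ ∈ K) (hK : ∀ k ∈ K, σ k = 1 → k = 1) :
    ∀ x ∈ ⁅H, H⁆, σ x = 1 → x = 1 := by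
  have hN : closure (X ∪ (σ.ker : Set Γ)) ≤ normalizer (K : Set Γ) := (closure_le _).2 fun x hx => by
    refine mem_normalizer_fintype fun k hk => ?_
    rcases hx with hx | hx
    · exact hnorm x hx k hk
    · exact hσ.normalizes hx K hk
  have key : ∀ a ∈ closure (X ∪ (σ.ker : Set Γ)), ∀ b ∈ closure (X ∪ (σ.ker : Set Γ)), ⁅a, b⁆ ∈ K := by
    intro a ha b hb
    induction ha, hb using closure_induction₂ with
    | mem a b ha hb =>
      rcases ha with ha | ha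
      · rcases hb with hb | hb
        · exact hcomm a ha b hb
        · rw [commutatorElement_eq_one_iff_mul_comm.2 (hσ.ker_comm hb a)]; exact K.one_mem
      · rw [commutatorElement_eq_one_iff_mul_comm.2 (hσ.ker_comm ha b).symm]; exact K.one_mem
    | one_left b _ => simp [commutatorElement_def]
    | one_right a _ => simp [commutatorElement_def]
    | mul_left a b c ha _ _ h1 h2 =>
      rw [show ⁅a * b, c⁆ = a * ⁅b, c⁆ * a⁻¹ * ⁅a, c⁆ by simp only [commutatorElement_def]; group]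
      exact K.mul_mem ((mem_normalizer_iff.1 (hN ha) _).1 h2) h1
    | mul_right b c a hb _ _ h1 h2 =>
      rw [show ⁅a, b * c⁆ = ⁅a, b⁆ * (b * ⁅a, c⁆ * b⁻¹) by simp only [commutatorElement_def]; group]
      exact K.mul_mem h1 ((mem_normalizer_iff.1 (hN hb) _).1 h2)
    | inv_left a b ha _ h1 =>
      rw [show ⁅a⁻¹, b⁆ = a⁻¹ * ⁅a, b⁆⁻¹ * a⁻¹⁻¹ by simp only [commutatorElement_def]; group]
      exact (mem_normalizer_iff.1 ((normalizer (K : Set Γ)).inv_mem (hN ha)) _).1 (K.inv_mem h1)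
    | inv_right a b _ hb h1 =>
      rw [show ⁅a, b⁻¹⁆ = b⁻¹ * ⁅a, b⁆⁻¹ * b⁻¹⁻¹ by simp only [commutatorElement_def]; group]
      exact (mem_normalizer_iff.1 ((normalizer (K : Set Γ)).inv_mem (hN hb)) _).1 (K.inv_mem h1)
  exact fun x hx hx1 => hK x (commutator_le.2 (fun a ha b hb => key a (hgen ha) b (hgen hb)) hx) hx1

/-- No central extension of `Q` has an `r`-kernel meeting the derived group. -/
def NoMult (r : ℕ) (Q : Type u) [Group Q] : Prop :=
  ∀ (Γ : Type u) [Group Γ] [Finite Γ] (σ : Γ →* Q), IsCE σ → IsPGroup r σ.ker →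
    ∀ x ∈ commutator Γ, σ x = 1 → x = 1

/-- The restriction to a subgroup of index prime to `r`. -/
theorem NoMult.of_subgroup {Q : Type u} [Group Q] [Finite Q] {r : ℕ} [Fact r.Prime] (H : Subgroup Q)
    (hi : ¬ r ∣ H.index)
    (hH : ∀ (Γ : Type u) [Group Γ] [Finite Γ] (σ : Γ →* Q), IsCE σ → IsPGroup r σ.ker →
      ∀ x ∈ ⁅H.comap σ, H.comap σ⁆, σ x = 1 → x = 1) : NoMult r Q := by
  intro Γ _ _ σ hσ hr k hk hk1
  obtain ⟨U, hU⟩ : ∃ U, U = H.comap σ := ⟨_, rfl⟩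
  have hkU : k ∈ U := by rw [hU, mem_comap, hk1]; exact H.one_mem
  have h1 : MonoidHom.transfer (Abelianization.of : U →* _) k = 1 :=
    Abelianization.commutator_subset_ker _ hk
  have hkc : ∀ y, y * k = k * y := hσ.ker_comm hk1
  rw [MonoidHom.transfer_eq_pow _ k (fun n y _ => by
    rw [mul_assoc, ← (Commute.pow_right (hkc y) n).eq, inv_mul_cancel_left])] at h1
  have h2 : k ^ U.index ∈ ⁅U, U⁆ := by
    rw [← Subgroup.map_subtype_commutator]
    exact ⟨_, by rw [← Abelianization.ker_of]; exact h1, rfl⟩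
  rw [hU, Subgroup.index_comap_of_surjective _ hσ.surj] at h2
  exact eq_one_of_pow hr hk1 (hH Γ σ hσ hr _ h2 (by rw [map_pow, hk1, one_pow])) hi

/-- What a subgroup without multiplier gives. -/
theorem NoMult.sub {Q L : Type u} [Group Q] [Group L] {r : ℕ} (hL : NoMult r L) (f : L →* Q)
    (hf : Function.Injective f) {Γ : Type u} [Group Γ] [Finite Γ] {σ : Γ →* Q} (hσ : IsCE σ)
    (hr : IsPGroup r σ.ker) : ∀ x ∈ ⁅f.range.comap σ, f.range.comap σ⁆, σ x = 1 → x = 1 := by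
  intro x hx hx1
  let e := MonoidHom.ofInjective hf
  let τ₀ : f.range.comap σ →* f.range := (σ.comp (f.range.comap σ).subtype).codRestrict f.range fun y => y.2
  let τ : f.range.comap σ →* L := e.symm.toMonoidHom.comp τ₀
  have hker : ∀ y : f.range.comap σ, τ y = 1 ↔ σ y.1 = 1 := fun y => by
    refine e.symm.map_eq_one_iff.trans ⟨fun h => congrArg Subtype.val h, fun h => Subtype.ext h⟩
  have hτ : IsCE τ := ⟨fun l => by
      obtain ⟨a, ha⟩ := hσ.surj (f l)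
      refine ⟨⟨a, ⟨l, ha.symm⟩⟩, (e.symm_apply_eq).2 (Subtype.ext ha)⟩,
    fun y hy => mem_center_iff.2 fun w => Subtype.ext (hσ.ker_comm ((hker y).1 hy) w.1)⟩
  have hτr : IsPGroup r τ.ker := hr.of_injective
    { toFun := fun y : τ.ker => (⟨y.1.1, (hker _).1 y.2⟩ : σ.ker)
      map_one' := rfl
      map_mul' := fun _ _ => rfl }
    fun a b e => Subtype.ext (Subtype.ext (congrArg Subtype.val e :))
  rw [← Subgroup.map_subtype_commutator] at hx
  obtain ⟨y, hy, rfl⟩ := hx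
  have := hL _ τ hτ hτr y hy ((hker y).2 hx1)
  rw [this]; rfl

/-- A cyclic subgroup of index prime to `r`. -/
theorem NoMult.of_cyclic {Q : Type u} [Group Q] [Finite Q] {r : ℕ} [Fact r.Prime] (H : Subgroup Q)
    (hi : ¬ r ∣ H.index) (hc : IsCyclic H) : NoMult r Q := by
  refine NoMult.of_subgroup H hi fun Γ _ _ σ hσ _ => ?_
  obtain ⟨g, hg⟩ := (Subgroup.isCyclic_iff_exists_zpowers_eq_top H).1 hc
  obtain ⟨a, ha⟩ := hσ.surj g
  refine inf_comm_eq_bot hσ {a} ⊥ (fun x hx => ?_) (fun _ _ k hk => by simp [mem_bot.1 hk])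
    (by rintro x rfl y rfl; simp [commutatorElement_def]) (fun k hk _ => mem_bot.1 hk)
  rw [mem_comap, ← hg, mem_zpowers_iff] at hx
  obtain ⟨i, hi⟩ := hx
  obtain ⟨z, hz, rfl⟩ := exists_eq_mul (σ := σ) (b := a ^ i) (show σ x = σ (a ^ i) by rw [map_zpow, ha, hi])
  have ha' : a ∈ closure ({a} ∪ (σ.ker : Set Γ)) := Subgroup.subset_closure (Set.mem_union_left _ (Set.mem_singleton a))
  have hz' : z ∈ closure ({a} ∪ (σ.ker : Set Γ)) := Subgroup.subset_closure (Set.mem_union_right _ hz)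
  exact Subgroup.mul_mem _ (Subgroup.zpow_mem _ ha' i) hz'

/-- Adjoining an element normalizing a subgroup. -/
theorem card_extend {Q : Type*} [Group Q] [Finite Q] (N : Subgroup Q) (g : Q) (k : ℕ) (hk : 0 < k)
    (hg : ∀ x ∈ N, g * x * g⁻¹ ∈ N) (hmem : g ^ k ∈ N) (hmin : ∀ i, 0 < i → i < k → g ^ i ∉ N) :
    Nat.card (N ⊔ zpowers g : Subgroup Q) = Nat.card N * k := by
  classical
  have hgN : zpowers g ≤ normalizer (N : Set Q) := zpowers_le.2 (mem_normalizer_fintype hg)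
  let f : N × Fin k → (N ⊔ zpowers g : Subgroup Q) := fun x =>
    ⟨x.1.1 * g ^ x.2.1, mul_mem (mem_sup_left x.1.2) (mem_sup_right (pow_mem (mem_zpowers g) _))⟩
  have hlt : ∀ i j : ℕ, j < i → i < k → g ^ (i - j) ∉ N := fun i j h1 h2 => hmin _ (by omega) (by omega)
  have hbij : Function.Bijective f := by
    refine ⟨fun x y e => ?_, fun z => ?_⟩
    · have e' : x.1.1 * g ^ x.2.1 = y.1.1 * g ^ y.2.1 := congrArg Subtype.val e
      have hij : x.2.1 = y.2.1 := by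
        by_contra hne
        rcases lt_or_gt_of_ne hne with hlt' | hlt'
        · refine hlt _ _ hlt' y.2.2 ?_
          rw [show g ^ (y.2.1 - x.2.1) = y.1.1⁻¹ * x.1.1 by
            rw [pow_sub g hlt'.le, eq_inv_mul_iff_mul_eq, ← mul_assoc, ← e', mul_inv_cancel_right]]
          exact mul_mem (inv_mem y.1.2) x.1.2
        · refine hlt _ _ hlt' x.2.2 ?_
          rw [show g ^ (x.2.1 - y.2.1) = x.1.1⁻¹ * y.1.1 by
            rw [pow_sub g hlt'.le, eq_inv_mul_iff_mul_eq, ← mul_assoc, e', mul_inv_cancel_right]]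
          exact mul_mem (inv_mem x.1.2) y.1.2
      rw [hij, mul_right_cancel_iff] at e'
      exact Prod.ext (Subtype.ext e') (Fin.ext hij)
    · have hz : z.1 ∈ N ⊔ zpowers g := z.2
      rw [← SetLike.mem_coe, coe_mul_of_right_le_normalizer_left N (zpowers g) hgN] at hz
      obtain ⟨n, hn, w, hw, e⟩ := Set.mem_mul.1 hz
      obtain ⟨i, rfl⟩ : w ∈ Submonoid.powers g := by rwa [mem_powers_iff_mem_zpowers]
      refine ⟨(⟨n * (g ^ k) ^ (i / k), mul_mem hn (pow_mem hmem _)⟩, ⟨i % k, Nat.mod_lt _ hk⟩), Subtype.ext ?_⟩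
      show n * (g ^ k) ^ (i / k) * g ^ (i % k) = z.1
      rw [← e, mul_assoc, ← pow_mul, ← pow_add, Nat.div_add_mod]
  rw [← Nat.card_congr (Equiv.ofBijective f hbij), Nat.card_prod, Nat.card_fin]

/-- Two commuting subgroups meeting trivially. -/
theorem card_sup_comm {Q : Type*} [Group Q] (A B : Subgroup Q) (hc : ∀ a ∈ A, ∀ b ∈ B, a * b = b * a)
    (hd : ∀ a ∈ A, a ∈ B → a = 1) : Nat.card (A ⊔ B : Subgroup Q) = Nat.card A * Nat.card B := by
  let f : A × B →* Q := A.subtype.noncommCoprod B.subtype fun a b => hc a a.2 b b.2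
  have hinj : Function.Injective f := by
    refine (injective_iff_map_eq_one f).2 fun x hx => ?_
    have h1 : x.1.1 * x.2.1 = 1 := hx
    have ha : x.1.1 = 1 := hd _ x.1.2 (by rw [eq_inv_of_mul_eq_one_left h1]; exact inv_mem x.2.2)
    rw [ha, one_mul] at h1
    exact Prod.ext (Subtype.ext ha) (Subtype.ext h1)
  have hr : f.range = A ⊔ B := by
    refine (MonoidHom.noncommCoprod_range A.subtype B.subtype fun a b => hc a a.2 b b.2).trans ?_
    rw [Subgroup.range_subtype, Subgroup.range_subtype]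
  rw [← hr, ← Nat.card_prod]
  exact (Nat.card_congr (MonoidHom.ofInjective hinj).toEquiv).symm

/-- A subgroup and a normalizing one meeting it trivially. -/
theorem card_sup_normalizing {Q : Type*} [Group Q] (N A : Subgroup Q) (hA : A ≤ normalizer (N : Set Q))
    (hd : ∀ a ∈ A, a ∈ N → a = 1) : Nat.card (N ⊔ A : Subgroup Q) = Nat.card N * Nat.card A := by
  classical
  rw [← Nat.card_prod]
  refine (Nat.card_congr (Equiv.ofBijective (fun x : N × A => (⟨x.1.1 * x.2.1,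
    mul_mem (mem_sup_left x.1.2) (mem_sup_right x.2.2)⟩ : (N ⊔ A : Subgroup Q))) ⟨fun x y e => ?_, fun z => ?_⟩)).symm
  · have e' : x.1.1 * x.2.1 = y.1.1 * y.2.1 := congrArg Subtype.val e
    have ha : x.2.1 * y.2.1⁻¹ = x.1.1⁻¹ * y.1.1 := by
      rw [eq_inv_mul_iff_mul_eq, ← mul_assoc, e', mul_inv_cancel_right]
    have h1 := mul_inv_eq_one.1 (hd _ (mul_mem x.2.2 (inv_mem y.2.2)) (ha ▸ mul_mem (inv_mem x.1.2) y.1.2))
    rw [h1, mul_right_cancel_iff] at e'
    exact Prod.ext (Subtype.ext e') (Subtype.ext h1)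
  · have hz : z.1 ∈ N ⊔ A := z.2
    rw [← SetLike.mem_coe, coe_mul_of_right_le_normalizer_left N A hA] at hz
    obtain ⟨n, hn, a, ha, e⟩ := Set.mem_mul.1 hz
    exact ⟨(⟨n, hn⟩, ⟨a, ha⟩), Subtype.ext e⟩

theorem index_not_dvd {Q : Type*} [Group Q] [Finite Q] (H : Subgroup Q) {c i r : ℕ} (hc : Nat.card H = c)
    (hQ : Nat.card Q = c * i) (hr : ¬ r ∣ i) : ¬ r ∣ H.index := by
  have h1 := H.card_mul_index
  rw [hc, hQ] at h1
  rwa [Nat.eq_of_mul_eq_mul_left (hc ▸ Nat.card_pos) h1]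

end CfsgLib.MultSU
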