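import Cfsg.Agent.Lib.MultSU.Blocks

/-!
The multiplier of `SU 4`.
-/

set_option autoImplicit false

namespace CfsgLib.MultSU

open Matrix CfsgLib.Classical CfsgLib.Classical.Unitary CfsgLib.MinIdx.Un
open scoped commutatorElement

universe u

variable {F : Type u} [Field F] {σ : F →+* F} {q : ℕ} [Finite F]

theorem sq_sub_one (q : ℕ) : q ^ 2 - 1 = (q + 1) * (q - 1) := by rw [← Nat.sq_sub_sq q 1, one_pow]

theorem fac_three (hq : 1 ≤ q) : fac q 3 = (q + 1) * ((q - 1) * (q * q + 1)) := by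
  rw [fac, if_neg (by decide)]
  obtain ⟨j, rfl⟩ : ∃ j, q = j + 1 := ⟨q - 1, by omega⟩
  rw [Nat.add_sub_cancel]
  exact Nat.sub_eq_of_eq_add (by ring)

theorem card_SU_four (hF : Nat.card F = q ^ 2) : Nat.card (Cfsg.SU 4 F q) =
    q ^ 6 * ((q - 1) ^ 2 * (q + 1) ^ 3 * ((q * q + 1) * (q * q - q + 1))) := by
  rw [card_SU_succ hF (by norm_num), card_SU_three hF, fac_three (by have := two_le_q hF; omega)]
  ring

theorem exists_fixed_gen (hF : Nat.card F = q ^ 2) (h : UFrob σ q) :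
    ∃ γ : Fˣ, orderOf γ = q - 1 ∧ σ (γ : F) = γ := by
  obtain ⟨α, hα⟩ := exists_gen_units hF (F := F)
  have ho : orderOf (α ^ (q + 1)) = q - 1 := by
    rw [orderOf_pow, hα, sq_sub_one, Nat.gcd_mul_right_left, Nat.mul_div_cancel_left _ (Nat.succ_pos q)]
  refine ⟨α ^ (q + 1), ho, ?_⟩
  have h1 : (α ^ (q + 1)) ^ q = α ^ (q + 1) := by
    have := pow_orderOf_eq_one (α ^ (q + 1))
    rw [ho] at this
    have h2 : (α ^ (q + 1)) ^ (q - 1 + 1) = α ^ (q + 1) := by rw [pow_succ, this, one_mul]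
    rwa [show q - 1 + 1 = q by have := two_le_q hF; omega] at h2
  rw [h.pow, ← Units.val_pow_eq_pow_val, h1]

/-- A torus element of order `q - 1` in `SU 2`. -/
theorem exists_tor_two (hF : Nat.card F = q ^ 2) (h : UFrob σ q) :
    ∃ G : Cfsg.SU 2 F q, orderOf G = q - 1 := by
  obtain ⟨γ, hγ, hσγ⟩ := exists_fixed_gen hF h
  obtain ⟨u, hu0, huu⟩ := exists_iso_vector h (m := 2) le_rfl
  obtain ⟨v, P, s⟩ := exists_split h (m := 0) hu0 huu
  have hvv := s.yy
  have huv := s.xy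
  have hvu := s.yx h
  obtain ⟨G, hG⟩ : ∃ G, G = (γ : F) • r1 σ u v + (γ : F)⁻¹ • r1 σ v u := ⟨_, rfl⟩
  have hGw : ∀ w, G *ᵥ w = ((γ : F) * uh σ w v) • u + ((γ : F)⁻¹ * uh σ w u) • v := fun w => by
    rw [hG, add_mulVec, smul_mulVec, smul_mulVec, r1_mulVec, r1_mulVec, smul_smul, smul_smul]
  have hGu : G *ᵥ u = (γ : F) • u + (0 : F) • v := by rw [hGw, huv, huu]; simp
  have hGv : G *ᵥ v = (0 : F) • u + (γ : F)⁻¹ • v := by rw [hGw, hvu, hvv]; simp
  have hdet : G.det = 1 := by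
    rw [det_two_of_basis huu huv G hGu hGv, mul_inv_cancel₀ γ.ne_zero]; simp
  have hiso : ∀ a b, uh σ (G *ᵥ a) (G *ᵥ b) = uh σ a b := fun a b => by
    obtain ⟨a1, a2, rfl⟩ := SU_two_span huu huv a
    obtain ⟨b1, b2, rfl⟩ := SU_two_span huu huv b
    simp only [mulVec_add, mulVec_smul, hGu, hGv, uh_add_left, uh_add_right, uh_smul_left, uh_smul_right, huu, hvv,
      huv, hvu, map_add, map_mul, map_zero, map_inv₀, hσγ]
    field_simp
    ring
  let g : Cfsg.SU 2 F q := ⟨⟨G, hdet⟩, mem_SU_iff.2 fun a b => by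
    show Cfsg.hermForm 2 F q (G *ᵥ a) (G *ᵥ b) = _
    rw [h.hermForm_eq, h.hermForm_eq, hiso]⟩
  have hp : ∀ j : ℕ, (g ^ j).1.1 *ᵥ u = (γ : F) ^ j • u ∧ (g ^ j).1.1 *ᵥ v = ((γ : F) ^ j)⁻¹ • v := fun j => by
    induction j with
    | zero => simp [su_one_mulVec]
    | succ j ih =>
      rw [pow_succ, su_mul_mulVec, su_mul_mulVec]
      refine ⟨?_, ?_⟩
      · show (g ^ j).1.1 *ᵥ (G *ᵥ u) = _
        rw [hGu, zero_smul, add_zero, mulVec_smul, ih.1, smul_smul, ← pow_succ']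
      · show (g ^ j).1.1 *ᵥ (G *ᵥ v) = _
        rw [hGv, zero_smul, zero_add, mulVec_smul, ih.2, smul_smul, ← mul_inv, ← pow_succ']
  refine ⟨g, Nat.dvd_antisymm (orderOf_dvd_of_pow_eq_one ?_) ?_⟩
  · have e : (γ : F) ^ (q - 1) = 1 := by rw [← hγ, ← Units.val_pow_eq_pow_val, pow_orderOf_eq_one, Units.val_one]
    refine SU_two_ext huu huv ?_ ?_
    · rw [(hp _).1, e, su_one_mulVec, one_smul]
    · rw [(hp _).2, e, su_one_mulVec, inv_one, one_smul]
  · rw [← hγ]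
    refine orderOf_dvd_of_pow_eq_one (Units.ext ?_)
    have h1 := (hp (orderOf g)).1
    rw [pow_orderOf_eq_one, su_one_mulVec] at h1
    have h2 := congrArg (fun w => uh σ w v) h1
    simp only [uh_smul_left, huv, mul_one] at h2
    rw [Units.val_pow_eq_pow_val, Units.val_one, ← h2]

/-- The characteristic. -/
theorem noMult_four_char (hF : Nat.card F = q ^ 2) (h : UFrob σ q) (hq : 4 ≤ q) {r : ℕ} [Fact r.Prime]
    (hrq : r ∣ q) : NoMult r (Cfsg.SU 4 F q) := by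
  obtain ⟨x, hx0, hxx⟩ := exists_iso_vector h (m := 2 + 2) (by norm_num)
  obtain ⟨y, P, s⟩ := exists_split h (m := 2) hx0 hxx
  obtain ⟨θ, hθ⟩ := exists_trace h
  have hf : uh σ (x + θ • y) (x + θ • y) = 1 := by
    simp only [uh_add_left, uh_add_right, uh_smul_left, uh_smul_right, s.xx, s.yy, s.xy, s.yx h]
    linear_combination hθ
  obtain ⟨P3, hP3, hP3f, hdec⟩ := exists_frame_perp h (k := 3) (v := x + θ • y) (by rw [hf]; exact one_ne_zero)
  have hle : (ext h s).range ≤ (frameHom h P3 hP3).range := by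
    rintro _ ⟨M, rfl⟩
    exact mem_perp_range h hP3 hP3f hdec (by rw [mulVec_add, mulVec_smul, ext_x, ext_y])
  obtain ⟨γ, hγ, hσγ⟩ := exists_fixed_gen hF h
  refine noMult_char hF h hrq rfl (by norm_num) (Or.inl hq) s (Or.inr ⟨fun Γ _ _ π hπ hpr g hg => ?_,
    γ, 1, γ.ne_zero, by simp, by rw [hσγ, one_pow, mul_one, div_self γ.ne_zero], ?_⟩)
  · have hinj : Function.Injective (frameHom h P3 hP3) := fun A B e => su_ext fun a => by
      rw [← hP3.apply (A.1.1 *ᵥ a), ← hP3.apply (B.1.1 *ᵥ a), ← frameHom_frame h _ hP3, ← frameHom_frame h _ hP3, e]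
    exact (noMult_three hF h (Or.inl (by omega))).sub _ hinj hπ hpr g
      (Subgroup.commutator_mono (Subgroup.comap_mono hle) (Subgroup.comap_mono hle) hg)
  · rw [hσγ, mul_one]
    intro e
    have : orderOf γ = 1 := orderOf_eq_one_iff.2 (Units.ext e)
    omega

/-- An odd prime dividing `q - 1`. -/
theorem noMult_four_split (hF : Nat.card F = q ^ 2) (h : UFrob σ q) {r : ℕ} [hr : Fact r.Prime] (hodd : r ≠ 2)
    (hd : r ∣ q - 1) : NoMult r (Cfsg.SU 4 F q) := by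
  have hq := two_le_q hF
  have hrq : ¬ r ∣ q := fun e => hr.out.not_dvd_one
    ((Nat.dvd_sub e hd).trans (by rw [show q - (q - 1) = 1 by omega]))
  obtain ⟨G, hG⟩ := exists_tor_two hF h
  have h01 : Function.Injective (![0, 1] : Fin 2 → Fin 4) := pair_inj (by decide)
  have h23 : Function.Injective (![2, 3] : Fin 2 → Fin 4) := pair_inj (by decide)
  have hcm : ∀ A B : Cfsg.SU 2 F q, blk h h01 A * blk h h23 B = blk h h23 B * blk h h01 A := fun A B => by
    refine su_ext fun u => funext fun j => ?_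
    rw [su_mul_mulVec, su_mul_mulVec]
    fin_cases j
    · refine (blk_in h h01 A _ 0).trans (Eq.trans ?_ (blk_out h h23 B _ (fun i => by fin_cases i <;> simp)).symm)
      rw [show ((blk h h23 B).1.1 *ᵥ u) ∘ ![0, 1] = u ∘ ![0, 1] from funext fun i => by
        refine blk_out h h23 B u fun l => ?_
        fin_cases i <;> fin_cases l <;> simp]
      exact (blk_in h h01 A u 0).symm
    · refine (blk_in h h01 A _ 1).trans (Eq.trans ?_ (blk_out h h23 B _ (fun i => by fin_cases i <;> simp)).symm)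
      rw [show ((blk h h23 B).1.1 *ᵥ u) ∘ ![0, 1] = u ∘ ![0, 1] from funext fun i => by
        refine blk_out h h23 B u fun l => ?_
        fin_cases i <;> fin_cases l <;> simp]
      exact (blk_in h h01 A u 1).symm
    · refine (blk_out h h01 A _ (fun i => by fin_cases i <;> simp)).trans (Eq.trans ?_ (blk_in h h23 B _ 0).symm)
      rw [show ((blk h h01 A).1.1 *ᵥ u) ∘ ![2, 3] = u ∘ ![2, 3] from funext fun i => by
        refine blk_out h h01 A u fun l => ?_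
        fin_cases i <;> fin_cases l <;> simp]
      exact blk_in h h23 B u 0
    · refine (blk_out h h01 A _ (fun i => by fin_cases i <;> simp)).trans (Eq.trans ?_ (blk_in h h23 B _ 1).symm)
      rw [show ((blk h h01 A).1.1 *ᵥ u) ∘ ![2, 3] = u ∘ ![2, 3] from funext fun i => by
        refine blk_out h h01 A u fun l => ?_
        fin_cases i <;> fin_cases l <;> simp]
      exact blk_in h h23 B u 1
  obtain ⟨A, hA⟩ : ∃ A, A = Subgroup.zpowers (blk h h01 G) := ⟨_, rfl⟩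
  obtain ⟨B, hB⟩ : ∃ B, B = Subgroup.zpowers (blk h h23 G) := ⟨_, rfl⟩
  refine NoMult.of_subgroup (A ⊔ B) (index_not_dvd _ (c := (q - 1) * (q - 1))
    (i := q ^ 6 * ((q + 1) ^ 3 * ((q * q + 1) * (q * q - q + 1)))) ?_ ?_ ?_) fun Γ _ _ π hπ hpr => ?_
  · rw [card_sup_comm A B, hA, hB, Nat.card_zpowers, Nat.card_zpowers, orderOf_injective _ (blk_injective h h01),
      orderOf_injective _ (blk_injective h h23), hG]
    · rw [hA, hB]
      rintro a ⟨i, rfl⟩ b ⟨j, rfl⟩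
      exact ((show Commute (blk h h01 G) (blk h h23 G) from hcm G G).zpow_zpow i j).eq
    · rw [hA, hB]
      intro a ha hb
      have ha' := Subgroup.zpowers_le.2 (show blk h h01 G ∈ (blk h h01).range from ⟨G, rfl⟩) ha
      have hb' := Subgroup.zpowers_le.2 (show blk h h23 G ∈ (blk h h23).range from ⟨G, rfl⟩) hb
      rw [mem_blk_range] at ha' hb'
      refine su_ext fun u => ?_
      obtain ⟨u1, hu1⟩ : ∃ u1 : Fin 4 → F, u1 = ![u 0, u 1, 0, 0] := ⟨_, rfl⟩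
      rw [show u = u1 + (u - u1) by abel, mulVec_add, hb' u1 (fun i => by fin_cases i <;> simp [hu1]),
        ha' (u - u1) (fun i => by fin_cases i <;> simp [hu1]), su_one_mulVec]
  · rw [card_SU_four hF]; ring
  · intro hdiv
    rcases hr.out.dvd_mul.1 hdiv with h1 | h1
    · exact hrq (hr.out.dvd_of_dvd_pow h1)
    rcases hr.out.dvd_mul.1 h1 with h2 | h2
    · have h3 := Nat.dvd_sub (hr.out.dvd_of_dvd_pow h2) hd
      rw [show q + 1 - (q - 1) = 2 by omega] at h3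
      exact hodd ((Nat.prime_dvd_prime_iff_eq hr.out Nat.prime_two).1 h3)
    rcases hr.out.dvd_mul.1 h2 with h4 | h4
    · have h3 : r ∣ q * q - 1 := by
        rw [show q * q - 1 = (q + 1) * (q - 1) by rw [← sq, sq_sub_one]]
        exact hd.trans (dvd_mul_left _ _)
      have h5 := Nat.dvd_sub h4 h3
      have : 1 ≤ q * q := Nat.mul_pos (by omega) (by omega)
      rw [show q * q + 1 - (q * q - 1) = 2 by omega] at h5
      exact hodd ((Nat.prime_dvd_prime_iff_eq hr.out Nat.prime_two).1 h5)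
    · have h3 : r ∣ q * q - q := by rw [← Nat.mul_sub_one]; exact hd.trans (dvd_mul_left _ _)
      exact hr.out.not_dvd_one ((Nat.dvd_add_right h3).1 h4)
  have hAB : LiftComm π (blk h h01 G) (blk h h23 G) :=
    liftComm_block hF h hπ hpr hrq _ (transvGroup_two hF h) (fun M => hcm G M) G
  have hself : ∀ g : Cfsg.SU 4 F q, LiftComm π g g := fun g => by
    obtain ⟨a, ha⟩ := hπ.surj g
    exact (liftComm_iff hπ ha ha).2 rfl
  have hgen : ∀ g ∈ ({blk h h01 G, blk h h23 G} : Set (Cfsg.SU 4 F q)), A ⊔ B ≤ cLift hπ g := fun g hg => by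
    rw [hA, hB]
    rcases hg with rfl | rfl
    · exact sup_le (Subgroup.zpowers_le.2 (hself _)) (Subgroup.zpowers_le.2 hAB)
    · exact sup_le (Subgroup.zpowers_le.2 hAB.symm) (Subgroup.zpowers_le.2 (hself _))
  have hall : ∀ a ∈ A ⊔ B, ∀ b ∈ A ⊔ B, LiftComm π a b := fun a ha b hb => by
    have hle : A ⊔ B ≤ cLift hπ b := by
      rw [hA, hB]
      exact sup_le (Subgroup.zpowers_le.2 (hgen _ (Or.inl rfl) hb).symm)
        (Subgroup.zpowers_le.2 (hgen _ (Or.inr rfl) hb).symm)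
    exact (hle ha).symm
  have := abExt_one hπ _ hall 1 (fun t ht => by simpa using ht) fun t _ _ => ((cLift hπ t).one_mem).symm
  rwa [Subgroup.zpowers_one_eq_bot, sup_bot_eq] at this

/-- The prime `2` for odd `q`. -/
theorem noMult_four_two (hF : Nat.card F = q ^ 2) (h : UFrob σ q) (hodd : ¬ 2 ∣ q) :
    NoMult 2 (Cfsg.SU 4 F q) := by
  classical
  haveI : Fact (Nat.Prime 2) := ⟨Nat.prime_two⟩
  have hq := two_le_q hF
  have hq3 : 3 ≤ q := by omega
  obtain ⟨m, hm⟩ : ∃ m, q + 1 = 2 * m := ⟨(q + 1) / 2, by omega⟩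
  have h01 : Function.Injective (![0, 1] : Fin 2 → Fin 4) := pair_inj (by decide)
  have h23 : Function.Injective (![2, 3] : Fin 2 → Fin 4) := pair_inj (by decide)
  obtain ⟨L1, hL1⟩ : ∃ L, L = (blk h h01 : Cfsg.SU 2 F q →* Cfsg.SU 4 F q).range := ⟨_, rfl⟩
  obtain ⟨L2, hL2⟩ : ∃ L, L = (blk h h23 : Cfsg.SU 2 F q →* Cfsg.SU 4 F q).range := ⟨_, rfl⟩
  have m1 : ∀ g, g ∈ L1 ↔ ∀ w : Fin 4 → F, w 0 = 0 → w 1 = 0 → g.1.1 *ᵥ w = w := fun g => by
    rw [hL1, mem_blk_range]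
    exact ⟨fun hg w a b => hg w (fun i => by fin_cases i <;> simp [a, b]), fun hg w hw => hg w (hw 0) (hw 1)⟩
  have m2 : ∀ g, g ∈ L2 ↔ ∀ w : Fin 4 → F, w 2 = 0 → w 3 = 0 → g.1.1 *ᵥ w = w := fun g => by
    rw [hL2, mem_blk_range]
    exact ⟨fun hg w a b => hg w (fun i => by fin_cases i <;> simp [a, b]), fun hg w hw => hg w (hw 0) (hw 1)⟩
  have hdisj : ∀ a ∈ L1, a ∈ L2 → a = 1 := fun a ha hb => by
    refine su_ext fun u => ?_
    obtain ⟨u1, hu1⟩ : ∃ u1 : Fin 4 → F, u1 = ![u 0, u 1, 0, 0] := ⟨_, rfl⟩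
    rw [show u = u1 + (u - u1) by abel, mulVec_add, (m2 a).1 hb u1 (by simp [hu1]) (by simp [hu1]),
      (m1 a).1 ha (u - u1) (by simp [hu1]) (by simp [hu1]), su_one_mulVec]
  -- the values of block elements off their coordinates
  have o1 : ∀ a ∈ L1, ∀ (u : Fin 4 → F), (a.1.1 *ᵥ u) 2 = u 2 ∧ (a.1.1 *ᵥ u) 3 = u 3 := fun a ha u => by
    rw [hL1] at ha
    obtain ⟨M, rfl⟩ := ha
    exact ⟨blk_out h h01 M u (fun i => by fin_cases i <;> simp), blk_out h h01 M u (fun i => by fin_cases i <;> simp)⟩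
  have o2 : ∀ a ∈ L2, ∀ (u : Fin 4 → F), (a.1.1 *ᵥ u) 0 = u 0 ∧ (a.1.1 *ᵥ u) 1 = u 1 := fun a ha u => by
    rw [hL2] at ha
    obtain ⟨M, rfl⟩ := ha
    exact ⟨blk_out h h23 M u (fun i => by fin_cases i <;> simp), blk_out h h23 M u (fun i => by fin_cases i <;> simp)⟩
  have hcomm : ∀ a ∈ L1, ∀ b ∈ L2, a * b = b * a := fun a ha b hb => by
    refine su_ext fun u => ?_
    obtain ⟨u1, hu1⟩ : ∃ u1 : Fin 4 → F, u1 = ![u 0, u 1, 0, 0] := ⟨_, rfl⟩
    have eb1 : b.1.1 *ᵥ u1 = u1 := (m2 b).1 hb u1 (by simp [hu1]) (by simp [hu1])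
    have ea2 : a.1.1 *ᵥ (u - u1) = u - u1 := (m1 a).1 ha _ (by simp [hu1]) (by simp [hu1])
    have eb2 : b.1.1 *ᵥ (a.1.1 *ᵥ u1) = a.1.1 *ᵥ u1 :=
      (m2 b).1 hb _ (by rw [(o1 a ha u1).1]; simp [hu1]) (by rw [(o1 a ha u1).2]; simp [hu1])
    have ea1 : a.1.1 *ᵥ (b.1.1 *ᵥ (u - u1)) = b.1.1 *ᵥ (u - u1) :=
      (m1 a).1 ha _ (by rw [(o2 b hb (u - u1)).1]; simp [hu1]) (by rw [(o2 b hb (u - u1)).2]; simp [hu1])
    rw [su_mul_mulVec, su_mul_mulVec, show u = u1 + (u - u1) by abel, mulVec_add, mulVec_add, mulVec_add, mulVec_add,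
      eb1, ea2, ea1, eb2]
  obtain ⟨lam, hlam, -, hord⟩ := exists_lam hF
  have hl0 : lam ≠ 0 := fun e => by rw [e, zero_pow (Nat.succ_ne_zero q)] at hlam; exact zero_ne_one hlam
  have hlm : lam ^ m = -1 := by
    have h1 : lam ^ m * lam ^ m = 1 := by rw [← pow_add, ← two_mul, ← hm, hlam]
    refine (mul_self_eq_one_iff.1 h1).resolve_left fun e => ?_
    have := Nat.le_of_dvd (by omega) (hord m e)
    omega
  obtain ⟨x, hx⟩ := exists_dg (q := q) ![lam, 1, lam⁻¹, 1] (fun i => by fin_cases i <;> simp [hlam, inv_pow])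
    (by simp [Fin.prod_univ_four, hl0])
  have hxp : ∀ j : ℕ, IsMon (x ^ j) 1 fun l => (![lam, 1, lam⁻¹, 1] : Fin 4 → F) l ^ j := fun j => by
    induction j with
    | zero => simpa using IsMon.one
    | succ j ih => simpa [pow_succ] using ih.mul_diag hx
  obtain ⟨e, he⟩ := exists_dg (q := q) ![(-1 : F), -1, 1, 1]
    (fun i => by fin_cases i <;> simp [show Even (q + 1) from Nat.even_iff.2 (by omega)])
    (by simp [Fin.prod_univ_four])
  have h02 : (0 : Fin 4) ≠ 2 := by decide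
  have h13 : (1 : Fin 4) ≠ 3 := by decide
  obtain ⟨w, hwd⟩ : ∃ w : Cfsg.SU 4 F q, w = e * (sw hF h02 * sw hF h13) := ⟨_, rfl⟩
  obtain ⟨p, hp⟩ : ∃ p : Equiv.Perm (Fin 4), p = Equiv.swap 1 3 * Equiv.swap 0 2 := ⟨_, rfl⟩
  have hw : IsMon w p fun _ => (1 : F) := by
    have := he.mul ((sw_mon hF h02).mul (sw_mon hF h13))
    rw [mul_one, ← hp, ← hwd] at this
    convert this using 1
    funext i
    fin_cases i <;> simp [Equiv.swap_apply_def]
  have pv : p 0 = 2 ∧ p 1 = 3 ∧ p 2 = 0 ∧ p 3 = 1 := by rw [hp]; decide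
  have hww : w * w = 1 := by
    refine (hw.mul hw).ext ?_
    rw [show p * p = 1 by rw [hp]; decide]
    simpa using IsMon.one
  have hwx : w * x * w⁻¹ = x⁻¹ := by
    refine hw.conj hx ?_
    convert hx.inv_diag using 1
    funext i; fin_cases i <;> simp [pv]
  have nx1 : ∀ g ∈ L1, x * g * x⁻¹ ∈ L1 := fun g hg => by
    rw [hL1] at hg ⊢
    exact hx.conj_blk h _ _ (fun i => ⟨i, rfl⟩) (fun i => ⟨i, rfl⟩) hg
  have nx2 : ∀ g ∈ L2, x * g * x⁻¹ ∈ L2 := fun g hg => by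
    rw [hL2] at hg ⊢
    exact hx.conj_blk h _ _ (fun i => ⟨i, rfl⟩) (fun i => ⟨i, rfl⟩) hg
  have nw1 : ∀ g ∈ L1, w * g * w⁻¹ ∈ L2 := fun g hg => by
    rw [hL1] at hg
    rw [hL2]
    refine hw.conj_blk h _ _ (fun i => ⟨i, ?_⟩) (fun i => ⟨i, ?_⟩) hg <;> fin_cases i <;> simp [pv]
  have nw2 : ∀ g ∈ L2, w * g * w⁻¹ ∈ L1 := fun g hg => by
    rw [hL2] at hg
    rw [hL1]
    refine hw.conj_blk h _ _ (fun i => ⟨i, ?_⟩) (fun i => ⟨i, ?_⟩) hg <;> fin_cases i <;> simp [pv]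
  have hsep : ∀ j : ℕ, x ^ j ∈ L1 ⊔ L2 → lam ^ j = 1 := fun j hj => by
    rw [← SetLike.mem_coe, Subgroup.coe_mul_of_right_le_normalizer_left L1 L2 (fun b hb =>
      Subgroup.mem_normalizer_fintype fun a ha => by rw [← hcomm a ha b hb, mul_inv_cancel_right]; exact ha)] at hj
    obtain ⟨a, ha, b, hb, ab⟩ := Set.mem_mul.1 hj
    rw [hL1] at ha
    obtain ⟨M, rfl⟩ := ha
    have hb1 : ∀ u : Fin 4 → F, u 2 = 0 → u 3 = 0 → b.1.1 *ᵥ u = u := (m2 b).1 hb
    have hMd : IsMon M 1 ![lam ^ j, 1] := by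
      refine ⟨fun u i => ?_, fun i => by fin_cases i <;> simp [hl0]⟩
      obtain ⟨U, hU⟩ : ∃ U : Fin 4 → F, U = ![u 0, u 1, 0, 0] := ⟨_, rfl⟩
      have hUu : U ∘ ![0, 1] = u := funext fun l => by fin_cases l <;> simp [hU]
      have h1 := (hxp j).1 U ((![0, 1] : Fin 2 → Fin 4) i)
      rw [← ab, su_mul_mulVec, hb1 U (by simp [hU]) (by simp [hU]), blk_in h h01 M U i, hUu,
        Equiv.Perm.one_apply] at h1
      rw [h1, Equiv.Perm.one_apply]
      fin_cases i <;> simp [hU]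
    simpa [Fin.prod_univ_two] using hMd.prod
  obtain ⟨L, hL⟩ : ∃ L, L = L1 ⊔ L2 := ⟨_, rfl⟩
  rw [← hL] at hsep
  have nxL : ∀ g ∈ L, x * g * x⁻¹ ∈ L := fun g hg => by
    have hle : L ≤ L.comap (MulAut.conj x).toMonoidHom := by
      nth_rewrite 1 [hL]
      exact sup_le (fun a ha => hL ▸ Subgroup.mem_sup_left (nx1 a ha))
        fun a ha => hL ▸ Subgroup.mem_sup_right (nx2 a ha)
    exact hle hg
  have nwL : ∀ g ∈ L, w * g * w⁻¹ ∈ L := fun g hg => by
    have hle : L ≤ L.comap (MulAut.conj w).toMonoidHom := by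
      nth_rewrite 1 [hL]
      exact sup_le (fun a ha => hL ▸ Subgroup.mem_sup_right (nw1 a ha))
        fun a ha => hL ▸ Subgroup.mem_sup_left (nw2 a ha)
    exact hle hg
  have nwLx : ∀ g ∈ L ⊔ Subgroup.zpowers x, w * g * w⁻¹ ∈ L ⊔ Subgroup.zpowers x := fun g hg => by
    have hle : L ⊔ Subgroup.zpowers x ≤ (L ⊔ Subgroup.zpowers x).comap (MulAut.conj w).toMonoidHom := by
      refine sup_le (fun a ha => Subgroup.mem_sup_left (nwL a ha)) (Subgroup.zpowers_le.2 ?_)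
      show w * x * w⁻¹ ∈ L ⊔ Subgroup.zpowers x
      rw [hwx]
      exact Subgroup.inv_mem _ (Subgroup.mem_sup_right (Subgroup.mem_zpowers x))
    exact hle hg
  have hwn : w ∉ L ⊔ Subgroup.zpowers x := fun hwm => by
    have hle : L ⊔ Subgroup.zpowers x ≤ Subgroup.normalizer (L1 : Set (Cfsg.SU 4 F q)) := by
      rw [hL]
      refine sup_le (sup_le Subgroup.le_normalizer fun b hb => Subgroup.mem_normalizer_fintype fun a ha => ?_)
        (Subgroup.zpowers_le.2 (Subgroup.mem_normalizer_fintype nx1))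
      rw [← hcomm a ha b hb, mul_inv_cancel_right]; exact ha
    obtain ⟨g, hg⟩ : ∃ g : Cfsg.SU 2 F q, g ≠ 1 := by
      obtain ⟨G, hG⟩ := exists_tor_two hF h
      refine ⟨G, fun e => ?_⟩
      rw [e, orderOf_one] at hG
      omega
    have h1 : blk h h01 g ∈ L1 := hL1 ▸ ⟨g, rfl⟩
    have h2 := (Subgroup.mem_normalizer_iff.1 (hle hwm) _).1 h1
    have h3 := hdisj _ h2 (nw1 _ h1)
    rw [conj_eq_one_iff] at h3
    exact hg (blk_injective h h01 (h3.trans (map_one _).symm))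
  obtain ⟨H, hH⟩ : ∃ H, H = L ⊔ Subgroup.zpowers x ⊔ Subgroup.zpowers w := ⟨_, rfl⟩
  refine NoMult.of_subgroup H (index_not_dvd _
    (c := Nat.card (Cfsg.SU 2 F q) * Nat.card (Cfsg.SU 2 F q) * (q + 1) * 2)
    (i := q ^ 4 * ((q * q + 1) / 2 * (q * q - q + 1))) ?_ ?_ ?_) fun Γ _ _ π hπ hpr => ?_
  · rw [hH, card_extend_prime _ _ Nat.prime_two nwLx (by rw [sq, hww]; exact Subgroup.one_mem _) hwn,
      card_extend L x (q + 1) (Nat.succ_pos q) nxL ?_ ?_, hL, card_sup_comm L1 L2 hcomm hdisj, hL1, hL2,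
      Nat.card_congr (MonoidHom.ofInjective (blk_injective h h01)).symm.toEquiv,
      Nat.card_congr (MonoidHom.ofInjective (blk_injective h h23)).symm.toEquiv]
    · have : x ^ (q + 1) = 1 := by
        refine (hxp _).ext ?_
        convert IsMon.one (n := 4) (F := F) (q := q) using 1
        funext i; fin_cases i <;> simp [hlam, inv_pow]
      rw [this]; exact L.one_mem
    · intro j hj hjq hm
      have := Nat.le_of_dvd hj (hord j (hsep j hm))
      omega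
  · rw [card_SU_four hF, card_SU_two hF, sq_sub_one]
    obtain ⟨j, hj⟩ : ∃ j, q * q + 1 = 2 * j := by
      have : Odd (q * q) := (Nat.odd_iff.2 (by omega : q % 2 = 1)).mul (Nat.odd_iff.2 (by omega : q % 2 = 1))
      exact ⟨(q * q + 1) / 2, by rw [Nat.odd_iff] at this; omega⟩
    rw [hj, Nat.mul_div_cancel_left _ two_pos]
    ring
  · intro hdiv
    rcases Nat.prime_two.dvd_mul.1 hdiv with h1 | h1
    · exact hodd (Nat.prime_two.dvd_of_dvd_pow h1)
    rcases Nat.prime_two.dvd_mul.1 h1 with h3 | h3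
    · obtain ⟨t, ht⟩ : ∃ t, q = 2 * t + 1 := ⟨q / 2, by omega⟩
      have : q * q = 4 * (t * t + t) + 1 := by rw [ht]; ring
      omega
    · have h5 : 2 ∣ q * q - q := by
        rw [← Nat.mul_sub_one]
        exact (show 2 ∣ q - 1 by omega).trans (dvd_mul_left _ _)
      omega
  have hperf := su_commutator_eq_top hF h (n := 3) le_rfl (fun _ => hq3)
  have hinjA : Function.Injective (![0, 1, 2] : Fin 3 → Fin 4) := by decide
  have hinjB : Function.Injective (![1, 2, 3] : Fin 3 → Fin 4) := by decide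
  have hN := noMult_three (r := 2) hF h (Or.inr rfl)
  obtain ⟨D1, hD1⟩ : ∃ D, D = qGen q π L1 := ⟨_, rfl⟩
  obtain ⟨D2, hD2⟩ : ∃ D, D = qGen q π L2 := ⟨_, rfl⟩
  have k1 : ∀ g ∈ D1, π g = 1 → g = 1 := by
    rw [hD1]
    refine qGen_ker hπ hpr hodd _ (blk_injective h hinjA) hperf hN fun g hg => ?_
    rw [mem_blk_range]
    exact fun u hu => (m1 g).1 hg u (hu 0) (hu 1)
  have k2 : ∀ g ∈ D2, π g = 1 → g = 1 := by
    rw [hD2]
    refine qGen_ker hπ hpr hodd _ (blk_injective h hinjB) hperf hN fun g hg => ?_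
    rw [mem_blk_range]
    exact fun u hu => (m2 g).1 hg u (hu 1) (hu 2)
  have s1 : L1 ≤ D1.map π := by rw [hD1, hL1]; exact qGen_surj hF h hπ hpr hodd _
  have s2 : L2 ≤ D2.map π := by rw [hD2, hL2]; exact qGen_surj hF h hπ hpr hodd _
  have l1 : ∀ g ∈ D1, π g ∈ L1 := fun g hg => qGen_le π L1 (hD1 ▸ hg)
  have l2 : ∀ g ∈ D2, π g ∈ L2 := fun g hg => qGen_le π L2 (hD2 ▸ hg)
  have hlc : ∀ a ∈ L1, ∀ b ∈ L2, LiftComm π a b := fun a ha b hb => by
    rw [hL2] at hb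
    obtain ⟨M, rfl⟩ := hb
    exact liftComm_block hF h hπ hpr hodd _ (transvGroup_two hF h) (fun M => hcomm a ha _ (hL2 ▸ ⟨M, rfl⟩)) M
  have hDc : ∀ a ∈ D1, ∀ b ∈ D2, a * b = b * a := fun a ha b hb => hlc _ (l1 a ha) _ (l2 b hb) a b rfl rfl
  obtain ⟨X, hX⟩ := hπ.surj x
  obtain ⟨W, hW⟩ := hπ.surj w
  obtain ⟨D, hD⟩ : ∃ D, D = D1 ⊔ D2 := ⟨_, rfl⟩
  have nX1 : ∀ g ∈ D1, X * g * X⁻¹ ∈ D1 := fun g hg =>
    hD1 ▸ qGen_conj π L1 L1 (by rw [hX]; exact nx1) (hD1 ▸ hg)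
  have nX2 : ∀ g ∈ D2, X * g * X⁻¹ ∈ D2 := fun g hg =>
    hD2 ▸ qGen_conj π L2 L2 (by rw [hX]; exact nx2) (hD2 ▸ hg)
  have nW1 : ∀ g ∈ D1, W * g * W⁻¹ ∈ D2 := fun g hg =>
    hD2 ▸ qGen_conj π L1 L2 (by rw [hW]; exact nw1) (hD1 ▸ hg)
  have nW2 : ∀ g ∈ D2, W * g * W⁻¹ ∈ D1 := fun g hg =>
    hD1 ▸ qGen_conj π L2 L1 (by rw [hW]; exact nw2) (hD2 ▸ hg)
  have nXD : ∀ g ∈ D, X * g * X⁻¹ ∈ D := fun g hg => by
    have hle : D ≤ D.comap (MulAut.conj X).toMonoidHom := by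
      nth_rewrite 1 [hD]
      exact sup_le (fun a ha => hD ▸ Subgroup.mem_sup_left (nX1 a ha))
        fun a ha => hD ▸ Subgroup.mem_sup_right (nX2 a ha)
    exact hle hg
  have nWD : ∀ g ∈ D, W * g * W⁻¹ ∈ D := fun g hg => by
    have hle : D ≤ D.comap (MulAut.conj W).toMonoidHom := by
      nth_rewrite 1 [hD]
      exact sup_le (fun a ha => hD ▸ Subgroup.mem_sup_right (nW1 a ha))
        fun a ha => hD ▸ Subgroup.mem_sup_left (nW2 a ha)
    exact hle hg
  obtain ⟨z, hz, e1⟩ : ∃ z ∈ π.ker, W * X * W⁻¹ = X⁻¹ * z := exists_eq_mul (by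
    rw [map_mul, map_mul, map_inv, map_inv, hW, hX, hwx])
  have hzc : ∀ g : Γ, Commute g z := fun g => hπ.ker_comm hz g
  -- the lifts of `x ^ m` and `w` commute
  have hxm : LiftComm π (x ^ m) w := by
    have hxm' : IsMon (x ^ m) 1 ![(-1 : F), 1, -1, 1] := by
      convert hxp m using 1
      funext i; fin_cases i <;> simp [hlm, inv_pow]
    have hxe : LiftComm π e x := by
      obtain ⟨E, hE, eE⟩ := s1 ((m1 e).2 fun u a b => funext fun i => by
        rw [he.1, Equiv.Perm.one_apply]; fin_cases i <;> simp [a, b])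
      refine (liftComm_iff hπ eE hX).2 ?_
      have : (X * E * X⁻¹) * E⁻¹ = 1 := k1 _ (D1.mul_mem (nX1 E hE) (D1.inv_mem hE)) (by
        rw [map_mul, map_mul, map_mul, map_inv, map_inv, hX, eE, tSub_comm ⟨_, hx⟩ ⟨_, he⟩, mul_inv_cancel_right,
          mul_inv_cancel])
      rw [mul_inv_eq_one, mul_inv_eq_iff_eq_mul] at this
      exact this.symm
    rw [hwd]
    exact (cLift hπ (x ^ m)).mul_mem ((cLift hπ e).pow_mem hxe m).symm ((cLift hπ (x ^ m)).mul_mem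
      (diag_sw hF h hπ hpr hodd hxm' h02 (by simp)) (diag_sw hF h hπ hpr hodd hxm' h13 (by simp)))
  obtain ⟨v, hv⟩ : ∃ v, v = ⁅W, X⁆ := ⟨_, rfl⟩
  have hve : v = (X * X)⁻¹ * z := by
    rw [hv, commutatorElement_def, e1, mul_assoc, ← (hzc X⁻¹).eq, ← mul_assoc, ← _root_.mul_inv_rev]
  have hXX : W * (X * X) * W⁻¹ = (X * X)⁻¹ * (z * z) := by
    rw [show W * (X * X) * W⁻¹ = (W * X * W⁻¹) * (W * X * W⁻¹) by group, e1,
      show X⁻¹ * z * (X⁻¹ * z) = X⁻¹ * (z * X⁻¹) * z by group, ← (hzc X⁻¹).eq]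
    group
  have hWv : W * v * W⁻¹ = v⁻¹ := by
    rw [hve, show W * ((X * X)⁻¹ * z) * W⁻¹ = (W * (X * X) * W⁻¹)⁻¹ * (W * z * W⁻¹) by group, hXX,
      hπ.ker_comm hz W, mul_inv_cancel_right,
      show ∀ Y : Γ, (Y⁻¹ * (z * z))⁻¹ * z = z⁻¹ * z⁻¹ * (Y * z) from fun Y => by group, (hzc (X * X)).eq]
    generalize X * X = Y
    group
  have hXv : X * v * X⁻¹ = v := by
    have : Commute X v := hve ▸ (((Commute.refl X).mul_right (Commute.refl X)).inv_right.mul_right (hzc X))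
    rw [this.eq, mul_inv_cancel_right]
  have hvm : v ^ m = 1 := by
    have e2 : W * X ^ m * W⁻¹ = X ^ m := by
      rw [← hxm (X ^ m) W (by rw [map_pow, hX]) hW, mul_inv_cancel_right]
    rw [← conj_pow, e1, (hzc X⁻¹).mul_pow, inv_pow, inv_mul_eq_iff_eq_mul] at e2
    rw [hve, (hzc _).mul_pow, inv_pow, (Commute.refl X).mul_pow, e2, inv_mul_cancel]
  obtain ⟨K, hK⟩ : ∃ K, K = D ⊔ Subgroup.zpowers v := ⟨_, rfl⟩
  have hDv : ∀ g ∈ D, v * g * v⁻¹ ∈ D := fun g hg => by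
    rw [hv, show ⁅W, X⁆ * g * ⁅W, X⁆⁻¹ = W * (X * (W⁻¹ * (X⁻¹ * g * X) * W) * X⁻¹) * W⁻¹ by
      simp only [commutatorElement_def]; group]
    refine nWD _ (nXD _ ?_)
    have i1 : X⁻¹ * g * X ∈ D := by
      have := ((Subgroup.normalizer (D : Set Γ)).inv_mem (Subgroup.mem_normalizer_fintype nXD))
      simpa using (Subgroup.mem_normalizer_iff.1 this g).1 hg
    have := ((Subgroup.normalizer (D : Set Γ)).inv_mem (Subgroup.mem_normalizer_fintype nWD))
    simpa using (Subgroup.mem_normalizer_iff.1 this _).1 i1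
  refine inf_comm_eq_bot hπ {g | g ∈ D ∨ g = X ∨ g = W} K (fun g hg => ?_) (fun g hg k hk => ?_) ?_ ?_
  · have hle : H ≤ (Subgroup.closure ({g | g ∈ D ∨ g = X ∨ g = W} ∪ (π.ker : Set Γ))).map π := by
      rw [hH, hL]
      refine sup_le (sup_le (sup_le (fun a ha => ?_) fun a ha => ?_) (Subgroup.zpowers_le.2 ?_))
        (Subgroup.zpowers_le.2 ?_)
      · obtain ⟨d, hd, ed⟩ := s1 ha
        exact ⟨d, Subgroup.subset_closure (Set.mem_union_left _ (Or.inl (hD ▸ Subgroup.mem_sup_left hd))), ed⟩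
      · obtain ⟨d, hd, ed⟩ := s2 ha
        exact ⟨d, Subgroup.subset_closure (Set.mem_union_left _ (Or.inl (hD ▸ Subgroup.mem_sup_right hd))), ed⟩
      · exact ⟨X, Subgroup.subset_closure (Set.mem_union_left _ (Or.inr (Or.inl rfl))), hX⟩
      · exact ⟨W, Subgroup.subset_closure (Set.mem_union_left _ (Or.inr (Or.inr rfl))), hW⟩
    obtain ⟨u, hu, eu⟩ := hle hg
    obtain ⟨y, hy, rfl⟩ := exists_eq_mul (σ := π) eu.symm
    exact Subgroup.mul_mem _ hu (Subgroup.subset_closure (Set.mem_union_right _ hy))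
  · have key : ∀ u : Γ, (∀ d ∈ D, u * d * u⁻¹ ∈ D) → u * v * u⁻¹ ∈ K → u * k * u⁻¹ ∈ K := fun u h1 h2 => by
      have hle : K ≤ K.comap (MulAut.conj u).toMonoidHom := by
        nth_rewrite 1 [hK]
        exact sup_le (fun d hd => hK ▸ Subgroup.mem_sup_left (h1 d hd)) (Subgroup.zpowers_le.2 h2)
      exact hle hk
    rcases hg with hg | rfl | rfl
    · have : g ∈ K := hK ▸ Subgroup.mem_sup_left hg
      exact K.mul_mem (K.mul_mem this hk) (K.inv_mem this)
    · exact key _ nXD (by rw [hXv, hK]; exact Subgroup.mem_sup_right (Subgroup.mem_zpowers v))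
    · exact key _ nWD (by rw [hWv, hK]; exact Subgroup.inv_mem _ (Subgroup.mem_sup_right (Subgroup.mem_zpowers v)))
  · have iD : ∀ g ∈ D, g ∈ K := fun g hg => hK ▸ Subgroup.mem_sup_left hg
    have hc : ∀ u : Γ, (∀ d ∈ D, u * d * u⁻¹ ∈ D) → ∀ d ∈ D, ⁅u, d⁆ ∈ K := fun u hu d hd => by
      rw [commutatorElement_def]; exact iD _ (D.mul_mem (hu d hd) (D.inv_mem hd))
    have hc' : ∀ u : Γ, (∀ d ∈ D, u * d * u⁻¹ ∈ D) → ∀ d ∈ D, ⁅d, u⁆ ∈ K := fun u hu d hd => by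
      rw [← commutatorElement_inv]; exact K.inv_mem (hc u hu d hd)
    have hvK : ⁅W, X⁆ ∈ K := hK ▸ hv ▸ Subgroup.mem_sup_right (Subgroup.mem_zpowers v)
    rintro a (ha | rfl | rfl) b (hb | rfl | rfl)
    · rw [commutatorElement_def]; exact iD _ (D.mul_mem (D.mul_mem (D.mul_mem ha hb) (D.inv_mem ha)) (D.inv_mem hb))
    · exact hc' _ nXD a ha
    · exact hc' _ nWD a ha
    · exact hc _ nXD b hb
    · rw [commutatorElement_self]; exact K.one_mem
    · rw [← commutatorElement_inv]; exact K.inv_mem hvK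
    · exact hc _ nWD b hb
    · exact hvK
    · rw [commutatorElement_self]; exact K.one_mem
  · intro k hk hk1
    rw [hK, ← SetLike.mem_coe, Subgroup.coe_mul_of_right_le_normalizer_left D _
      (Subgroup.zpowers_le.2 (Subgroup.mem_normalizer_fintype hDv))] at hk
    obtain ⟨d, hd, u, hu, rfl⟩ := Set.mem_mul.1 hk
    obtain ⟨j, rfl⟩ : u ∈ Submonoid.powers v := by rwa [mem_powers_iff_mem_zpowers]
    simp only at hk1 ⊢
    rw [hD, Subgroup.coe_mul_of_right_le_normalizer_left D1 D2 (fun b hb =>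
      Subgroup.mem_normalizer_fintype fun a ha => by rw [← hDc a ha b hb, mul_inv_cancel_right]; exact ha)] at hd
    obtain ⟨a, ha, b, hb, rfl⟩ := Set.mem_mul.1 hd
    have hvπ : π (v ^ j) = (x ^ (2 * j))⁻¹ := by
      rw [map_pow, hve, map_mul, hz, mul_one, map_inv, map_mul, hX, inv_pow, ← sq, ← pow_mul]
    rw [map_mul, hvπ, mul_inv_eq_one] at hk1
    have hj : lam ^ (2 * j) = 1 := hsep _ (by
      rw [← hk1, map_mul, hL]
      exact Subgroup.mul_mem _ (Subgroup.mem_sup_left (l1 a ha)) (Subgroup.mem_sup_right (l2 b hb)))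
    obtain ⟨t, rfl⟩ : m ∣ j := Nat.dvd_of_mul_dvd_mul_left two_pos (hm ▸ hord _ hj)
    rw [pow_mul v, hvm, one_pow, mul_one]
    have hx1 : x ^ (2 * (m * t)) = 1 := by
      rw [← mul_assoc, ← hm, pow_mul]
      have : x ^ (q + 1) = 1 := by
        refine (hxp _).ext ?_
        convert IsMon.one (n := 4) (F := F) (q := q) using 1
        funext i; fin_cases i <;> simp [hlam, inv_pow]
      rw [this, one_pow]
    rw [hx1, map_mul] at hk1
    have ha1 : π a = 1 := hdisj _ (l1 a ha) (by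
      rw [eq_inv_of_mul_eq_one_left hk1]; exact L2.inv_mem (l2 b hb))
    rw [ha1, one_mul] at hk1
    rw [k1 a ha ha1, k2 b hb hk1, one_mul]

/-- No multiplier for `SU 4`, `q ≥ 4`; for `q = 3` away from `3`. -/
theorem noMult_four (hF : Nat.card F = q ^ 2) (h : UFrob σ q) (hq : 3 ≤ q) {r : ℕ} [hr : Fact r.Prime]
    (hr3 : 4 ≤ q ∨ r ≠ q) : NoMult r (Cfsg.SU 4 F q) := by
  by_cases hrq : r ∣ q
  · refine noMult_four_char hF h ?_ hrq
    rcases hr3 with h4 | h4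
    · exact h4
    · by_contra hlt
      rw [show q = 3 by omega, Nat.prime_dvd_prime_iff_eq hr.out Nat.prime_three] at hrq
      omega
  rcases eq_or_ne r 2 with rfl | hodd
  · exact noMult_four_two hF h hrq
  by_cases h2 : r ∣ q * q + 1
  · refine noMult_free hF h (k := 3) hodd hrq ?_
    rw [card_SU_three hF]
    intro hd
    rcases hr.out.dvd_mul.1 hd with h1 | h1
    · exact hrq (hr.out.dvd_of_dvd_pow h1)
    have h1m : ¬ r ∣ q * q - 1 := fun e => by
      have h5 := Nat.dvd_sub h2 e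
      have : 1 ≤ q * q := Nat.mul_pos (by omega) (by omega)
      rw [show q * q + 1 - (q * q - 1) = 2 by omega] at h5
      exact hodd ((Nat.prime_dvd_prime_iff_eq hr.out Nat.prime_two).1 h5)
    rw [show q * q - 1 = (q + 1) * (q - 1) by rw [← sq, sq_sub_one]] at h1m
    rcases hr.out.dvd_mul.1 h1 with h3 | h3
    · rcases hr.out.dvd_mul.1 h3 with h4 | h4
      exacts [h1m (h4.trans (dvd_mul_left _ _)), h1m ((hr.out.dvd_of_dvd_pow h4).trans (dvd_mul_right _ _))]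
    · have hle : q ≤ q * q := Nat.le_mul_of_pos_left q (by omega)
      have h5 := Nat.dvd_sub h2 h3
      rw [show q * q + 1 - (q * q - q + 1) = q by omega] at h5
      exact hrq h5
  by_cases hm : r ∣ q - 1
  · exact noMult_four_split hF h hodd hm
  refine noMult_step hF h le_rfl (fun _ => hq) (fac_three (by omega)) hrq (fun hd => ?_)
    (noMult_three hF h (Or.inl hq))
  rcases hr.out.dvd_mul.1 hd with h1 | h1
  exacts [hm h1, h2 h1]

end CfsgLib.MultSU
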