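import Cfsg.Agent.Lib.MultSU.Four

/-!
The multipliers of `SU 5` and of `SU 7` over four elements.
-/

set_option autoImplicit false

namespace CfsgLib.MultSU

open Matrix CfsgLib.Classical CfsgLib.Classical.Unitary CfsgLib.MinIdx.Un
open scoped commutatorElement

universe u

variable {F : Type u} [Field F] {σ : F →+* F} {q n : ℕ}

theorem blk_comm (h : UFrob σ q) {j k : ℕ} {f : Fin j → Fin n} {f' : Fin k → Fin n} (hf : Function.Injective f)
    (hf' : Function.Injective f') (hd : ∀ a b, f a ≠ f' b) (M : Cfsg.SU j F q) (M' : Cfsg.SU k F q) :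
    blk h hf M * blk h hf' M' = blk h hf' M' * blk h hf M := by
  refine su_ext fun u => funext fun l => ?_
  rw [su_mul_mulVec, su_mul_mulVec]
  have e1 : ((blk h hf' M').1.1 *ᵥ u) ∘ f = u ∘ f := funext fun a => blk_out h hf' M' u fun b => (hd a b).symm
  have e2 : ((blk h hf M).1.1 *ᵥ u) ∘ f' = u ∘ f' := funext fun b => blk_out h hf M u fun a => hd a b
  by_cases hl : ∀ a, f a ≠ l
  · rw [blk_out h hf M _ hl]
    by_cases hl' : ∀ b, f' b ≠ l
    · rw [blk_out h hf' M' _ hl', blk_out h hf' M' _ hl', blk_out h hf M _ hl]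
    · push Not at hl'
      obtain ⟨b, rfl⟩ := hl'
      rw [blk_in, blk_in, e2]
  · push Not at hl
    obtain ⟨a, rfl⟩ := hl
    rw [blk_in, e1, blk_out h hf' M' _ fun b => (hd a b).symm, blk_in]

variable [Finite F]

/-- The lifts of disjoint swaps commute. -/
theorem sw_sw (hF : Nat.card F = q ^ 2) (h : UFrob σ q) {Γ : Type u} [Group Γ]
    {π : Γ →* Cfsg.SU n F q} (hπ : IsCE π) {r : ℕ} [Fact r.Prime] (hr : IsPGroup r π.ker) (hrq : ¬ r ∣ q)
    {a b c d : Fin n} (hab : a ≠ b) (hcd : c ≠ d) (hac : a ≠ c) (had : a ≠ d) (hbc : b ≠ c) (hbd : b ≠ d) :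
    LiftComm π (sw hF hab) (sw hF hcd) := by
  obtain ⟨M, hM⟩ := sw_eq_blk hF h hab
  obtain ⟨M', hM'⟩ := sw_eq_blk hF h hcd
  rw [hM, hM']
  refine liftComm_block hF h hπ hr hrq _ (transvGroup_two hF h)
    (fun N => blk_comm h _ _ (fun i l => ?_) M N) M'
  fin_cases i <;> fin_cases l <;> simp [hac, had, hbc, hbd]

theorem fac_four (q : ℕ) (hq : 1 ≤ q) : ∃ i, fac q 4 = (q + 1) * i ∧ i + q ^ 3 + q = q ^ 4 + q ^ 2 + 1 := by
  obtain ⟨j, rfl⟩ : ∃ j, q = j + 1 := ⟨q - 1, by omega⟩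
  exact ⟨(j + 1) ^ 3 * j + (j + 1) * j + 1, by rw [fac, if_pos (by decide)]; ring, by ring⟩

theorem pow_one_five (q : ℕ) (hq : 1 ≤ q) {r : ℕ} (hr : r ∣ q + 1) {i : ℕ}
    (hi : i + q ^ 3 + q = q ^ 4 + q ^ 2 + 1) : r ∣ i ↔ r ∣ 5 := by
  have h1 : (q : ZMod r) = -1 := by
    have := (ZMod.natCast_eq_zero_iff (q + 1) r).2 hr
    push_cast at this
    exact eq_neg_of_add_eq_zero_left this
  have h2 := congrArg (fun z : ℕ => (z : ZMod r)) hi
  simp only [Nat.cast_add, Nat.cast_pow, Nat.cast_one, h1] at h2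
  rw [← ZMod.natCast_eq_zero_iff, ← ZMod.natCast_eq_zero_iff]
  have h3 : (i : ZMod r) = ((5 : ℕ) : ZMod r) := by push_cast; linear_combination h2
  rw [h3]

/-- The characteristic, in any odd dimension. -/
theorem noMult_char_odd (hF : Nat.card F = q ^ 2) (h : UFrob σ q) {m : ℕ} (hm : 3 ≤ m) {r : ℕ} [Fact r.Prime]
    (hrq : r ∣ q) (hL : NoMult r (Cfsg.SU m F q))
    (hw : ∃ α δ : F, α ≠ 0 ∧ δ * σ δ = 1 ∧ α / σ α * δ ^ m = 1 ∧ σ α * δ ≠ 1) :
    NoMult r (Cfsg.SU (m + 2) F q) := by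
  obtain ⟨x, hx0, hxx⟩ := exists_iso_vector h (m := m + 2) (by omega)
  obtain ⟨y, P, s⟩ := exists_split h hx0 hxx
  exact noMult_char hF h hrq rfl (by omega) (Or.inr (by omega)) s
    (Or.inr ⟨fun Γ _ _ π hπ hpr => hL.sub _ (ext_injective h s) hπ hpr, hw⟩)

theorem cycle_five : (Equiv.swap (3 : Fin 5) 4 * (Equiv.swap 2 3 * (Equiv.swap 1 2 * Equiv.swap 0 1))) ^ 5 = 1 ∧
    Equiv.swap (3 : Fin 5) 4 * (Equiv.swap 2 3 * (Equiv.swap 1 2 * Equiv.swap 0 1)) ≠ 1 := by decide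

/-- The prime `5` dividing `q + 1`. -/
theorem noMult_five_five (hF : Nat.card F = q ^ 2) (h : UFrob σ q) (hd : 5 ∣ q + 1) :
    NoMult 5 (Cfsg.SU 5 F q) := by
  classical
  have k1 : (-1 : ZMod 5) * -1 + 1 ≠ 0 := by decide
  have k2 : (-1 : ZMod 5) * -1 - -1 + 1 ≠ 0 := by decide
  haveI : Fact (Nat.Prime 5) := ⟨by norm_num⟩
  have h5 : Nat.Prime 5 := by norm_num
  have hq := two_le_q hF
  have hrq : ¬ 5 ∣ q := fun e => by omega
  obtain ⟨i, hi, hi'⟩ := fac_four q (by omega)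
  have hi25 : i % 25 = 5 := by
    have key : ∀ x : ZMod 25, 5 * (x + 1) = 0 → x ^ 4 - x ^ 3 + x ^ 2 - x + 1 = 5 := by decide
    have h1 : (5 : ZMod 25) * ((q : ZMod 25) + 1) = 0 := by
      obtain ⟨t, ht⟩ := hd
      have h2 := congrArg (fun z : ℕ => (z : ZMod 25)) ht
      simp only [Nat.cast_add, Nat.cast_mul, Nat.cast_ofNat, Nat.cast_one] at h2
      rw [h2, ← mul_assoc, show (5 : ZMod 25) * 5 = 0 by decide, zero_mul]
    have h2 := congrArg (fun z : ℕ => (z : ZMod 25)) hi'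
    simp only [Nat.cast_add, Nat.cast_pow, Nat.cast_one] at h2
    have h3 : (i : ZMod 25) = ((5 : ℕ) : ZMod 25) := by
      rw [Nat.cast_ofNat]
      linear_combination h2 + key _ h1
    exact (ZMod.natCast_eq_natCast_iff' i 5 25).1 h3
  obtain ⟨c, hc⟩ : ∃ c : Cfsg.SU 5 F q, c = sw hF (show (0 : Fin 5) ≠ 1 by decide) *
      sw hF (show (1 : Fin 5) ≠ 2 by decide) * sw hF (show (2 : Fin 5) ≠ 3 by decide) *
      sw hF (show (3 : Fin 5) ≠ 4 by decide) := ⟨_, rfl⟩
  have hmon := hc ▸ (((sw_mon hF (show (0 : Fin 5) ≠ 1 by decide)).mul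
    (sw_mon hF (show (1 : Fin 5) ≠ 2 by decide))).mul (sw_mon hF (show (2 : Fin 5) ≠ 3 by decide))).mul
    (sw_mon hF (show (3 : Fin 5) ≠ 4 by decide))
  have hnorm : ∀ t ∈ tSub 5 F q, c * t * c⁻¹ ∈ tSub 5 F q := fun t ht => hmon.normalizes h ht
  refine NoMult.of_subgroup (tSub 5 F q ⊔ Subgroup.zpowers c) (index_not_dvd _ (c := (q + 1) ^ 4 * 5)
    (i := q ^ 10 * ((q - 1) ^ 2 * ((q * q + 1) * ((q * q - q + 1) * (i / 5))))) ?_ ?_ ?_) fun Γ _ _ π hπ hpr => ?_
  · rw [card_extend_prime _ _ h5 hnorm (hmon.pow_mem_tSub cycle_five.1) (hmon.not_tSub cycle_five.2),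
      card_tSub hF h 4]
  · obtain ⟨t, rfl⟩ : 5 ∣ i := by omega
    rw [card_SU_succ hF (show 1 ≤ 4 by norm_num), card_SU_four hF, hi, Nat.mul_div_cancel_left _ (by norm_num : 0 < 5)]
    ring
  · intro hdiv
    have hz : (q : ZMod 5) = -1 := by
      have := (ZMod.natCast_eq_zero_iff (q + 1) 5).2 hd
      push_cast at this
      exact eq_neg_of_add_eq_zero_left this
    rcases h5.dvd_mul.1 hdiv with h1 | h1
    · exact hrq (h5.dvd_of_dvd_pow h1)
    rcases h5.dvd_mul.1 h1 with h2 | h2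
    · have := h5.dvd_of_dvd_pow h2
      omega
    rcases h5.dvd_mul.1 h2 with h3 | h3
    · have := (ZMod.natCast_eq_zero_iff _ 5).2 h3
      push_cast at this
      rw [hz] at this
      exact k1 this
    rcases h5.dvd_mul.1 h3 with h4 | h4
    · have := (ZMod.natCast_eq_zero_iff _ 5).2 h4
      rw [Nat.cast_add, Nat.cast_sub (Nat.le_mul_of_pos_left q (by omega))] at this
      push_cast at this
      rw [hz] at this
      exact k2 this
    · omega
  · refine abExt_one hπ _ (tSub_liftComm_odd hF h hπ hpr (by norm_num)) c hnorm fun t ht hct => ?_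
    obtain ⟨e, he⟩ := ht
    have hfix := hmon.commute_fix he hct
    obtain ⟨p, hp⟩ : ∃ p, p = Equiv.swap (3 : Fin 5) 4 * (Equiv.swap 2 3 * (Equiv.swap 1 2 * Equiv.swap 0 1)) := ⟨_, rfl⟩
    have pv : p 1 = 0 ∧ p 2 = 1 ∧ p 3 = 2 ∧ p 4 = 3 := by rw [hp]; decide
    rw [← hp] at hfix
    have e1 := hfix 1
    have e2 := hfix 2
    have e3 := hfix 3
    have e4 := hfix 4
    rw [pv.1] at e1
    rw [pv.2.1] at e2
    rw [pv.2.2.1] at e3
    rw [pv.2.2.2] at e4
    rw [hc]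
    exact ((cLift hπ t).mul_mem ((cLift hπ t).mul_mem ((cLift hπ t).mul_mem
      (diag_sw hF h hπ hpr hrq he _ e1) (diag_sw hF h hπ hpr hrq he _ e2))
      (diag_sw hF h hπ hpr hrq he _ e3)) (diag_sw hF h hπ hpr hrq he _ e4)).symm

/-- No multiplier for `SU 5`, `q ≥ 3`. -/
theorem noMult_five (hF : Nat.card F = q ^ 2) (h : UFrob σ q) (hq : 3 ≤ q) {r : ℕ} [hr : Fact r.Prime] :
    NoMult r (Cfsg.SU 5 F q) := by
  by_cases hrq : r ∣ q
  · obtain ⟨γ, hγ, hσγ⟩ := exists_fixed_gen hF h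
    refine noMult_char_odd hF h le_rfl hrq (noMult_three hF h (Or.inl hq))
      ⟨γ, 1, γ.ne_zero, by simp, by rw [hσγ, one_pow, mul_one, div_self γ.ne_zero], ?_⟩
    rw [hσγ, mul_one]
    intro e
    have : orderOf γ = 1 := orderOf_eq_one_iff.2 (Units.ext e)
    omega
  have h4 : NoMult r (Cfsg.SU 4 F q) := noMult_four hF h hq (Or.inr fun e => hrq (e ▸ dvd_rfl))
  obtain ⟨i, hi, hi'⟩ := fac_four q (by omega)
  by_cases hri : r ∣ i
  · by_cases hp : r ∣ q + 1
    · have h5 := (pow_one_five q (by omega) hp hi').1 hri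
      obtain rfl := (Nat.prime_dvd_prime_iff_eq hr.out (by norm_num)).1 h5
      exact noMult_five_five hF h hp
    · have hodd : r ≠ 2 := fun e => hp (by subst e; omega)
      refine noMult_free hF h (k := 4) hodd hrq ?_
      rw [card_SU_four hF]
      intro hd
      have hi0 := (ZMod.natCast_eq_zero_iff i r).2 hri
      have h2 := congrArg (fun z : ℕ => (z : ZMod r)) hi'
      simp only [Nat.cast_add, Nat.cast_pow, Nat.cast_one, hi0, zero_add] at h2
      have hone : (1 : ZMod r) ≠ 0 := by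
        haveI : Fact (1 < r) := ⟨hr.out.one_lt⟩
        exact one_ne_zero
      rcases hr.out.dvd_mul.1 hd with h1 | h1
      · exact hrq (hr.out.dvd_of_dvd_pow h1)
      have hqm : ¬ r ∣ q - 1 := fun e => by
        have e1 : (q : ZMod r) = 1 := by
          have := (ZMod.natCast_eq_zero_iff (q - 1) r).2 e
          rw [Nat.cast_sub (by omega)] at this
          push_cast at this
          exact sub_eq_zero.1 this
        rw [e1] at h2
        exact hone (by linear_combination -h2)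
      rcases hr.out.dvd_mul.1 h1 with h3 | h3
      · rcases hr.out.dvd_mul.1 h3 with h5 | h5
        exacts [hqm (hr.out.dvd_of_dvd_pow h5), hp (hr.out.dvd_of_dvd_pow h5)]
      · rcases hr.out.dvd_mul.1 h3 with h5 | h5
        · have e1 := (ZMod.natCast_eq_zero_iff _ r).2 h5
          push_cast at e1
          exact hone (by linear_combination -h2 - ((q : ZMod r) ^ 2 - q) * e1)
        · have e1 := (ZMod.natCast_eq_zero_iff _ r).2 h5
          rw [Nat.cast_add, Nat.cast_sub (Nat.le_mul_of_pos_left q (by omega))] at e1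
          push_cast at e1
          refine hqm ((ZMod.natCast_eq_zero_iff (q - 1) r).1 ?_)
          rw [Nat.cast_sub (by omega)]
          push_cast
          linear_combination h2 + (q : ZMod r) ^ 2 * e1
  · exact noMult_step hF h (by norm_num) (fun e => absurd e (by norm_num)) hi hrq hri h4

theorem cycle_seven : (Equiv.swap (1 : Fin 7) 2 * Equiv.swap 0 1) ^ 3 = 1 ∧
    Equiv.swap (1 : Fin 7) 2 * Equiv.swap 0 1 ≠ 1 ∧ (Equiv.swap (4 : Fin 7) 5 * Equiv.swap 3 4) ^ 3 = 1 ∧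
    (Equiv.swap (1 : Fin 5) 2 * Equiv.swap 0 1) ^ 3 = 1 ∧ Equiv.swap (1 : Fin 5) 2 * Equiv.swap 0 1 ≠ 1 := by decide

theorem card_SU_five_two (hF : Nat.card F = q ^ 2) (hq : q = 2) :
    Nat.card (Cfsg.SU 5 F q) = 243 * (1024 * 55) := by
  rw [card_SU_succ hF (by norm_num : 1 ≤ 4), card_SU_four hF, hq, fac]
  norm_num [show Even 4 by decide]

theorem card_SU_seven_two (hF : Nat.card F = q ^ 2) (hq : q = 2) :
    Nat.card (Cfsg.SU 7 F q) = 6561 * (2097152 * 16555) := by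
  rw [card_SU_succ hF (by norm_num : 1 ≤ 6), card_SU_succ hF (by norm_num : 1 ≤ 5), card_SU_five_two hF hq, hq,
    fac, fac]
  norm_num [show Even 6 by decide, show ¬ Even 5 by decide]

theorem exists_omega_weights (hF : Nat.card F = q ^ 2) (h : UFrob σ q) (hq : q = 2) :
    (∃ α δ : F, α ≠ 0 ∧ δ * σ δ = 1 ∧ α / σ α * δ ^ 3 = 1 ∧ σ α * δ ≠ 1) ∧
      ∃ α δ : F, α ≠ 0 ∧ δ * σ δ = 1 ∧ α / σ α * δ ^ 5 = 1 ∧ σ α * δ ≠ 1 := by
  obtain ⟨ω, hω, hω3, hσω⟩ := exists_omega hF h hq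
  have h2 := two_eq_zero_of_q_two hF hq
  have hω0 : ω ≠ 0 := fun e => by rw [e] at hω3; norm_num at hω3
  have hω1 : ω ≠ 1 := fun e => by
    rw [e] at hω
    exact one_ne_zero (show (1 : F) = 0 by linear_combination hω - h2)
  have hn : ω * σ ω = 1 := by rw [hσω]; linear_combination hω3
  refine ⟨⟨1, ω, one_ne_zero, hn, by rw [map_one, div_one, one_mul, hω3], by rwa [map_one, one_mul]⟩,
    ω ^ 2, ω, pow_ne_zero _ hω0, hn, ?_, ?_⟩
  · rw [map_pow, hσω]
    field_simp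
    linear_combination hω3
  · rw [map_pow, hσω]
    intro e
    have : ω ^ 2 = 1 := by linear_combination e - ω ^ 2 * hω3
    exact hω1 (by linear_combination hω3 - ω * this)

theorem not_sq_dvd {r N : ℕ} (hr : r.Prime) (hN : Squarefree N) (a b : ℕ) (h2 : r ≠ 2) (h3 : r ≠ 3) :
    ¬ r ^ 2 ∣ 3 ^ a * (2 ^ b * N) := by
  intro hd
  have c3 : Nat.Coprime (r ^ 2) (3 ^ a) := Nat.Coprime.pow 2 a ((Nat.coprime_primes hr Nat.prime_three).2 h3)
  have c2 : Nat.Coprime (r ^ 2) (2 ^ b) := Nat.Coprime.pow 2 b ((Nat.coprime_primes hr Nat.prime_two).2 h2)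
  have h := c2.dvd_of_dvd_mul_left (c3.dvd_of_dvd_mul_left hd)
  rw [sq] at h
  exact hr.ne_one (Nat.isUnit_iff.1 (hN r h))

/-- No multiplier for `SU 5` over four elements. -/
theorem noMult_five_two (hF : Nat.card F = q ^ 2) (h : UFrob σ q) (hq : q = 2) {r : ℕ} [hr : Fact r.Prime] :
    NoMult r (Cfsg.SU 5 F q) := by
  rcases eq_or_ne r 2 with rfl | h2
  · exact noMult_char_odd hF h le_rfl (hq ▸ dvd_rfl) (noMult_three hF h (Or.inr rfl))
      (exists_omega_weights hF h hq).1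
  have hrq : ¬ r ∣ q := fun e => h2 ((Nat.prime_dvd_prime_iff_eq hr.out Nat.prime_two).1 (hq ▸ e))
  rcases eq_or_ne r 3 with rfl | h3
  · obtain ⟨c, hc⟩ : ∃ c : Cfsg.SU 5 F q, c = sw hF (show (0 : Fin 5) ≠ 1 by decide) *
        sw hF (show (1 : Fin 5) ≠ 2 by decide) := ⟨_, rfl⟩
    have hmon := hc ▸ (sw_mon hF (show (0 : Fin 5) ≠ 1 by decide)).mul (sw_mon hF (show (1 : Fin 5) ≠ 2 by decide))
    have hnorm : ∀ t ∈ tSub 5 F q, c * t * c⁻¹ ∈ tSub 5 F q := fun t ht => hmon.normalizes h ht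
    refine NoMult.of_subgroup (tSub 5 F q ⊔ Subgroup.zpowers c) (index_not_dvd _ (c := 243) (i := 1024 * 55)
      ?_ ?_ (by norm_num)) fun Γ _ _ π hπ hpr => ?_
    · rw [card_extend_prime _ _ Nat.prime_three hnorm (hmon.pow_mem_tSub cycle_seven.2.2.2.1)
        (hmon.not_tSub cycle_seven.2.2.2.2), card_tSub hF h 4, hq]; rfl
    · exact card_SU_five_two hF hq
    · refine abExt_one hπ _ (tSub_liftComm_odd hF h hπ hpr h2) c hnorm fun t ht hct => ?_
      obtain ⟨e, he⟩ := ht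
      have hfix := hmon.commute_fix he hct
      obtain ⟨p, hp⟩ : ∃ p, p = Equiv.swap (1 : Fin 5) 2 * Equiv.swap 0 1 := ⟨_, rfl⟩
      have pv : p 1 = 0 ∧ p 2 = 1 := by rw [hp]; decide
      rw [← hp] at hfix
      have e1 := hfix 1
      have e2 := hfix 2
      rw [pv.1] at e1
      rw [pv.2] at e2
      rw [hc]
      exact ((cLift hπ t).mul_mem (diag_sw hF h hπ hpr hrq he _ e1) (diag_sw hF h hπ hpr hrq he _ e2)).symm
  · refine noMult_of_sq ?_
    rw [card_SU_five_two hF hq, show (243 : ℕ) = 3 ^ 5 by norm_num, show (1024 : ℕ) = 2 ^ 10 by norm_num]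
    refine not_sq_dvd hr.out ?_ _ _ h2 h3
    rw [show (55 : ℕ) = 5 * 11 by norm_num, Nat.squarefree_mul (by norm_num)]
    exact ⟨(show Nat.Prime 5 by norm_num).squarefree, (show Nat.Prime 11 by norm_num).squarefree⟩

/-- No multiplier for `SU 7` over four elements. -/
theorem noMult_seven_two (hF : Nat.card F = q ^ 2) (h : UFrob σ q) (hq : q = 2) {r : ℕ} [hr : Fact r.Prime] :
    NoMult r (Cfsg.SU 7 F q) := by
  rcases eq_or_ne r 2 with rfl | h2
  · exact noMult_char_odd hF h (by norm_num : 3 ≤ 5) (hq ▸ dvd_rfl) (noMult_five_two hF h hq)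
      (exists_omega_weights hF h hq).2
  have hrq : ¬ r ∣ q := fun e => h2 ((Nat.prime_dvd_prime_iff_eq hr.out Nat.prime_two).1 (hq ▸ e))
  rcases eq_or_ne r 3 with rfl | h3
  · obtain ⟨c, hc⟩ : ∃ c : Cfsg.SU 7 F q, c = sw hF (show (0 : Fin 7) ≠ 1 by decide) *
        sw hF (show (1 : Fin 7) ≠ 2 by decide) := ⟨_, rfl⟩
    obtain ⟨d, hd⟩ : ∃ d : Cfsg.SU 7 F q, d = sw hF (show (3 : Fin 7) ≠ 4 by decide) *
        sw hF (show (4 : Fin 7) ≠ 5 by decide) := ⟨_, rfl⟩
    have hmon := hc ▸ (sw_mon hF (show (0 : Fin 7) ≠ 1 by decide)).mul (sw_mon hF (show (1 : Fin 7) ≠ 2 by decide))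
    have hmon' := hd ▸ (sw_mon hF (show (3 : Fin 7) ≠ 4 by decide)).mul (sw_mon hF (show (4 : Fin 7) ≠ 5 by decide))
    obtain ⟨p, hp⟩ : ∃ p, p = Equiv.swap (1 : Fin 7) 2 * Equiv.swap 0 1 := ⟨_, rfl⟩
    obtain ⟨p', hp'⟩ : ∃ p', p' = Equiv.swap (4 : Fin 7) 5 * Equiv.swap 3 4 := ⟨_, rfl⟩
    have pv : p 1 = 0 ∧ p 2 = 1 ∧ p 3 = 3 ∧ p' 4 = 3 ∧ p' 5 = 4 ∧ p' 3 ≠ 3 := by rw [hp, hp']; decide
    have pfix : ∀ i, p i = i ∨ p' i = i := by rw [hp, hp']; decide
    rw [← hp] at hmon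
    rw [← hp'] at hmon'
    have hnorm : ∀ t ∈ tSub 7 F q, c * t * c⁻¹ ∈ tSub 7 F q := fun t ht => hmon.normalizes h ht
    have hnorm' : ∀ t ∈ tSub 7 F q, d * t * d⁻¹ ∈ tSub 7 F q := fun t ht => hmon'.normalizes h ht
    have hdc : d * c = c * d := by
      have hsw : ∀ {a b e f : Fin 7} (hab : a ≠ b) (hef : e ≠ f), a ≠ e → a ≠ f → b ≠ e → b ≠ f →
          Commute (sw (F := F) hF hab) (sw hF hef) := fun hab hef x1 x2 x3 x4 => by
        obtain ⟨M, hM⟩ := sw_eq_blk hF h hab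
        obtain ⟨M', hM'⟩ := sw_eq_blk hF h hef
        rw [hM, hM']
        exact blk_comm h _ _ (fun i l => by fin_cases i <;> fin_cases l <;> simp [x1, x2, x3, x4]) M M'
      rw [hc, hd]
      exact (Commute.mul_left ((hsw _ _ (by decide) (by decide) (by decide) (by decide)).mul_right
        (hsw _ _ (by decide) (by decide) (by decide) (by decide)))
        ((hsw _ _ (by decide) (by decide) (by decide) (by decide)).mul_right
        (hsw _ _ (by decide) (by decide) (by decide) (by decide)))).eq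
    have hdn : d ∉ tSub 7 F q ⊔ Subgroup.zpowers c := fun hm => by
      rw [← SetLike.mem_coe, Subgroup.coe_mul_of_right_le_normalizer_left (tSub 7 F q) _
        (Subgroup.zpowers_le.2 (Subgroup.mem_normalizer_fintype hnorm))] at hm
      obtain ⟨t, ⟨e, he⟩, g, hg, etg⟩ := Set.mem_mul.1 hm
      obtain ⟨j, rfl⟩ : g ∈ Submonoid.powers c := by rwa [mem_powers_iff_mem_zpowers]
      obtain ⟨d', hd'⟩ := hmon.pow j
      have h1 := he.mul hd'
      rw [mul_one] at h1
      simp only at etg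
      rw [etg] at h1
      have h4 : (p ^ j) 3 = 3 := by
        have : ∀ k : ℕ, (p ^ k) 3 = 3 := fun k => by
          induction k with
          | zero => rfl
          | succ k ih => rw [pow_succ, Equiv.Perm.mul_apply, pv.2.2.1, ih]
        exact this j
      rw [← (hmon'.perm_eq h1).1] at h4
      exact pv.2.2.2.2.2 h4
    have hnd : ∀ g ∈ tSub 7 F q ⊔ Subgroup.zpowers c, d * g * d⁻¹ ∈ tSub 7 F q ⊔ Subgroup.zpowers c := fun g hg => by
      have hle : tSub 7 F q ⊔ Subgroup.zpowers c ≤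
          (tSub 7 F q ⊔ Subgroup.zpowers c).comap (MulAut.conj d).toMonoidHom := by
        refine sup_le (fun a ha => Subgroup.mem_sup_left (hnorm' a ha)) (Subgroup.zpowers_le.2 ?_)
        show d * c * d⁻¹ ∈ tSub 7 F q ⊔ Subgroup.zpowers c
        rw [hdc, mul_inv_cancel_right]
        exact Subgroup.mem_sup_right (Subgroup.mem_zpowers c)
      exact hle hg
    refine NoMult.of_subgroup (tSub 7 F q ⊔ Subgroup.zpowers c ⊔ Subgroup.zpowers d) (index_not_dvd _ (c := 6561)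
      (i := 2097152 * 16555) ?_ ?_ (by norm_num)) fun Γ _ _ π hπ hpr => ?_
    · rw [card_extend_prime _ _ Nat.prime_three hnd (Subgroup.mem_sup_left (hmon'.pow_mem_tSub
          (hp' ▸ cycle_seven.2.2.1))) hdn,
        card_extend_prime _ _ Nat.prime_three hnorm (hmon.pow_mem_tSub (hp ▸ cycle_seven.1))
        (hmon.not_tSub (hp ▸ cycle_seven.2.1)), card_tSub hF h 6, hq]; rfl
    · exact card_SU_seven_two hF hq
    · refine abExt hπ _ (tSub_liftComm_odd hF h hπ hpr h2) c d hnorm hnorm' ?_ (fun s hs t ht hst => ?_)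
        (fun t ht hct => ?_) (fun t ht hct => ?_)
      · have key : ∀ {a b : Fin 7} (hab : a ≠ b), a ≠ 3 → a ≠ 4 → a ≠ 5 → b ≠ 3 → b ≠ 4 → b ≠ 5 →
            LiftComm π (sw hF hab) d := fun hab a3 a4 a5 b3 b4 b5 => hd ▸ (cLift hπ (sw hF hab)).mul_mem
          (sw_sw hF h hπ hpr hrq hab _ a3 a4 b3 b4) (sw_sw hF h hπ hpr hrq hab _ a4 a5 b4 b5)
        rw [hc]
        exact ((cLift hπ d).mul_mem
          (key _ (by decide) (by decide) (by decide) (by decide) (by decide) (by decide)).symm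
          (key _ (by decide) (by decide) (by decide) (by decide) (by decide) (by decide)).symm).symm
      · obtain ⟨e, he⟩ := hs
        obtain ⟨f, hf⟩ := ht
        obtain ⟨s', hs'⟩ := exists_dg (q := q) (fun i => e (p i)) (fun i => he.norm h _)
          ((Equiv.prod_comp p e).trans he.prod)
        obtain ⟨t', ht'⟩ := exists_dg (q := q) (fun i => f (p' i)) (fun i => hf.norm h _)
          ((Equiv.prod_comp p' f).trans hf.prod)
        rw [commutatorElement_def, commutatorElement_def, hmon.conj he hs', hmon'.conj hf ht'] at hst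
        rw [commutatorElement_def, hmon.conj he hs']
        have h1 := (hs'.mul_diag he.inv_diag).mul_diag (ht'.mul_diag hf.inv_diag)
        rw [hst] at h1
        refine (hs'.mul_diag he.inv_diag).ext ?_
        convert IsMon.one (n := 7) (F := F) (q := q) using 1
        funext i
        have h2 := congrFun (h1.perm_eq IsMon.one).2 i
        rcases pfix i with hi | hi
        · rw [hi, mul_inv_cancel₀ (he.2 i)]
        · rwa [hi, mul_inv_cancel₀ (hf.2 i), mul_one] at h2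
      · obtain ⟨e, he⟩ := ht
        have hfix := hmon.commute_fix he hct
        have e1 := hfix 1
        have e2 := hfix 2
        rw [pv.1] at e1
        rw [pv.2.1] at e2
        rw [hc]
        exact ((cLift hπ t).mul_mem (diag_sw hF h hπ hpr hrq he _ e1) (diag_sw hF h hπ hpr hrq he _ e2)).symm
      · obtain ⟨e, he⟩ := ht
        have hfix := hmon'.commute_fix he hct
        have e1 := hfix 4
        have e2 := hfix 5
        rw [pv.2.2.2.1] at e1
        rw [pv.2.2.2.2.1] at e2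
        rw [hd]
        exact ((cLift hπ t).mul_mem (diag_sw hF h hπ hpr hrq he _ e1) (diag_sw hF h hπ hpr hrq he _ e2)).symm
  · refine noMult_of_sq ?_
    rw [card_SU_seven_two hF hq, show (6561 : ℕ) = 3 ^ 8 by norm_num, show (2097152 : ℕ) = 2 ^ 21 by norm_num]
    refine not_sq_dvd hr.out ?_ _ _ h2 h3
    rw [show (16555 : ℕ) = 5 * (7 * (11 * 43)) by norm_num, Nat.squarefree_mul (by norm_num),
      Nat.squarefree_mul (by norm_num), Nat.squarefree_mul (by norm_num)]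
    exact ⟨(show Nat.Prime 5 by norm_num).squarefree, (show Nat.Prime 7 by norm_num).squarefree,
      (show Nat.Prime 11 by norm_num).squarefree, (show Nat.Prime 43 by norm_num).squarefree⟩

end CfsgLib.MultSU
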