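import Cfsg.Agent.Lib.MultSU.Ext

/-!
Abelian subgroups extended by two commuting elements.
-/

set_option autoImplicit false

namespace CfsgLib.MultSU

open Subgroup
open scoped commutatorElement

variable {Q Γ : Type*} [Group Q] [Group Γ] [Finite Γ] {π : Γ →* Q}

/-- The commutators of an abelian group and two elements acting on it. -/
theorem abExt (hπ : IsCE π) (T : Subgroup Q) (hT : ∀ s ∈ T, ∀ t ∈ T, LiftComm π s t) (c d : Q)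
    (hc : ∀ t ∈ T, c * t * c⁻¹ ∈ T) (hd : ∀ t ∈ T, d * t * d⁻¹ ∈ T) (hcd : LiftComm π c d)
    (hsep : ∀ s ∈ T, ∀ t ∈ T, ⁅c, s⁆ * ⁅d, t⁆ = 1 → ⁅c, s⁆ = 1)
    (hfc : ∀ t ∈ T, c * t = t * c → LiftComm π c t) (hfd : ∀ t ∈ T, d * t = t * d → LiftComm π d t) :
    ∀ x ∈ ⁅(T ⊔ zpowers c ⊔ zpowers d).comap π, (T ⊔ zpowers c ⊔ zpowers d).comap π⁆, π x = 1 → x = 1 := by
  obtain ⟨C, hC⟩ := hπ.surj c
  obtain ⟨D, hD⟩ := hπ.surj d
  obtain ⟨Tt, hTt⟩ : ∃ Tt, Tt = T.comap π := ⟨_, rfl⟩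
  have hTm : ∀ a, a ∈ Tt ↔ π a ∈ T := fun a => by rw [hTt]; rfl
  have hab : ∀ a ∈ Tt, ∀ b ∈ Tt, a * b = b * a := fun a ha b hb =>
    hT _ ((hTm a).1 ha) _ ((hTm b).1 hb) a b rfl rfl
  have hCT : ∀ a ∈ Tt, C * a * C⁻¹ ∈ Tt := fun a ha => by
    rw [hTm, map_mul, map_mul, map_inv, hC]; exact hc _ ((hTm a).1 ha)
  have hDT : ∀ a ∈ Tt, D * a * D⁻¹ ∈ Tt := fun a ha => by
    rw [hTm, map_mul, map_mul, map_inv, hD]; exact hd _ ((hTm a).1 ha)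
  have hbr : ∀ {E : Γ}, (∀ a ∈ Tt, E * a * E⁻¹ ∈ Tt) → ∀ a ∈ Tt, ⁅E, a⁆ ∈ Tt := fun {E} hE a ha => by
    rw [commutatorElement_def]; exact Tt.mul_mem (hE a ha) (Tt.inv_mem ha)
  have hadd : ∀ {E : Γ}, (∀ a ∈ Tt, E * a * E⁻¹ ∈ Tt) → ∀ a ∈ Tt, ∀ b ∈ Tt, ⁅E, a * b⁆ = ⁅E, a⁆ * ⁅E, b⁆ :=
    fun {E} hE a ha b hb => by
      rw [show ⁅E, a * b⁆ = ⁅E, a⁆ * (a * ⁅E, b⁆ * a⁻¹) by simp only [commutatorElement_def]; group,
        hab a ha _ (hbr hE b hb), mul_inv_cancel_right]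
  let f : Tt × Tt →* Γ := MonoidHom.mk' (fun z => ⁅C, z.1.1⁆ * ⁅D, z.2.1⁆) fun z w => by
    show ⁅C, z.1.1 * w.1.1⁆ * ⁅D, z.2.1 * w.2.1⁆ = ⁅C, z.1.1⁆ * ⁅D, z.2.1⁆ * (⁅C, w.1.1⁆ * ⁅D, w.2.1⁆)
    rw [hadd hCT _ z.1.2 _ w.1.2, hadd hDT _ z.2.2 _ w.2.2]
    simp only [mul_assoc]
    rw [← mul_assoc ⁅C, w.1.1⁆, hab _ (hbr hCT _ w.1.2) _ (hbr hDT _ z.2.2), mul_assoc]
  have hfK : ∀ a ∈ Tt, ∀ b ∈ Tt, ⁅C, a⁆ * ⁅D, b⁆ ∈ f.range := fun a ha b hb => ⟨(⟨a, ha⟩, ⟨b, hb⟩), rfl⟩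
  have hK : ∀ {g}, g ∈ f.range → ∃ a ∈ Tt, ∃ b ∈ Tt, g = ⁅C, a⁆ * ⁅D, b⁆ := by
    rintro g ⟨⟨a, b⟩, rfl⟩
    exact ⟨a.1, a.2, b.1, b.2, rfl⟩
  have hKC : ∀ a ∈ Tt, ⁅C, a⁆ ∈ f.range := fun a ha => by
    have := hfK a ha 1 Tt.one_mem
    rwa [show ⁅D, (1 : Γ)⁆ = 1 by simp [commutatorElement_def], mul_one] at this
  have hKD : ∀ b ∈ Tt, ⁅D, b⁆ ∈ f.range := fun b hb => by
    have := hfK 1 Tt.one_mem b hb
    rwa [show ⁅C, (1 : Γ)⁆ = 1 by simp [commutatorElement_def], one_mul] at this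
  have hCD : C * D = D * C := hcd C D hC hD
  refine inf_comm_eq_bot hπ {g | g ∈ Tt ∨ g = C ∨ g = D} f.range (fun g hg => ?_) (fun g hg k hk => ?_) ?_ ?_
  · have hle : T ⊔ zpowers c ⊔ zpowers d ≤
        (closure ({g | g ∈ Tt ∨ g = C ∨ g = D} ∪ (π.ker : Set Γ))).map π := by
      refine sup_le (sup_le (fun t ht => ?_) (zpowers_le.2 ?_)) (zpowers_le.2 ?_)
      · obtain ⟨a, rfl⟩ := hπ.surj t
        exact ⟨a, subset_closure (Set.mem_union_left _ (Or.inl ((hTm a).2 ht))), rfl⟩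
      · exact ⟨C, subset_closure (Set.mem_union_left _ (Or.inr (Or.inl rfl))), hC⟩
      · exact ⟨D, subset_closure (Set.mem_union_left _ (Or.inr (Or.inr rfl))), hD⟩
    obtain ⟨k, hk, e⟩ := hle hg
    obtain ⟨z, hz, rfl⟩ := exists_eq_mul (σ := π) e.symm
    exact Subgroup.mul_mem _ hk (subset_closure (Set.mem_union_right _ hz))
  · obtain ⟨a, ha, b, hb, rfl⟩ := hK hk
    rcases hg with hg | rfl | rfl
    · rw [hab g hg _ (Tt.mul_mem (hbr hCT a ha) (hbr hDT b hb)), mul_inv_cancel_right]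
      exact hk
    · rw [show g * (⁅g, a⁆ * ⁅D, b⁆) * g⁻¹ = ⁅g, g * a * g⁻¹⁆ * ⁅g * D * g⁻¹, g * b * g⁻¹⁆ by
        simp only [commutatorElement_def]; group, hCD, mul_inv_cancel_right]
      exact hfK _ (hCT a ha) _ (hCT b hb)
    · rw [show g * (⁅C, a⁆ * ⁅g, b⁆) * g⁻¹ = ⁅g * C * g⁻¹, g * a * g⁻¹⁆ * ⁅g, g * b * g⁻¹⁆ by
        simp only [commutatorElement_def]; group, ← hCD, mul_inv_cancel_right]
      exact hfK _ (hDT a ha) _ (hDT b hb)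
  · have h1 : ∀ a ∈ Tt, ∀ b ∈ Tt, ⁅a, b⁆ ∈ f.range := fun a ha b hb => by
      rw [commutatorElement_eq_one_iff_mul_comm.2 (hab a ha b hb)]; exact f.range.one_mem
    rintro a (ha | rfl | rfl) b (hb | rfl | rfl)
    · exact h1 a ha b hb
    · rw [← commutatorElement_inv]; exact f.range.inv_mem (hKC a ha)
    · rw [← commutatorElement_inv]; exact f.range.inv_mem (hKD a ha)
    · exact hKC b hb
    · rw [commutatorElement_self]; exact f.range.one_mem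
    · rw [commutatorElement_eq_one_iff_mul_comm.2 hCD]; exact f.range.one_mem
    · exact hKD b hb
    · rw [commutatorElement_eq_one_iff_mul_comm.2 hCD.symm]; exact f.range.one_mem
    · rw [commutatorElement_self]; exact f.range.one_mem
  · intro k hk hk1
    obtain ⟨a, ha, b, hb, rfl⟩ := hK hk
    rw [map_mul, map_commutatorElement, map_commutatorElement, hC, hD] at hk1
    have ec := hsep _ ((hTm a).1 ha) _ ((hTm b).1 hb) hk1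
    rw [ec, one_mul] at hk1
    rw [commutatorElement_eq_one_iff_mul_comm.2
        (hfc _ ((hTm a).1 ha) (commutatorElement_eq_one_iff_mul_comm.1 ec) C a hC rfl),
      commutatorElement_eq_one_iff_mul_comm.2
        (hfd _ ((hTm b).1 hb) (commutatorElement_eq_one_iff_mul_comm.1 hk1) D b hD rfl), one_mul]

/-- The same with one element. -/
theorem abExt_one (hπ : IsCE π) (T : Subgroup Q) (hT : ∀ s ∈ T, ∀ t ∈ T, LiftComm π s t) (c : Q)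
    (hc : ∀ t ∈ T, c * t * c⁻¹ ∈ T) (hfc : ∀ t ∈ T, c * t = t * c → LiftComm π c t) :
    ∀ x ∈ ⁅(T ⊔ zpowers c).comap π, (T ⊔ zpowers c).comap π⁆, π x = 1 → x = 1 := by
  have h := abExt hπ T hT c 1 hc (fun t ht => by simpa using ht) ((cLift hπ c).one_mem)
    (fun s _ t _ e => by rwa [show ⁅(1 : Q), t⁆ = 1 by simp [commutatorElement_def], mul_one] at e) hfc
    fun t _ _ => ((cLift hπ t).one_mem).symm
  rwa [zpowers_one_eq_bot, sup_bot_eq] at h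

end CfsgLib.MultSU
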