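import Mathlib

/-!
Biadditive maps on a finite field invariant under a multiplication, and involutive endomorphisms.
-/

set_option autoImplicit false

namespace CfsgLib.MultSU

variable {F : Type*} [Field F]

/-- An invariant biadditive map is zero or gives an endomorphism. -/
theorem biadd_hom {A : Type*} [AddCommGroup A] (β : F → F → A) (h1 : ∀ s s' t, β (s + s') t = β s t + β s' t)
    (h2 : ∀ s t t', β s (t + t') = β s t + β s t') {w v : F} (hw : Subring.closure {w} = ⊤) (hv : v ≠ 0)
    (hinv : ∀ s t, β (w * s) (v * t) = β s t) :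
    (∀ s t, β s t = 0) ∨ ∃ φ : F →+* F, φ w = v⁻¹ ∧ ∀ u s t, β (u * s) t = β s (φ u * t) := by
  classical
  have z1 : ∀ t, β 0 t = 0 := fun t => by simpa using h1 0 0 t
  have z2 : ∀ s, β s 0 = 0 := fun s => by simpa using h2 s 0 0
  have n1 : ∀ s t, β (-s) t = -β s t := fun s t =>
    eq_neg_of_add_eq_zero_left (by rw [← h1, neg_add_cancel, z1])
  have n2 : ∀ s t, β s (-t) = -β s t := fun s t =>
    eq_neg_of_add_eq_zero_left (by rw [← h2, neg_add_cancel, z2])
  let S : Subring F :=
    { carrier := {u | ∃ u', ∀ s t, β (u * s) t = β s (u' * t)}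
      one_mem' := ⟨1, fun s t => by rw [one_mul, one_mul]⟩
      zero_mem' := ⟨0, fun s t => by rw [zero_mul, zero_mul, z1, z2]⟩
      add_mem' := fun {a b} ⟨a', ha⟩ ⟨b', hb⟩ => ⟨a' + b', fun s t => by rw [add_mul, add_mul, h1, h2, ha, hb]⟩
      neg_mem' := fun {a} ⟨a', ha⟩ => ⟨-a', fun s t => by rw [neg_mul, neg_mul, n1, n2, ha]⟩
      mul_mem' := fun {a b} ⟨a', ha⟩ ⟨b', hb⟩ => ⟨b' * a', fun s t => by rw [mul_assoc, ha, hb, mul_assoc]⟩ }
  have hwS : w ∈ S := ⟨v⁻¹, fun s t => by rw [← hinv s (v⁻¹ * t), mul_inv_cancel_left₀ hv]⟩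
  have hall : ∀ u, ∃ u', ∀ s t, β (u * s) t = β s (u' * t) := fun u => by
    have hle : Subring.closure {w} ≤ S := Subring.closure_le.2 (Set.singleton_subset_iff.2 hwS)
    exact hle (hw ▸ Subring.mem_top u)
  choose f hf using hall
  refine (em (∀ s t, β s t = 0)).imp id fun hne => ?_
  have huniq : ∀ a b, (∀ s t, β s (a * t) = β s (b * t)) → a = b := by
    intro a b e
    by_contra hab
    refine hne fun s t => ?_
    have h := e s ((a - b)⁻¹ * t)
    rw [← sub_eq_zero, sub_eq_add_neg, ← n2, ← h2, ← neg_mul, ← add_mul, ← sub_eq_add_neg,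
      mul_inv_cancel_left₀ (sub_ne_zero.2 hab)] at h
    exact h
  refine ⟨{ toFun := f, map_one' := huniq _ _ fun s t => by rw [← hf, one_mul, one_mul],
            map_mul' := fun a b => huniq _ _ fun s t => by
              rw [← hf, mul_assoc, hf, hf, ← mul_assoc, mul_comm (f b)],
            map_zero' := huniq _ _ fun s t => by rw [← hf, zero_mul, zero_mul, z1, z2],
            map_add' := fun a b => huniq _ _ fun s t => by rw [← hf, add_mul, h1, hf, hf, ← h2, ← add_mul] }, ?_, hf⟩
  exact huniq _ _ fun s t => by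
    show β s (f w * t) = _
    rw [← hf, ← hinv s (v⁻¹ * t), mul_inv_cancel_left₀ hv]

variable [Finite F] {q : ℕ}

/-- An element of large order generates. -/
theorem closure_eq_top (hF : Nat.card F = q ^ 2) {w : Fˣ} (hw : q ≤ orderOf w) :
    Subring.closure {(w : F)} = ⊤ := by
  classical
  obtain ⟨R, hR⟩ : ∃ R, R = Subring.closure {(w : F)} := ⟨_, rfl⟩
  let K : Subfield F :=
    { R with
      inv_mem' := fun x hx => by
        rcases eq_or_ne x 0 with rfl | hx0
        · rw [inv_zero]; exact R.zero_mem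
        · have h1 : x⁻¹ = x ^ (orderOf (Units.mk0 x hx0) - 1) := by
            refine inv_eq_of_mul_eq_one_right ?_
            rw [← pow_succ', Nat.sub_add_cancel (orderOf_pos _)]
            exact congrArg Units.val (pow_orderOf_eq_one (Units.mk0 x hx0))
          rw [h1]
          exact R.pow_mem hx _ }
  have hlow : q + 1 ≤ Nat.card K := by
    haveI := Fintype.ofFinite K
    rw [Nat.card_eq_fintype_card]
    refine le_trans (Nat.add_le_add_right hw 1) ?_
    rw [← Fintype.card_fin (orderOf w + 1)]
    let g : Fin (orderOf w + 1) → K := Fin.cons (0 : K) fun i => ⟨(w : F) ^ (i : ℕ), by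
      show _ ∈ R
      exact R.pow_mem (hR ▸ Subring.subset_closure rfl) _⟩
    refine Fintype.card_le_of_injective g (Fin.cons_injective_iff.2 ⟨?_, fun i j e => Fin.ext ?_⟩)
    · rintro ⟨i, hi⟩
      exact pow_ne_zero _ w.ne_zero (congrArg Subtype.val hi : (w : F) ^ (i : ℕ) = 0)
    · exact pow_injOn_Iio_orderOf (show (i : ℕ) < _ from i.2) (show (j : ℕ) < _ from j.2)
        (Units.ext (by simpa using congrArg Subtype.val e))
  have hpow := Module.natCard_eq_pow_finrank (K := K) (V := F)
  rw [hF] at hpow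
  have hd : Module.finrank K F = 1 := by
    by_contra hne
    have hd0 : 0 < Module.finrank K F := Module.finrank_pos
    have := Nat.pow_le_pow_right (show 0 < Nat.card K from Nat.card_pos) (show 2 ≤ Module.finrank K F by omega)
    rw [← hpow] at this
    have h3 := Nat.pow_le_pow_left hlow 2
    have : (q + 1) ^ 2 = q ^ 2 + (2 * q + 1) := by ring
    omega
  rw [hd, pow_one, ← hF] at hpow
  rw [← hR, eq_top_iff]
  intro u _
  have hb : Function.Bijective (Subtype.val : K → F) :=
    (Nat.bijective_iff_injective_and_card _).2 ⟨Subtype.val_injective, hpow.symm⟩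
  obtain ⟨⟨u', hu'⟩, rfl⟩ := hb.2 u
  exact hu'

/-- The only involutive endomorphisms are the identity and the field involution. -/
theorem endo_invol (hF : Nat.card F = q ^ 2) {σ : F →+* F} (hσ : ∀ x, σ x = x ^ q) (hne : σ ≠ RingHom.id F)
    {φ : F →+* F} (hφ : ∀ x, φ (φ x) = x) : φ = RingHom.id F ∨ φ = σ := by
  classical
  refine (em (φ = RingHom.id F)).imp id fun hid => ?_
  obtain ⟨a, ha⟩ : ∃ a, φ a ≠ a := by
    by_contra h
    push Not at h
    exact hid (RingHom.ext h)
  let E := φ.eqLocusField (RingHom.id F)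
  have hd : a - φ a ≠ 0 := sub_ne_zero.2 (Ne.symm ha)
  have hE : ∀ z, (z - φ z) / (a - φ a) ∈ E := fun z => by
    show φ _ = _
    simp only [map_div₀, map_sub, hφ, RingHom.id_apply]
    rw [← neg_sub (φ z), ← neg_sub (φ a), neg_div_neg_eq]
  have hcard : Nat.card E = q := by
    have e : E × E ≃ F :=
      { toFun := fun x => x.1.1 + x.2.1 * a
        invFun := fun z => (⟨z - (z - φ z) / (a - φ a) * a, by
          show φ _ = _
          have h := hE z
          replace h : φ ((z - φ z) / (a - φ a)) = (z - φ z) / (a - φ a) := h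
          rw [map_sub, map_mul, h, RingHom.id_apply]
          field_simp
          ring⟩, ⟨_, hE z⟩)
        left_inv := fun x => by
          have h1 : φ x.1.1 = x.1.1 := x.1.2
          have h2 : φ x.2.1 = x.2.1 := x.2.2
          have e2 : (x.1.1 + x.2.1 * a - φ (x.1.1 + x.2.1 * a)) / (a - φ a) = x.2.1 := by
            rw [map_add, map_mul, h1, h2, div_eq_iff hd]; ring
          refine Prod.ext (Subtype.ext ?_) (Subtype.ext e2)
          show x.1.1 + x.2.1 * a - (x.1.1 + x.2.1 * a - φ (x.1.1 + x.2.1 * a)) / (a - φ a) * a = x.1.1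
          rw [e2]; ring
        right_inv := fun z => sub_add_cancel _ _ }
    have := Nat.card_congr e
    rw [Nat.card_prod, hF, ← sq] at this
    exact Nat.pow_left_injective two_ne_zero this
  have hfix : ∀ u : F, φ u = u → σ u = u := fun u hu => by
    haveI := Fintype.ofFinite E
    have := FiniteField.pow_card (⟨u, hu⟩ : E)
    rw [← Nat.card_eq_fintype_card, hcard] at this
    rw [hσ]
    exact congrArg Subtype.val this
  have hsa : σ a ≠ a := fun e => hne <| RingHom.ext fun z => by
    have h := hE z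
    have h' : z - (z - φ z) / (a - φ a) * a = z - (z - φ z) / (a - φ a) * a := rfl
    have k1 : σ ((z - φ z) / (a - φ a)) = (z - φ z) / (a - φ a) := hfix _ h
    have k2 : σ (z - (z - φ z) / (a - φ a) * a) = z - (z - φ z) / (a - φ a) * a := hfix _ (by
      replace h : φ ((z - φ z) / (a - φ a)) = (z - φ z) / (a - φ a) := h
      rw [map_sub, map_mul, h]
      field_simp
      ring)
    rw [map_sub, map_mul, k1, e, sub_left_inj] at k2
    exact k2
  have hφa : σ a = φ a := by
    have hs : σ (a + φ a) = a + φ a := hfix _ (by rw [map_add, hφ, add_comm])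
    have hn : σ (a * φ a) = a * φ a := hfix _ (by rw [map_mul, hφ, mul_comm])
    rw [map_add] at hs
    rw [map_mul] at hn
    have : (σ a - a) * (σ a - φ a) = 0 := by linear_combination σ a * hs - hn
    exact sub_eq_zero.1 ((mul_eq_zero.1 this).resolve_left (sub_ne_zero.2 hsa))
  refine RingHom.ext fun z => ?_
  have h : φ ((z - φ z) / (a - φ a)) = (z - φ z) / (a - φ a) := hE z
  have hz0 : φ (z - (z - φ z) / (a - φ a) * a) = z - (z - φ z) / (a - φ a) * a := by
    rw [map_sub, map_mul, h]
    field_simp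
    ring
  have k := hfix _ hz0
  have k1 := hfix _ h
  rw [map_sub, map_mul, k1, hφa] at k
  rw [map_sub, map_mul, h] at hz0
  linear_combination hz0 - k

end CfsgLib.MultSU
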