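import Cfsg.Agent.Lib.MultSU.Three
import Cfsg.Agent.Lib.Classical.UnitarySimple

/-!
Blocks, perfect blocks with a normalising torus, and lifts generated by elements of the characteristic.
-/

set_option autoImplicit false

namespace CfsgLib.MultSU

open Matrix CfsgLib.Classical CfsgLib.Classical.Unitary CfsgLib.MinIdx.Un
open scoped commutatorElement

universe u

variable {F : Type u} [Field F] {σ : F →+* F} {q n k : ℕ}

/-- An element fixing the complement of a frame lies in its block. -/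
theorem mem_frame_range (h : UFrob σ q) {P : Matrix (Fin n) (Fin k) F} (hP : IsFrame σ P) {g : Cfsg.SU n F q}
    (hg : ∀ w, (P.map σ)ᵀ *ᵥ w = 0 → g.1.1 *ᵥ w = w) : g ∈ (frameHom h P hP).range := by
  have hoff : ∀ w, (P.map σ)ᵀ *ᵥ (w - P *ᵥ ((P.map σ)ᵀ *ᵥ w)) = 0 := fun w => by
    rw [mulVec_sub, hP.apply, sub_self]
  have hfix : ∀ w, g.1.1 *ᵥ (w - P *ᵥ ((P.map σ)ᵀ *ᵥ w)) = w - P *ᵥ ((P.map σ)ᵀ *ᵥ w) := fun w => hg _ (hoff w)
  have hgp : ∀ a, g.1.1 *ᵥ (P *ᵥ a) = P *ᵥ ((P.map σ)ᵀ *ᵥ (g.1.1 *ᵥ (P *ᵥ a))) := fun a => by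
    refine sub_eq_zero.1 (uh_ext h fun z => ?_)
    rw [uh_zero_right]
    have e1 : uh σ (z - P *ᵥ ((P.map σ)ᵀ *ᵥ z)) (g.1.1 *ᵥ (P *ᵥ a)) = 0 := by
      rw [← hfix z, su_uh h, uh_frame_right h, hoff, uh_zero_left]
    have e2 : uh σ (P *ᵥ ((P.map σ)ᵀ *ᵥ z))
        (g.1.1 *ᵥ (P *ᵥ a) - P *ᵥ ((P.map σ)ᵀ *ᵥ (g.1.1 *ᵥ (P *ᵥ a)))) = 0 := by
      rw [uh_frame_left h, hoff, uh_zero_right]
    have e3 : uh σ (z - P *ᵥ ((P.map σ)ᵀ *ᵥ z)) (P *ᵥ ((P.map σ)ᵀ *ᵥ (g.1.1 *ᵥ (P *ᵥ a)))) = 0 := by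
      rw [uh_frame_right h, hoff, uh_zero_left]
    conv_lhs => arg 2; rw [show z = (z - P *ᵥ ((P.map σ)ᵀ *ᵥ z)) + P *ᵥ ((P.map σ)ᵀ *ᵥ z) by abel]
    rw [uh_add_left, e2, uh_sub_right, e1, e3, sub_self, add_zero]
  obtain ⟨M, hM⟩ : ∃ M, M = (P.map σ)ᵀ * g.1.1 * P := ⟨_, rfl⟩
  have hMa : ∀ a, M *ᵥ a = (P.map σ)ᵀ *ᵥ (g.1.1 *ᵥ (P *ᵥ a)) := fun a => by
    rw [hM, ← mulVec_mulVec, ← mulVec_mulVec]
  have hmat : g.1.1 = 1 + P * ((M - 1) * (P.map σ)ᵀ) := by
    refine Matrix.ext_iff_mulVec.2 fun w => ?_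
    rw [add_mulVec, one_mulVec, ← mulVec_mulVec, ← mulVec_mulVec, sub_mulVec, one_mulVec, hMa, mulVec_sub, ← hgp]
    conv_lhs => rw [show w = (w - P *ᵥ ((P.map σ)ᵀ *ᵥ w)) + P *ᵥ ((P.map σ)ᵀ *ᵥ w) by abel, mulVec_add, hfix]
    abel
  have hdet : M.det = 1 := by
    have h2 := g.1.2
    rwa [hmat, det_one_add_mul_comm, Matrix.mul_assoc, hP, Matrix.mul_one, add_sub_cancel] at h2
  refine ⟨⟨⟨M, hdet⟩, mem_SU_iff.2 fun a b => ?_⟩, ?_⟩
  · show Cfsg.hermForm k F q (M *ᵥ a) (M *ᵥ b) = _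
    rw [h.hermForm_eq, h.hermForm_eq, hMa, hMa, ← uh_frame_left h, ← hgp, su_uh h, uh_frame_left h, hP.apply]
  · refine Subtype.ext (Subtype.ext ?_)
    show 1 + P * (M - 1) * (P.map σ)ᵀ = g.1.1
    rw [hmat, Matrix.mul_assoc]

theorem frame_range_fix (h : UFrob σ q) {P : Matrix (Fin n) (Fin k) F} (hP : IsFrame σ P) {g : Cfsg.SU n F q}
    (hg : g ∈ (frameHom h P hP).range) {w : Fin n → F} (hw : (P.map σ)ᵀ *ᵥ w = 0) : g.1.1 *ᵥ w = w := by
  obtain ⟨M, rfl⟩ := hg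
  exact frameHom_fix h P hP M hw

theorem mem_blk_range (h : UFrob σ q) {f : Fin k → Fin n} (hf : Function.Injective f) {g : Cfsg.SU n F q} :
    g ∈ (blk h hf).range ↔ ∀ w : Fin n → F, (∀ i, w (f i) = 0) → g.1.1 *ᵥ w = w := by
  refine ⟨fun hg w hw => frame_range_fix h (cFrame_isFrame σ hf) hg (by rw [cFrame_proj]; exact funext hw),
    fun hg => mem_frame_range h (cFrame_isFrame σ hf) fun w hw => hg w fun i => ?_⟩
  rw [cFrame_proj] at hw
  exact congrFun hw i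

/-- Monomial elements move blocks to blocks. -/
theorem IsMon.conj_blk (h : UFrob σ q) {f f' : Fin k → Fin n} (hf : Function.Injective f) (hf' : Function.Injective f')
    {g a : Cfsg.SU n F q} {p : Equiv.Perm (Fin n)} {d : Fin n → F} (hg : IsMon g p d)
    (hp : ∀ i, ∃ i', p (f' i) = f i') (hp' : ∀ i, ∃ i', p (f' i') = f i) (ha : a ∈ (blk h hf).range) :
    g * a * g⁻¹ ∈ (blk h hf').range := by
  rw [mem_blk_range h hf] at ha
  rw [mem_blk_range h hf']
  intro w hw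
  rw [su_mul_mulVec, su_mul_mulVec, ha, su_mulVec_inv]
  intro i
  obtain ⟨i', hi'⟩ := hp' i
  have h1 := hg.1 ((g⁻¹).1.1 *ᵥ w) (f' i')
  rw [su_mulVec_inv, hw, hi'] at h1
  exact (mul_eq_zero.1 h1.symm).resolve_left (hg.2 _)

variable [Finite F]

/-- A perfect block extended by a normalising element. -/
theorem noMult_perfect_ext {Q L : Type u} [Group Q] [Finite Q] [Group L] {r : ℕ} [Fact r.Prime] (f : L →* Q)
    (hf : Function.Injective f) (hperf : commutator L = ⊤) (hL : NoMult r L) (t : Q)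
    (ht : ∀ g ∈ f.range, t * g * t⁻¹ ∈ f.range) (hidx : ¬ r ∣ (f.range ⊔ Subgroup.zpowers t).index) :
    NoMult r Q := by
  refine NoMult.of_subgroup _ hidx fun Γ _ _ π hπ hpr => ?_
  have hc := hL.sub f hf hπ hpr
  obtain ⟨T, hT⟩ := hπ.surj t
  obtain ⟨Lt, hLt⟩ : ∃ Lt, Lt = f.range.comap π := ⟨_, rfl⟩
  obtain ⟨D, hD⟩ : ∃ D, D = ⁅Lt, Lt⁆ := ⟨_, rfl⟩
  rw [← hLt, ← hD] at hc
  have hDn : ∀ u : Γ, (∀ g ∈ Lt, u * g * u⁻¹ ∈ Lt) → ∀ v ∈ D, u * v * u⁻¹ ∈ D := fun u hu v hv => by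
    have hle : ⁅Lt, Lt⁆ ≤ D.comap (MulAut.conj u).toMonoidHom := Subgroup.commutator_le.2 fun a ha b hb => by
      rw [Subgroup.mem_comap, map_commutatorElement, hD]
      exact Subgroup.commutator_mem_commutator (hu a ha) (hu b hb)
    exact hle (hD ▸ hv)
  have hDL : ∀ d ∈ D, d ∈ Lt := fun d hd => Subgroup.commutator_le_self Lt (hD ▸ hd)
  have hTL : ∀ g ∈ Lt, T * g * T⁻¹ ∈ Lt := fun g hg => by
    rw [hLt, Subgroup.mem_comap] at hg ⊢
    rw [map_mul, map_mul, map_inv, hT]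
    exact ht _ hg
  have hsurj : f.range ≤ D.map π := by
    rw [hD, Subgroup.map_commutator, hLt, Subgroup.map_comap_eq_self_of_surjective hπ.surj]
    conv_lhs => rw [MonoidHom.range_eq_map, ← hperf, commutator_def, Subgroup.map_commutator]
    rw [← MonoidHom.range_eq_map]
  refine inf_comm_eq_bot hπ {g | g ∈ D ∨ g = T} D (fun g hg => ?_) (fun g hg v hv => ?_) ?_ hc
  · have hle : f.range ⊔ Subgroup.zpowers t ≤ (Subgroup.closure ({g | g ∈ D ∨ g = T} ∪ (π.ker : Set Γ))).map π := by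
      refine sup_le (fun a ha => ?_) (Subgroup.zpowers_le.2 ?_)
      · obtain ⟨d, hd, e⟩ := hsurj ha
        exact ⟨d, Subgroup.subset_closure (Set.mem_union_left _ (Or.inl hd)), e⟩
      · exact ⟨T, Subgroup.subset_closure (Set.mem_union_left _ (Or.inr rfl)), hT⟩
    obtain ⟨v, hv, e⟩ := hle hg
    obtain ⟨z, hz, rfl⟩ := exists_eq_mul (σ := π) e.symm
    exact Subgroup.mul_mem _ hv (Subgroup.subset_closure (Set.mem_union_right _ hz))
  · rcases hg with hg | rfl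
    · exact D.mul_mem (D.mul_mem hg hv) (D.inv_mem hg)
    · exact hDn _ hTL v hv
  · have h1 : ∀ d ∈ D, ⁅T, d⁆ ∈ D := fun d hd => by
      rw [commutatorElement_def]; exact D.mul_mem (hDn T hTL d hd) (D.inv_mem hd)
    rintro a (ha | rfl) b (hb | rfl)
    · rw [commutatorElement_def]; exact D.mul_mem (D.mul_mem (D.mul_mem ha hb) (D.inv_mem ha)) (D.inv_mem hb)
    · rw [← commutatorElement_inv]; exact D.inv_mem (h1 a ha)
    · exact h1 b hb
    · rw [commutatorElement_self]; exact D.one_mem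

/-- One step in the dimension. -/
theorem noMult_step (hF : Nat.card F = q ^ 2) (h : UFrob σ q) {r : ℕ} [hr : Fact r.Prime] {k i : ℕ} (hk : 3 ≤ k)
    (hq : k = 3 → 3 ≤ q) (hi : fac q k = (q + 1) * i) (hrq : ¬ r ∣ q) (hri : ¬ r ∣ i)
    (hL : NoMult r (Cfsg.SU k F q)) : NoMult r (Cfsg.SU (k + 1) F q) := by
  classical
  obtain ⟨lam, hlam, -, hord⟩ := exists_lam hF
  obtain ⟨t, ht⟩ := exists_gen (q := q) lam hlam (⟨1, by omega⟩ : Fin (k + 1))
  obtain ⟨L, hLd⟩ : ∃ L, L = (blk h (Fin.succ_injective k) : Cfsg.SU k F q →* Cfsg.SU (k + 1) F q).range := ⟨_, rfl⟩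
  have hnorm : ∀ g ∈ L, t * g * t⁻¹ ∈ L := fun g hg => by
    rw [hLd] at hg ⊢
    exact ht.conj_blk h _ _ (fun i => ⟨i, rfl⟩) (fun i => ⟨i, rfl⟩) hg
  have hlam0 : lam ≠ 0 := fun e => by rw [e, zero_pow (Nat.succ_ne_zero q)] at hlam; exact zero_ne_one hlam
  have hpow : ∀ j : ℕ, IsMon (t ^ j) 1 fun l => gv lam (⟨1, by omega⟩ : Fin (k + 1)) l ^ j := fun j => by
    induction j with
    | zero => simpa using IsMon.one
    | succ j ih => simpa [pow_succ] using ih.mul_diag ht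
  have hz : ∀ j : ℕ, t ^ j ∈ L ↔ lam ^ j = 1 := fun j => by
    have e0 : ((t ^ j).1.1 *ᵥ Pi.single (0 : Fin (k + 1)) (1 : F)) 0 = (lam ^ j)⁻¹ := by
      rw [(hpow j).1, Equiv.Perm.one_apply, Pi.single_eq_same, mul_one]
      simp [gv, inv_pow]
    constructor
    · intro hm
      rw [hLd, mem_blk_range] at hm
      rw [hm _ (fun i => Pi.single_eq_of_ne (Fin.succ_ne_zero i) _), Pi.single_eq_same] at e0
      exact inv_eq_one.1 e0.symm
    · intro e
      have : t ^ j = 1 := by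
        refine (hpow j).ext ?_
        convert IsMon.one (n := k + 1) (F := F) (q := q) using 1
        funext l
        simp only [gv, mul_pow]
        split_ifs <;> simp [e, inv_pow]
      rw [this]; exact L.one_mem
  refine noMult_perfect_ext _ (blk_injective h (Fin.succ_injective k))
    (su_commutator_eq_top hF h hk hq) hL t (hLd ▸ hnorm) (hLd ▸ index_not_dvd _
      (c := Nat.card (Cfsg.SU k F q) * (q + 1)) (i := q ^ k * i) ?_ ?_ ?_)
  · rw [card_extend L t (q + 1) (Nat.succ_pos q) hnorm ((hz _).2 hlam)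
      (fun j hj hjq hm => by have := Nat.le_of_dvd hj (hord j ((hz j).1 hm)); omega)]
    rw [hLd, Nat.card_congr (MonoidHom.ofInjective (blk_injective h (Fin.succ_injective k))).symm.toEquiv]
  · rw [card_SU_succ hF (by omega), hi]; ring
  · intro hd
    rcases hr.out.dvd_mul.1 hd with h1 | h1
    exacts [hrq (hr.out.dvd_of_dvd_pow h1), hri h1]

/-- The lifts generated by elements killed by `q`. -/
def qGen (q : ℕ) {Q Γ : Type*} [Group Q] [Group Γ] (π : Γ →* Q) (L : Subgroup Q) : Subgroup Γ :=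
  Subgroup.closure {g : Γ | π g ∈ L ∧ g ^ q = 1}

omit [Field F] [Finite F] in
theorem qGen_le {Q Γ : Type*} [Group Q] [Group Γ] (π : Γ →* Q) (L : Subgroup Q) :
    qGen q π L ≤ L.comap π := (Subgroup.closure_le _).2 fun _ hg => hg.1

omit [Field F] [Finite F] in
theorem qGen_conj {Q Γ : Type*} [Group Q] [Group Γ] (π : Γ →* Q) (L L' : Subgroup Q) {u : Γ}
    (hu : ∀ g ∈ L, π u * g * (π u)⁻¹ ∈ L') {v : Γ} (hv : v ∈ qGen q π L) : u * v * u⁻¹ ∈ qGen q π L' := by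
  have hle : qGen q π L ≤ (qGen q π L').comap (MulAut.conj u).toMonoidHom :=
    (Subgroup.closure_le _).2 fun g hg => Subgroup.subset_closure
      ⟨by simpa using hu _ hg.1, by rw [← map_pow, hg.2, map_one]⟩
  exact hle hv

/-- In a perfect group without multiplier these lifts meet the kernel trivially. -/
theorem qGen_ker {Q E : Type u} [Group Q] [Group E] {Γ : Type u} [Group Γ] [Finite Γ] {π : Γ →* Q} (hπ : IsCE π)
    {r : ℕ} [Fact r.Prime] (hpr : IsPGroup r π.ker) (hrq : ¬ r ∣ q) (e : E →* Q) (he : Function.Injective e)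
    (hperf : commutator E = ⊤) (hE : NoMult r E) {L : Subgroup Q} (hL : L ≤ e.range) :
    ∀ g ∈ qGen q π L, π g = 1 → g = 1 := by
  have hc := hE.sub e he hπ hpr
  obtain ⟨D, hD⟩ : ∃ D, D = ⁅e.range.comap π, e.range.comap π⁆ := ⟨_, rfl⟩
  rw [← hD] at hc
  have hsurj : e.range ≤ D.map π := by
    rw [hD, Subgroup.map_commutator, Subgroup.map_comap_eq_self_of_surjective hπ.surj]
    conv_lhs => rw [MonoidHom.range_eq_map, ← hperf, commutator_def, Subgroup.map_commutator]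
    rw [← MonoidHom.range_eq_map]
  have hle : qGen q π L ≤ D := (Subgroup.closure_le _).2 fun g hg => by
    obtain ⟨d, hd, ed⟩ := hsurj (hL hg.1)
    obtain ⟨z, hz, rfl⟩ := exists_eq_mul (σ := π) ed.symm
    have h1 := hg.2
    rw [(show Commute d z from hπ.ker_comm hz d).mul_pow] at h1
    have hd1 : d ^ q = 1 := hc _ (D.pow_mem hd q) (by
      have := congrArg π h1
      rwa [map_mul, map_pow _ z, hz, one_pow, mul_one, map_one] at this)
    rw [hd1, one_mul] at h1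
    rw [SetLike.mem_coe, eq_one_of_pow hpr hz h1 hrq, mul_one]
    exact hd
  exact fun g hg => hc g (hle hg)

/-- They cover a block of dimension two. -/
theorem qGen_surj (hF : Nat.card F = q ^ 2) (h : UFrob σ q) {Q : Type u} [Group Q] {Γ : Type u} [Group Γ] [Finite Γ]
    {π : Γ →* Q} (hπ : IsCE π) {r : ℕ} [hr : Fact r.Prime] (hpr : IsPGroup r π.ker) (hrq : ¬ r ∣ q)
    (f : Cfsg.SU 2 F q →* Q) : f.range ≤ (qGen q π f.range).map π := by
  have hle : transvGroup 2 F q ≤ ((qGen q π f.range).map π).comap f := mem_of_eq_utv h fun v c hv hc => by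
    obtain ⟨a, ha⟩ := hπ.surj (f (utv h v c hv hc))
    have haq : a ^ q ∈ π.ker := by
      obtain ⟨hj, e⟩ := utv_pow h v hv hc q
      rw [MonoidHom.mem_ker, map_pow, ha, ← map_pow, e, ← map_one f]
      refine congrArg f (su_ext fun x => ?_)
      rw [utv_mulVec, su_one_mulVec, cast_q_eq_zero hF]
      simp
    have hco : r.Coprime q := (Nat.Prime.coprime_iff_not_dvd hr.out).2 hrq
    obtain ⟨y, hy⟩ := (hpr.powEquiv hco).surjective ⟨a ^ q, haq⟩
    have hy' : (y : Γ) ^ q = a ^ q := congrArg Subtype.val hy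
    refine ⟨a * (y : Γ)⁻¹, Subgroup.subset_closure ⟨?_, ?_⟩, ?_⟩
    · rw [map_mul, map_inv, y.2, inv_one, mul_one, ha]; exact ⟨_, rfl⟩
    · rw [((show Commute a (y : Γ) from hπ.ker_comm y.2 a).inv_right).mul_pow, inv_pow, hy', mul_inv_cancel]
    · rw [map_mul, map_inv, y.2, inv_one, mul_one, ha]
  rintro _ ⟨M, rfl⟩
  exact hle ((transvGroup_two hF h).symm ▸ Subgroup.mem_top M)

end CfsgLib.MultSU
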