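import Cfsg.Agent.Lib.Classical.UnitarySU

/-!
Orders of the special unitary groups, one dimension at a time.
-/

set_option autoImplicit false

namespace CfsgLib.MultSU

open Matrix CfsgLib.Classical

variable {F : Type*} [Field F] [Finite F] {q : ℕ}

/-- The factor added in dimension `k + 1`. -/
def fac (q k : ℕ) : ℕ := if Even k then q ^ (k + 1) + 1 else q ^ (k + 1) - 1

theorem card_SU_succ (hF : Nat.card F = q ^ 2) {k : ℕ} (hk : 1 ≤ k) :
    Nat.card (Cfsg.SU (k + 1) F q) = q ^ k * fac q k * Nat.card (Cfsg.SU k F q) := by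
  refine Nat.eq_of_mul_eq_mul_left (show 0 < q + 1 by omega) ?_
  rw [card_SU_mul hF (by omega), mul_left_comm, card_SU_mul hF hk, card_GU hF, card_GU hF,
    Finset.prod_range_succ, show (k + 1) * (k + 1 - 1) / 2 = k * (k - 1) / 2 + k by
      rw [← Finset.sum_range_id, ← Finset.sum_range_id, Finset.sum_range_succ],
    pow_add, fac]
  ring

theorem card_SU_one (hF : Nat.card F = q ^ 2) : Nat.card (Cfsg.SU 1 F q) = 1 := by
  refine Nat.eq_of_mul_eq_mul_left (show 0 < q + 1 by omega) ?_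
  rw [card_SU_mul hF le_rfl, card_GU hF]
  simp

theorem not_dvd_fac {r k : ℕ} (hr : r.Prime) (hd : r ∣ q) (hq : 2 ≤ q) : ¬ r ∣ fac q k := by
  intro h
  have h1 : r ∣ q ^ (k + 1) := hd.trans (dvd_pow_self q (Nat.succ_ne_zero k))
  unfold fac at h
  split_ifs at h
  · exact hr.not_dvd_one ((Nat.dvd_add_right h1).1 h)
  · have h2 : 1 ≤ q ^ (k + 1) := Nat.one_le_pow _ _ (by omega)
    exact hr.not_dvd_one ((Nat.dvd_sub h1 h).trans (by rw [Nat.sub_sub_self h2]))

end CfsgLib.MultSU
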