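import Cfsg.Agent.Lib.MultSU.Tool
import Cfsg.Agent.Lib.Classical.UnitarySimple

/-!
The diagonal torus and its lifts.
-/

set_option autoImplicit false

namespace CfsgLib.MultSU

open Matrix CfsgLib.Classical CfsgLib.Classical.Unitary
open scoped commutatorElement

universe u

variable {F : Type u} [Field F] {σ : F →+* F} {q n k : ℕ}

theorem exists_dg (d : Fin n → F) (hd : ∀ i, d i ^ (q + 1) = 1) (hp : ∏ i, d i = 1) :
    ∃ g : Cfsg.SU n F q, IsMon g 1 d := by
  refine ⟨⟨⟨Matrix.diagonal d, by rw [det_diagonal, hp]⟩, diagonal_mem_SU hd _⟩, fun u i => ?_, fun i e => ?_⟩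
  · rw [Equiv.Perm.one_apply]
    exact mulVec_diagonal d u i
  · have := hd i
    rw [e, zero_pow (Nat.succ_ne_zero q)] at this
    exact zero_ne_one this

theorem IsMon.norm (h : UFrob σ q) {g : Cfsg.SU n F q} {d : Fin n → F} (hg : IsMon g 1 d) (i : Fin n) :
    d i ^ (q + 1) = 1 := by
  classical
  have e : g.1.1 *ᵥ Pi.single i 1 = Pi.single i (d i) := funext fun j => by
    rw [hg.1, Equiv.Perm.one_apply, Pi.single_apply, Pi.single_apply]
    split_ifs with hj <;> simp [hj]
  have h1 := su_uh h g (Pi.single i 1) (Pi.single i 1)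
  rw [e, uh_single_left, uh_single_left, Pi.single_eq_same, Pi.single_eq_same, map_one, mul_one] at h1
  rw [pow_succ', ← h.pow, h1]

theorem IsMon.prod {g : Cfsg.SU n F q} {d : Fin n → F} (hg : IsMon g 1 d) : ∏ i, d i = 1 := by
  classical
  have e : g.1.1 = Matrix.diagonal d := Matrix.ext_iff_mulVec.2 fun u => funext fun i => by
    rw [hg.1, Equiv.Perm.one_apply, mulVec_diagonal]
  have := g.1.2
  rwa [e, det_diagonal] at this

theorem IsMon.mul_diag {g g' : Cfsg.SU n F q} {d d' : Fin n → F} (hg : IsMon g 1 d) (hg' : IsMon g' 1 d') :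
    IsMon (g * g') 1 fun i => d i * d' i := by
  have := hg.mul hg'
  rwa [one_mul] at this

theorem IsMon.inv_diag {g : Cfsg.SU n F q} {d : Fin n → F} (hg : IsMon g 1 d) : IsMon g⁻¹ 1 fun i => (d i)⁻¹ :=
  ⟨fun u i => by
    have h1 := hg.1 ((g⁻¹).1.1 *ᵥ u) i
    rw [su_mulVec_inv, Equiv.Perm.one_apply] at h1
    rw [Equiv.Perm.one_apply, h1, inv_mul_cancel_left₀ (hg.2 i)], fun i => inv_ne_zero (hg.2 i)⟩

/-- The diagonal elements. -/
def tSub (n : ℕ) (F : Type*) [Field F] (q : ℕ) : Subgroup (Cfsg.SU n F q) where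
  carrier := {g | ∃ d, IsMon g 1 d}
  one_mem' := ⟨_, IsMon.one⟩
  mul_mem' := fun ⟨_, ha⟩ ⟨_, hb⟩ => ⟨_, ha.mul_diag hb⟩
  inv_mem' := fun ⟨_, ha⟩ => ⟨_, ha.inv_diag⟩

theorem tSub_comm {s t : Cfsg.SU n F q} (hs : s ∈ tSub n F q) (ht : t ∈ tSub n F q) : s * t = t * s := by
  obtain ⟨d, hd⟩ := hs
  obtain ⟨e, he⟩ := ht
  refine (hd.mul_diag he).ext ?_
  simp only [mul_comm (d _)]
  exact he.mul_diag hd

/-- Monomial elements normalise the diagonal ones. -/
theorem IsMon.normalizes (h : UFrob σ q) {g t : Cfsg.SU n F q} {p : Equiv.Perm (Fin n)} {d : Fin n → F}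
    (hg : IsMon g p d) (ht : t ∈ tSub n F q) : g * t * g⁻¹ ∈ tSub n F q := by
  obtain ⟨e, he⟩ := ht
  obtain ⟨t', ht'⟩ := exists_dg (q := q) (fun i => e (p i)) (fun i => he.norm h _)
    ((Equiv.prod_comp p e).trans he.prod)
  exact ⟨_, by rw [hg.conj he ht']; exact ht'⟩

theorem IsMon.not_tSub {g : Cfsg.SU n F q} {p : Equiv.Perm (Fin n)} {d : Fin n → F} (hg : IsMon g p d)
    (hp : p ≠ 1) : g ∉ tSub n F q := fun ⟨_, he⟩ => hp (hg.perm_eq he).1

theorem IsMon.pow_mem_tSub {g : Cfsg.SU n F q} {p : Equiv.Perm (Fin n)} {d : Fin n → F} (hg : IsMon g p d) {j : ℕ}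
    (hj : p ^ j = 1) : g ^ j ∈ tSub n F q := by
  obtain ⟨d', hd'⟩ := hg.pow j
  exact ⟨d', by rwa [hj] at hd'⟩

/-- A monomial element commuting with a diagonal one. -/
theorem IsMon.commute_fix {g t : Cfsg.SU n F q} {p : Equiv.Perm (Fin n)} {d e : Fin n → F} (hg : IsMon g p d)
    (ht : IsMon t 1 e) (hc : g * t = t * g) (i : Fin n) : e (p i) = e i := by
  have h1 := hg.mul ht
  have h2 := ht.mul hg
  rw [← hc] at h2
  simp only [mul_one, one_mul, Equiv.Perm.one_apply] at h1 h2
  have := congrFun (h1.perm_eq h2).2 i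
  rw [mul_comm (e i)] at this
  exact mul_left_cancel₀ (hg.2 i) this

variable [Finite F]

theorem card_tSub (hF : Nat.card F = q ^ 2) (h : UFrob σ q) (k : ℕ) :
    Nat.card (tSub (k + 1) F q) = (q + 1) ^ k := by
  classical
  have hne : ∀ {u : F}, u ^ (q + 1) = 1 → u ≠ 0 := fun {u} hu e => by
    rw [e, zero_pow (Nat.succ_ne_zero q)] at hu; exact zero_ne_one hu
  let D : (Fin k → normOne F q) → Fin (k + 1) → F := fun v =>
    Fin.cons (∏ i, ((v i).1 : F))⁻¹ fun i => ((v i).1 : F)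
  have hv1 : ∀ v : normOne F q, (v.1 : F) ^ (q + 1) = 1 := fun v => det_mem_normOne_iff.1 v.2
  have hD : ∀ v, (∀ i, D v i ^ (q + 1) = 1) ∧ ∏ i, D v i = 1 := fun v => by
    refine ⟨fun i => ?_, ?_⟩
    · cases i using Fin.cases with
      | zero => simp only [D, Fin.cons_zero, inv_pow, ← Finset.prod_pow, hv1, Finset.prod_const_one, inv_one]
      | succ i => simp only [D, Fin.cons_succ, hv1]
    · rw [Fin.prod_univ_succ]
      simp only [D, Fin.cons_zero, Fin.cons_succ]
      exact inv_mul_cancel₀ (Finset.prod_ne_zero_iff.2 fun i _ => Units.ne_zero _)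
  choose G hG using fun v => exists_dg (q := q) (D v) (hD v).1 (hD v).2
  let f : (Fin k → normOne F q) → tSub (k + 1) F q := fun v => ⟨G v, D v, hG v⟩
  have hf : Function.Bijective f := by
    refine ⟨fun v w e => funext fun i => Subtype.ext (Units.ext ?_), ?_⟩
    · have e' : G v = G w := congrArg Subtype.val e
      have := congrFun ((hG v).perm_eq (e' ▸ hG w)).2 i.succ
      simpa [D] using this
    · rintro ⟨g, d, hd⟩
      refine ⟨fun i => ⟨Units.mk0 (d i.succ) (hne (hd.norm h _)), det_mem_normOne_iff.2 (hd.norm h _)⟩,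
        Subtype.ext (IsMon.ext (hG _) ?_)⟩
      convert hd using 1
      funext i
      cases i using Fin.cases with
      | zero =>
        simp only [D, Fin.cons_zero, Units.val_mk0]
        refine inv_eq_of_mul_eq_one_left ?_
        rw [← hd.prod, Fin.prod_univ_succ]
      | succ i => simp only [D, Fin.cons_succ, Units.val_mk0]
  rw [← Nat.card_congr (Equiv.ofBijective f hf), Nat.card_fun, card_normOne hF, Nat.card_eq_fintype_card,
    Fintype.card_fin]

theorem exists_lam (hF : Nat.card F = q ^ 2) : ∃ lam : F, lam ^ (q + 1) = 1 ∧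
    (∀ u : F, u ^ (q + 1) = 1 → ∃ j : ℕ, lam ^ j = u) ∧ ∀ j : ℕ, lam ^ j = 1 → q + 1 ∣ j := by
  obtain ⟨g, hg⟩ := IsCyclic.exists_generator (α := normOne F q)
  have ho : orderOf g = q + 1 := by rw [orderOf_eq_card_of_forall_mem_zpowers hg, card_normOne hF]
  refine ⟨(g.1 : F), det_mem_normOne_iff.1 g.2, fun u hu => ?_, fun j hj => ?_⟩
  · have hu0 : u ≠ 0 := fun e => by rw [e, zero_pow (Nat.succ_ne_zero q)] at hu; exact zero_ne_one hu
    obtain ⟨j, hj⟩ : (⟨Units.mk0 u hu0, det_mem_normOne_iff.2 hu⟩ : normOne F q) ∈ Submonoid.powers g := by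
      rw [mem_powers_iff_mem_zpowers]; exact hg _
    exact ⟨j, by simpa using congrArg (fun w : normOne F q => (w.1 : F)) hj⟩
  · rw [← ho]
    exact orderOf_dvd_of_pow_eq_one (Subtype.ext (Units.ext (by simpa using hj)))

/-- The diagonal of a generator at the coordinate `i` against `0`. -/
def gv (lam : F) (i : Fin (k + 1)) : Fin (k + 1) → F :=
  fun j => (if j = i then lam else 1) * if j = 0 then lam⁻¹ else 1

omit [Finite F] in
theorem exists_gen (lam : F) (hlam : lam ^ (q + 1) = 1) (i : Fin (k + 1)) :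
    ∃ g : Cfsg.SU (k + 1) F q, IsMon g 1 (gv lam i) := by
  classical
  have h0 : lam ≠ 0 := fun e => by rw [e, zero_pow (Nat.succ_ne_zero q)] at hlam; exact zero_ne_one hlam
  refine exists_dg _ (fun j => ?_) ?_
  · rw [gv, mul_pow]
    split_ifs <;> simp [hlam, inv_pow]
  · simp only [gv, Finset.prod_mul_distrib, Finset.prod_ite_eq', Finset.mem_univ, if_true, mul_inv_cancel₀ h0]

/-- The generators exhaust the torus. -/
theorem tSub_le (hF : Nat.card F = q ^ 2) (h : UFrob σ q) (S : Subgroup (Cfsg.SU (k + 1) F q)) {lam : F}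
    (hlam : lam ^ (q + 1) = 1) (hgen : ∀ u : F, u ^ (q + 1) = 1 → ∃ j : ℕ, lam ^ j = u)
    (hS : ∀ i : Fin k, ∀ g, IsMon g 1 (gv lam i.succ) → g ∈ S) : tSub (k + 1) F q ≤ S := by
  classical
  have h0 : lam ≠ 0 := fun e => by rw [e, zero_pow (Nat.succ_ne_zero q)] at hlam; exact zero_ne_one hlam
  choose G hG using fun i : Fin k => exists_gen (k := k) lam hlam i.succ
  rintro g ⟨d, hd⟩
  choose e he using fun i : Fin k => hgen (d i.succ) (hd.norm h _)
  have key : ∀ T : Finset (Fin k), ∃ a ∈ S, ∃ f, IsMon a 1 f ∧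
      ∀ i : Fin k, f i.succ = if i ∈ T then d i.succ else 1 := by
    intro T
    induction T using Finset.induction_on with
    | empty => exact ⟨1, S.one_mem, _, IsMon.one, fun i => by simp⟩
    | insert i T hi ih =>
      obtain ⟨a, ha, f, hf, hfv⟩ := ih
      have hp : ∀ m : ℕ, ∃ b ∈ S, IsMon b 1 fun j => gv lam i.succ j ^ m := fun m => by
        induction m with
        | zero => exact ⟨1, S.one_mem, by simpa using IsMon.one⟩
        | succ m ihm =>
          obtain ⟨b, hb, hbm⟩ := ihm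
          exact ⟨b * G i, S.mul_mem hb (hS i _ (hG i)), by simpa only [pow_succ] using hbm.mul_diag (hG i)⟩
      obtain ⟨b, hb, hbm⟩ := hp (e i)
      refine ⟨a * b, S.mul_mem ha hb, _, hf.mul_diag hbm, fun j => ?_⟩
      show f j.succ * gv lam i.succ j.succ ^ e i = _
      rw [hfv, gv, if_neg (Fin.succ_ne_zero j), mul_one]
      rcases eq_or_ne j i with rfl | hj
      · rw [if_neg hi, if_pos rfl, if_pos (Finset.mem_insert_self _ _), he, one_mul]
      · rw [if_neg (fun e => hj (Fin.succ_injective _ e)), one_pow, mul_one]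
        simp [Finset.mem_insert, hj]
  obtain ⟨a, ha, f, hf, hfv⟩ := key Finset.univ
  have hfd : f = d := by
    funext j
    cases j using Fin.cases with
    | zero =>
      have h1 := hf.prod
      rw [← hd.prod, Fin.prod_univ_succ, Fin.prod_univ_succ] at h1
      simp only [hfv, Finset.mem_univ, if_true] at h1
      exact mul_right_cancel₀ (Finset.prod_ne_zero_iff.2 fun i _ => hd.2 i.succ) h1
    | succ i => rw [hfv, if_pos (Finset.mem_univ i)]
  rw [IsMon.ext hd (hfd ▸ hf)]
  exact ha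

variable {Γ : Type u} [Group Γ] {π : Γ →* Cfsg.SU (k + 1) F q}

/-- Lifts of the torus commute if those of the generators do. -/
theorem tSub_liftComm (hF : Nat.card F = q ^ 2) (h : UFrob σ q) (hπ : IsCE π) {lam : F} (hlam : lam ^ (q + 1) = 1)
    (hgen : ∀ u : F, u ^ (q + 1) = 1 → ∃ j : ℕ, lam ^ j = u)
    (hpair : ∀ i j : Fin k, i ≠ j → ∀ g g', IsMon g 1 (gv lam i.succ) → IsMon g' 1 (gv lam j.succ) → LiftComm π g g') :
    ∀ s ∈ tSub (k + 1) F q, ∀ t ∈ tSub (k + 1) F q, LiftComm π s t := by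
  have h1 : ∀ (i : Fin k) g, IsMon g 1 (gv lam i.succ) → tSub (k + 1) F q ≤ cLift hπ g := fun i g hg =>
    tSub_le hF h _ hlam hgen fun j g' hg' => by
      rcases eq_or_ne i j with rfl | hij
      · obtain ⟨a, ha⟩ := hπ.surj g
        show LiftComm π g g'
        rw [hg'.ext hg]
        exact (liftComm_iff hπ ha ha).2 rfl
      · exact hpair i j hij g g' hg hg'
  intro s hs
  exact fun t ht => (tSub_le hF h (cLift hπ t) hlam hgen (fun i g hg => (h1 i g hg ht).symm) hs).symm

/-- For an odd prime the lifts of the torus commute. -/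
theorem tSub_liftComm_odd (hF : Nat.card F = q ^ 2) (h : UFrob σ q) (hπ : IsCE π) {r : ℕ} [Fact r.Prime]
    (hr : IsPGroup r π.ker) (hodd : r ≠ 2) : ∀ s ∈ tSub (k + 1) F q, ∀ t ∈ tSub (k + 1) F q, LiftComm π s t := by
  classical
  obtain ⟨lam, hlam, hgen, -⟩ := exists_lam hF
  refine tSub_liftComm hF h hπ hlam hgen fun i j hij g g' hg hg' => ?_
  have hne : (0 : Fin (k + 1)) ≠ i.succ := (Fin.succ_ne_zero i).symm
  have hji : j.succ ≠ i.succ := fun e => hij (Fin.succ_injective _ e).symm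
  have hg1 := hg.inv_diag
  refine liftComm_of_invert' hπ hr hodd (u := sw hF hne) (tSub_comm ⟨_, hg⟩ ⟨_, hg'⟩) ?_ ?_
  · refine (sw_mon hF hne).conj hg ?_
    convert hg1 using 1
    funext l
    simp only [gv]
    rcases eq_or_ne l 0 with rfl | hl0
    · simp [hne, hne.symm]
    rcases eq_or_ne l i.succ with rfl | hli
    · simp [hne]
    · simp [Equiv.swap_apply_of_ne_of_ne hl0 hli, hl0, hli]
  · refine (sw_mon hF hne).conj hg' ?_
    convert hg1.mul_diag hg' using 1
    funext l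
    have h0 : lam ≠ 0 := fun e => by rw [e, zero_pow (Nat.succ_ne_zero q)] at hlam; exact zero_ne_one hlam
    simp only [gv]
    rcases eq_or_ne l 0 with rfl | hl0
    · simp [hne, hji.symm, Fin.succ_ne_zero, (Fin.succ_ne_zero _).symm, h0]
    rcases eq_or_ne l i.succ with rfl | hli
    · simp [hne, hji.symm, (Fin.succ_ne_zero j).symm, hl0]
    · simp [Equiv.swap_apply_of_ne_of_ne hl0 hli, hl0, hli]

end CfsgLib.MultSU
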