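import Cfsg.Agent.Lib.MultSU.Tool
import Cfsg.Agent.Lib.MinIdx.UnFrame
import Cfsg.Agent.Lib.PGroups.UniqueOrderP

/-!
Cyclic Sylow subgroups: primes not dividing the order of the stabiliser of an anisotropic vector.
-/

set_option autoImplicit false

namespace CfsgLib.MultSU

open Matrix CfsgLib.Classical CfsgLib.Classical.Unitary CfsgLib.MinIdx.Un

universe u

variable {F : Type u} [Field F] {σ : F →+* F} {q n k : ℕ}

/-- An element fixing an anisotropic vector comes from its complement. -/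
theorem mem_perp_range (h : UFrob σ q) {v : Fin n → F} {P : Matrix (Fin n) (Fin k) F} (hP : IsFrame σ P)
    (hPv : (P.map σ)ᵀ *ᵥ v = 0) (hdec : ∀ w, (uh σ w v / uh σ v v) • v + P *ᵥ ((P.map σ)ᵀ *ᵥ w) = w)
    {g : Cfsg.SU n F q} (hg : g.1.1 *ᵥ v = v) : g ∈ (frameHom h P hP).range := by
  have hgp : ∀ a, g.1.1 *ᵥ (P *ᵥ a) = P *ᵥ ((P.map σ)ᵀ *ᵥ (g.1.1 *ᵥ (P *ᵥ a))) := fun a => by
    have h0 : uh σ (g.1.1 *ᵥ (P *ᵥ a)) v = 0 := by
      nth_rewrite 1 [← hg]
      rw [su_uh h, uh_frame_left h, hPv, uh_zero_right]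
    have := hdec (g.1.1 *ᵥ (P *ᵥ a))
    rw [h0, zero_div, zero_smul, zero_add] at this
    exact this.symm
  obtain ⟨M, hM⟩ : ∃ M, M = (P.map σ)ᵀ * g.1.1 * P := ⟨_, rfl⟩
  have hMa : ∀ a, M *ᵥ a = (P.map σ)ᵀ *ᵥ (g.1.1 *ᵥ (P *ᵥ a)) := fun a => by
    rw [hM, ← mulVec_mulVec, ← mulVec_mulVec]
  have hmat : g.1.1 = 1 + P * ((M - 1) * (P.map σ)ᵀ) := by
    refine Matrix.ext_iff_mulVec.2 fun w => ?_
    rw [add_mulVec, one_mulVec, ← mulVec_mulVec, ← mulVec_mulVec, sub_mulVec, one_mulVec, hMa, mulVec_sub, ← hgp]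
    conv_lhs => rw [← hdec w, mulVec_add, mulVec_smul, hg]
    conv_rhs => arg 1; rw [← hdec w]
    abel
  have hdet : M.det = 1 := by
    have h2 := g.1.2
    rwa [hmat, det_one_add_mul_comm, Matrix.mul_assoc, hP, Matrix.mul_one, add_sub_cancel] at h2
  refine ⟨⟨⟨M, hdet⟩, mem_SU_iff.2 fun a b => ?_⟩, ?_⟩
  · show Cfsg.hermForm k F q (M *ᵥ a) (M *ᵥ b) = _
    rw [h.hermForm_eq, h.hermForm_eq, hMa, hMa, ← uh_frame_left h, ← hgp, su_uh h,
      uh_frame_left h, hP.apply]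
  · refine Subtype.ext (Subtype.ext ?_)
    show 1 + P * (M - 1) * (P.map σ)ᵀ = g.1.1
    rw [hmat, Matrix.mul_assoc]

variable [Finite F]

theorem cast_ne_zero (hF : Nat.card F = q ^ 2) {r : ℕ} (hr : r.Prime) (hrq : ¬ r ∣ q) : (r : F) ≠ 0 := by
  intro h0
  have h1 := (ringChar.spec F r).1 h0
  have h2 := (ringChar.spec F q).1 (cast_q_eq_zero hF)
  rcases (Nat.dvd_prime hr).1 h1 with e | e
  · exact CharP.ringChar_ne_one e
  · exact hrq (e ▸ h2)

/-- An element of prime power order prime to `SU k` fixes no vector. -/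
theorem eq_one_of_fix (hF : Nat.card F = q ^ 2) (h : UFrob σ q) {r : ℕ} (hr : r.Prime) (hrq : ¬ r ∣ q)
    (hk : ¬ r ∣ Nat.card (Cfsg.SU k F q)) {g : Cfsg.SU (k + 1) F q} {j : ℕ} (hj : orderOf g = r ^ j)
    {v : Fin (k + 1) → F} (hv0 : v ≠ 0) (hgv : g.1.1 *ᵥ v = v) : g = 1 := by
  obtain ⟨u, hu⟩ := exists_uh_eq_one h hv0
  have hpv : ∀ i : ℕ, ((g ^ i).1.1) *ᵥ v = v := fun i => by
    induction i with
    | zero => rw [pow_zero, su_one_mulVec]
    | succ i ih => rw [pow_succ, su_mul_mulVec, hgv, ih]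
  obtain ⟨ub, hub⟩ : ∃ ub, ub = ∑ i ∈ Finset.range (r ^ j), (g ^ i).1.1 *ᵥ u := ⟨_, rfl⟩
  have hgub : g.1.1 *ᵥ ub = ub := by
    rw [hub, mulVec_sum]
    have e : ∀ i, g.1.1 *ᵥ ((g ^ i).1.1 *ᵥ u) = (g ^ (i + 1)).1.1 *ᵥ u := fun i => by
      rw [← su_mul_mulVec, ← pow_succ']
    simp only [e]
    have h1 := Finset.sum_range_succ' (fun i => (g ^ i).1.1 *ᵥ u) (r ^ j)
    have h2 := Finset.sum_range_succ (fun i => (g ^ i).1.1 *ᵥ u) (r ^ j)
    rw [← hj, pow_orderOf_eq_one, hj] at h2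
    rw [pow_zero] at h1
    exact add_right_cancel (h1.symm.trans h2)
  obtain ⟨N, hN⟩ : ∃ N : F, N = ((r ^ j : ℕ) : F) := ⟨_, rfl⟩
  have hubv : uh σ ub v = N := by
    have e : ∀ i, uh σ ((g ^ i).1.1 *ᵥ u) v = 1 := fun i => by
      conv_lhs => rw [← hpv i]
      rw [su_uh h, hu]
    have hsum : ∀ T : Finset ℕ, uh σ (∑ i ∈ T, (g ^ i).1.1 *ᵥ u) v = (T.card : F) := fun T => by
      induction T using Finset.induction_on with
      | empty => simp [uh_zero_left]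
      | insert a T ha ih => rw [Finset.sum_insert ha, uh_add_left, e, ih, Finset.card_insert_of_notMem ha]; push_cast; ring
    rw [hub, hsum, Finset.card_range, hN]
  have hN0 : N ≠ 0 := by rw [hN, Nat.cast_pow]; exact pow_ne_zero _ (cast_ne_zero hF hr hrq)
  obtain ⟨w, hgw, hw⟩ : ∃ w, g.1.1 *ᵥ w = w ∧ uh σ w w ≠ 0 := by
    by_cases h1 : uh σ v v = 0
    · by_cases h2 : uh σ ub ub = 0
      · obtain ⟨θ, hθ⟩ := exists_trace h
        refine ⟨v + (θ / N) • ub, by rw [mulVec_add, mulVec_smul, hgv, hgub], ?_⟩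
        have hvu : uh σ v ub = N := by rw [← h.symm, hubv, hN, map_natCast]
        have hσN : σ N = N := by rw [hN, map_natCast]
        rw [uh_add_left, uh_add_right, uh_add_right, uh_smul_left, uh_smul_left, uh_smul_right, uh_smul_right,
          h1, h2, hvu, hubv, map_div₀, hσN, div_mul_cancel₀ _ hN0, div_mul_cancel₀ _ hN0, mul_zero, mul_zero,
          add_zero, zero_add, add_comm, hθ]
        exact one_ne_zero
      · exact ⟨ub, hgub, h2⟩
    · exact ⟨v, hgv, h1⟩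
  obtain ⟨P, hP, hPw, hdec⟩ := exists_frame_perp h hw
  obtain ⟨M, hM⟩ := mem_perp_range h hP hPw hdec hgw
  have h1 : orderOf g ∣ Nat.card (Cfsg.SU k F q) :=
    hM ▸ (orderOf_map_dvd (frameHom h P hP) M).trans (orderOf_dvd_natCard M)
  rw [hj] at h1
  rcases Nat.eq_zero_or_pos j with rfl | hj0
  · rwa [pow_zero, orderOf_eq_one_iff] at hj
  · exact absurd ((dvd_pow_self r hj0.ne').trans h1) hk

/-- No multiplier at an odd prime prime to the order of `SU k`. -/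
theorem noMult_free (hF : Nat.card F = q ^ 2) (h : UFrob σ q) {r : ℕ} [hr : Fact r.Prime] (hodd : r ≠ 2)
    (hrq : ¬ r ∣ q) (hk : ¬ r ∣ Nat.card (Cfsg.SU k F q)) : NoMult r (Cfsg.SU (k + 1) F q) := by
  classical
  obtain ⟨S₀⟩ := (inferInstance : Nonempty (Sylow r (Cfsg.SU (k + 1) F q)))
  suffices hS : ∀ S : Subgroup (Cfsg.SU (k + 1) F q), IsPGroup r S → IsCyclic S from
    NoMult.of_cyclic _ S₀.not_dvd_index (hS _ S₀.isPGroup')
  intro S hS
  have hr0 := cast_ne_zero hF hr.out hrq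
  -- no fixed vectors
  have hfree : ∀ g : S, g ≠ 1 → ∀ v, g.1.1.1 *ᵥ v = v → v = 0 := by
    intro g hg v hgv
    by_contra hv0
    obtain ⟨j, hj⟩ := IsPGroup.iff_orderOf.1 hS g
    exact hg (Subtype.ext (eq_one_of_fix hF h hr.out hrq hk (by rw [Subgroup.orderOf_coe, hj]) hv0 hgv))
  have hsum : ∀ w : S, w ≠ 1 → w ^ r = 1 → ∀ v,
      ∑ i ∈ Finset.range r, (w.1 ^ i).1.1 *ᵥ v = 0 := by
    intro w hw hwr v
    refine hfree w hw _ ?_
    rw [mulVec_sum]
    simp only [← su_mul_mulVec, ← pow_succ']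
    have h1 := Finset.sum_range_succ' (fun i => (w.1 ^ i).1.1 *ᵥ v) r
    have h2 := Finset.sum_range_succ (fun i => (w.1 ^ i).1.1 *ᵥ v) r
    rw [show w.1 ^ r = 1 by rw [← SubgroupClass.coe_pow, hwr]; rfl] at h2
    rw [pow_zero] at h1
    exact add_right_cancel (h1.symm.trans h2)
  rcases subsingleton_or_nontrivial S with hs | hs
  · infer_instance
  haveI := hS.center_nontrivial
  obtain ⟨z, hz⟩ : ∃ z : Subgroup.center S, orderOf z = r := by
    obtain ⟨j, hj⟩ := IsPGroup.iff_card.1 (hS.to_subgroup (Subgroup.center _))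
    refine exists_prime_orderOf_dvd_card' r (hj ▸ dvd_pow_self r fun e => ?_)
    rw [e, pow_zero] at hj
    exact not_subsingleton (Subgroup.center S) (Nat.card_eq_one_iff_unique.1 hj).1
  have hzr : z.1 ^ r = 1 := by rw [← SubgroupClass.coe_pow, ← hz, pow_orderOf_eq_one]; rfl
  refine (CfsgLib.PGroups.isCyclic_or_quaternion_of_unique hS hzr fun y hy => ?_).resolve_right
    fun e => hodd e.1
  by_contra hyz
  have hne : ∀ j : ℕ, y * z.1 ^ j ≠ 1 := fun j e => hyz (by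
    rw [eq_inv_of_mul_eq_one_left e]
    exact Subgroup.inv_mem _ (Subgroup.npow_mem_zpowers _ _))
  have hc : Commute y z.1 := Subgroup.mem_center_iff.1 z.2 y
  have hv : ∀ v : Fin (k + 1) → F, (r : F) • v = 0 := fun v => by
    have key : ∑ j ∈ Finset.range r, ∑ i ∈ Finset.range r, ((y * z.1 ^ j).1 ^ i).1.1 *ᵥ v = 0 :=
      Finset.sum_eq_zero fun j _ => hsum _ (hne j) (by
        rw [(hc.pow_right j).mul_pow, hy, ← pow_mul, mul_comm, pow_mul, hzr, one_pow, one_mul]) v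
    rw [Finset.sum_comm, Finset.sum_eq_single_of_mem 0 (Finset.mem_range.2 hr.out.pos) fun i hi hi0 => ?_] at key
    · simpa [su_one_mulVec, Nat.cast_smul_eq_nsmul] using key
    · have hzi : z.1 ^ i ≠ 1 := fun e => by
        have h1 : orderOf z.1 ∣ i := orderOf_dvd_of_pow_eq_one e
        rw [Subgroup.orderOf_coe, hz] at h1
        have := Nat.le_of_dvd (Nat.pos_of_ne_zero hi0) h1
        have := Finset.mem_range.1 hi
        omega
      have e : ∀ j : ℕ, ((y * z.1 ^ j).1 ^ i).1.1 *ᵥ v = (y.1 ^ i).1.1 *ᵥ (((z.1 ^ i).1 ^ j).1.1 *ᵥ v) := fun j => by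
        rw [← su_mul_mulVec, ← SubgroupClass.coe_pow, (hc.pow_right j).mul_pow, ← pow_mul, mul_comm j i, pow_mul,
          Subgroup.coe_mul, SubgroupClass.coe_pow, SubgroupClass.coe_pow]
      simp only [e]
      rw [← mulVec_sum, hsum _ hzi (by rw [← pow_mul, mul_comm, pow_mul, hzr, one_pow]) v, mulVec_zero]
  have := congrFun (hv (Pi.single 0 1)) 0
  simp at this
  exact hr0 this

end CfsgLib.MultSU
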