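import Cfsg.Agent.Lib.MultSU.Ext
import Cfsg.Agent.Lib.MultSU.Biadd
import Cfsg.Agent.Lib.MinIdx.UnTorus
import Cfsg.Agent.Lib.MinIdx.UnWeak

/-!
Lifts of the Heisenberg group at an isotropic point: their commutators meet the kernel trivially.
-/

set_option autoImplicit false

namespace CfsgLib.MultSU

open Matrix CfsgLib.Classical CfsgLib.Classical.Unitary CfsgLib.MinIdx.Un
open scoped commutatorElement

universe u

variable {F : Type u} [Field F] {σ : F →+* F} {q n m : ℕ} {x y : Fin n → F} {P : Matrix (Fin n) (Fin m) F}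

/-- The root elements at `x`. -/
noncomputable def qSub (h : UFrob σ q) (s : Split σ m x y P) : Subgroup (Cfsg.SU n F q) where
  carrier := {g | ∃ (a : Fin m → F) (c : F), Ok σ x (P *ᵥ a) c ∧ g = ue h x (P *ᵥ a) c}
  one_mem' := ⟨0, 0, by rw [mulVec_zero]; exact Ok.zero s.xx (by simp), by rw [mulVec_zero, ue_one]⟩
  mul_mem' := by
    rintro g g' ⟨a, c, he, rfl⟩ ⟨b, d, he', rfl⟩
    exact ⟨a + b, _, by rw [mulVec_add]; exact he.add h he', by rw [mulVec_add]; exact he.mul h he'⟩
  inv_mem' := by
    rintro g ⟨a, c, he, rfl⟩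
    exact ⟨-a, σ c, by rw [mulVec_neg]; exact he.inv_ok h, by rw [mulVec_neg]; exact he.inv h⟩

/-- A torus element with prescribed multipliers. -/
theorem exists_diag (h : UFrob σ q) (s : Split σ m x y P) {α : F} (hα : α ≠ 0) (i0 : Fin m) (d : Fin m → F)
    (hd : ∀ i, d i * σ (d i) = 1) (hdet : α / σ α * ∏ i, d i = 1) :
    ∃ g ∈ Mst σ q x y, scal σ x y g = α ∧ ∀ i r, lin σ P g (Pi.single i r) = Pi.single i (d i * r) := by
  classical
  have hσα : σ α ≠ 0 := by simpa using hα
  obtain ⟨k, hk, hks, -, hkp⟩ := exists_tor h s (uh_single_self h i0) hα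
  obtain ⟨d', hd'⟩ : ∃ d', d' = Function.update d i0 (d i0 * (α / σ α)) := ⟨_, rfl⟩
  have hn : ∀ i, d' i * σ (d' i) = 1 := fun i => by
    rcases eq_or_ne i i0 with rfl | hi
    · rw [hd', Function.update_self, map_mul, map_div₀, h.invol]
      field_simp
      linear_combination hd i
    · rw [hd', Function.update_of_ne hi, hd]
  have hdetd : (Matrix.diagonal d').det = 1 := by
    rw [det_diagonal, hd', Finset.prod_update_of_mem (Finset.mem_univ i0), mul_comm (d i0), mul_assoc,
      Finset.sdiff_singleton_eq_erase, Finset.mul_prod_erase _ _ (Finset.mem_univ i0), hdet]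
  let D : Cfsg.SU m F q := ⟨⟨Matrix.diagonal d', hdetd⟩, diagonal_mem_SU
    (fun i => by rw [pow_succ', ← h.pow, hn]) hdetd⟩
  refine ⟨k * ext h s D, Subgroup.mul_mem _ hk (ext_mem h s D), ?_, fun i r => ?_⟩
  · rw [scal_mul s hk (ext_mem h s D), scal_ext, mul_one, hks]
  · rw [lin, su_mul_mulVec, ext_p, hkp, s.frame.apply, uh_single_right, map_one, mul_one]
    funext j
    rcases eq_or_ne i i0 with rfl | hi
    · rcases eq_or_ne j i with rfl | hj
      · simp [D, mulVec_diagonal, hd']
        field_simp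
        ring
      · simp [D, mulVec_diagonal, hj]
    · rcases eq_or_ne j i with rfl | hj
      · simp [D, mulVec_diagonal, hd', hi.symm, hi, mul_comm]
      · simp [D, mulVec_diagonal, hd', hj, hi.symm]

theorem norm_div (h : UFrob σ q) {α : F} (hα : α ≠ 0) : σ α / α * σ (σ α / α) = 1 := by
  have hσα : σ α ≠ 0 := by simpa using hα
  rw [map_div₀, h.invol]
  field_simp

theorem prod_update_one {k : ℕ} (i : Fin k) (v : F) : ∏ j, Function.update (fun _ => (1 : F)) i v j = v := by
  rw [Finset.prod_update_of_mem (Finset.mem_univ i)]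
  simp

variable [Finite F]

/-- A large multiplier. -/
theorem orderOf_mu (hF : Nat.card F = q ^ 2) (hq : 3 ≤ q) {α : Fˣ} (hα : orderOf α = q ^ 2 - 1) :
    q ≤ orderOf (α ^ (2 * q - 1)) := by
  rw [orderOf_pow, hα]
  have hg : Nat.gcd (q ^ 2 - 1) (2 * q - 1) ∣ 3 := by
    have e : (2 * q - 1) * (2 * q + 1) = 4 * (q ^ 2 - 1) + 3 := by
      obtain ⟨j, rfl⟩ : ∃ j, q = j + 1 := ⟨q - 1, by omega⟩
      rw [show 2 * (j + 1) - 1 = 2 * j + 1 by omega,
        show (j + 1) ^ 2 - 1 = j * j + 2 * j from Nat.sub_eq_of_eq_add (by ring)]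
      ring
    have h1 : Nat.gcd (q ^ 2 - 1) (2 * q - 1) ∣ 4 * (q ^ 2 - 1) + 3 :=
      e ▸ (Nat.gcd_dvd_right _ _).trans (dvd_mul_right _ _)
    exact (Nat.dvd_add_right ((Nat.gcd_dvd_left _ _).trans (dvd_mul_left _ _))).1 h1
  rcases (Nat.dvd_prime Nat.prime_three).1 hg with hg | hg <;> rw [hg]
  · rw [Nat.div_one, Nat.le_sub_iff_add_le (Nat.one_le_pow _ _ (by omega)), sq]
    have : 3 * q ≤ q * q := Nat.mul_le_mul_right _ hq
    omega
  · rcases eq_or_lt_of_le hq with rfl | hq4
    · have := Nat.gcd_dvd_left (3 ^ 2 - 1) (2 * 3 - 1)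
      rw [hg] at this
      norm_num at this
    · rw [Nat.le_div_iff_mul_le three_pos, Nat.le_sub_iff_add_le (Nat.one_le_pow _ _ (by omega)), sq]
      have : 4 * q ≤ q * q := Nat.mul_le_mul_right _ hq4
      omega

theorem exists_gen_units (hF : Nat.card F = q ^ 2) : ∃ α : Fˣ, orderOf α = q ^ 2 - 1 := by
  obtain ⟨α, hα⟩ := IsCyclic.exists_generator (α := Fˣ)
  exact ⟨α, by rw [orderOf_eq_card_of_forall_mem_zpowers hα, card_units_sq hF]⟩

/-- An endomorphism cannot send a generator into the fixed field. -/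
theorem no_fixed_image (h : UFrob σ q) {φ : F →+* F} {w : F} (hw : Subring.closure {w} = ⊤)
    (hfix : σ (φ w) = φ w) : False := by
  have hall : ∀ u, σ (φ u) = φ u := fun u => by
    have hle : Subring.closure {w} ≤ RingHom.eqLocus (σ.comp φ) φ :=
      Subring.closure_le.2 (Set.singleton_subset_iff.2 hfix)
    exact hle (hw ▸ Subring.mem_top u)
  refine h.ne (RingHom.ext fun z => ?_)
  obtain ⟨u, rfl⟩ := Finite.surjective_of_injective φ.injective z
  exact hall u

variable {Γ : Type u} [Group Γ] [Finite Γ] {π : Γ →* Cfsg.SU n F q}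

omit [Finite F] [Finite Γ] in
/-- The central elements lie in the derived group of the root elements. -/
theorem center_comm (h : UFrob σ q) (s : Split σ m x y P) (i : Fin m) {θ c : F} (hθ : θ + σ θ = 1)
    (hc : c + σ c = 0) {d e : F} (hd : Ok σ x (P *ᵥ Pi.single i ((θ * c))) d)
    (he : Ok σ x (P *ᵥ Pi.single i 1) e) :
    ⁅ue h x (P *ᵥ Pi.single i ((θ * c))) d, ue h x (P *ᵥ Pi.single i 1) e⁆ = ue h x 0 c := by
  have o0 : Ok σ x 0 c := Ok.zero s.xx hc
  rw [commutatorElement_def, mul_inv_eq_iff_eq_mul, mul_inv_eq_iff_eq_mul, hd.mul h he, o0.mul h he, zero_add,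
    (o0.add h he |> fun o => (show Ok σ x (P *ᵥ Pi.single i 1) (c + e - uh σ (P *ᵥ Pi.single i 1) 0) from
      by rwa [zero_add] at o)).mul h hd, add_comm (P *ᵥ Pi.single i 1)]
  congr 1
  rw [uh_zero_right, s.pp h, s.pp h, uh_single_left, uh_single_left]
  simp only [Pi.single_eq_same, map_neg, map_mul, map_one]
  have : σ c = -c := eq_neg_of_add_eq_zero_right hc
  rw [this]
  linear_combination c * hθ

/-- The canonical root element over a vector. -/
noncomputable def g0 (h : UFrob σ q) (x : Fin n → F) (P : Matrix (Fin n) (Fin m) F) (θ : F) (a : Fin m → F) :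
    Cfsg.SU n F q := ue h x (P *ᵥ a) (-θ * uh σ a a)

omit [Finite F] in
theorem g0_mem (h : UFrob σ q) (s : Split σ m x y P) {θ : F} (hθ : θ + σ θ = 1) (a : Fin m → F) :
    g0 h x P θ a ∈ qSub h s := ⟨a, _, Ok.exists_c h s hθ a, rfl⟩

omit [Finite F] in
theorem center_mem (h : UFrob σ q) (s : Split σ m x y P) {c : F} (hc : c + σ c = 0) :
    ue h x 0 c ∈ qSub h s :=
  ⟨0, c, by rw [mulVec_zero]; exact Ok.zero s.xx hc, by rw [mulVec_zero]⟩

omit [Finite F] in
theorem center_commute (h : UFrob σ q) (s : Split σ m x y P) {c : F} (hc : c + σ c = 0)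
    {g : Cfsg.SU n F q} (hg : g ∈ qSub h s) : g * ue h x 0 c = ue h x 0 c * g := by
  obtain ⟨a, d, he, rfl⟩ := hg
  rw [he.mul h (Ok.zero s.xx hc), (Ok.zero s.xx hc).mul h he, uh_zero_left, uh_zero_right]
  congr 1 <;> simp [add_comm]

omit [Finite F] in
theorem g0_add (h : UFrob σ q) (s : Split σ m x y P) {θ : F} (hθ : θ + σ θ = 1) (a b : Fin m → F) :
    ∃ d, d + σ d = 0 ∧ g0 h x P θ (a + b) = g0 h x P θ a * g0 h x P θ b * ue h x 0 d := by
  have hok := fun a : Fin m → F => Ok.exists_c h s hθ a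
  have o := (hok a).add h (hok b)
  rw [← mulVec_add] at o
  obtain ⟨d, hd⟩ : ∃ d, d = -θ * uh σ (a + b) (a + b) - (-θ * uh σ a a + -θ * uh σ b b - uh σ (P *ᵥ b) (P *ᵥ a)) :=
    ⟨_, rfl⟩
  have hd0 : d + σ d = 0 := by
    have e1 := o.2.2
    have e2 := (hok (a + b)).2.2
    rw [hd, map_sub]
    linear_combination e2 - e1
  refine ⟨d, hd0, ?_⟩
  simp only [g0]
  rw [(hok a).mul h (hok b), ← mulVec_add, o.mul h (Ok.zero s.xx hd0), add_zero, uh_zero_left]
  congr 1
  rw [hd]; ring

/-- A subgroup with the coordinate and central elements contains all root elements. -/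
theorem qSub_le (h : UFrob σ q) (s : Split σ m x y P) {θ : F} (hθ : θ + σ θ = 1) (S : Subgroup (Cfsg.SU n F q))
    (hcoord : ∀ i r, g0 h x P θ (Pi.single i r) ∈ S) (hcen : ∀ c, c + σ c = 0 → ue h x 0 c ∈ S) : qSub h s ≤ S := by
  classical
  have hall : ∀ a : Fin m → F, g0 h x P θ a ∈ S := by
    intro a
    rw [← Finset.univ_sum_single a]
    generalize (Finset.univ : Finset (Fin m)) = T
    induction T using Finset.induction_on with
    | empty =>
      simp only [Finset.sum_empty, g0, uh_zero_left, mul_zero, mulVec_zero, ue_one]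
      exact Subgroup.one_mem _
    | insert i T hi ih =>
      rw [Finset.sum_insert hi]
      obtain ⟨d, hd, e⟩ := g0_add h s hθ (Pi.single i (a i)) (∑ j ∈ T, Pi.single j (a j))
      rw [e]
      exact S.mul_mem (S.mul_mem (hcoord i _) ih) (hcen d hd)
  rintro _ ⟨a, d, hd, rfl⟩
  have hd0 : d + θ * uh σ a a + σ (d + θ * uh σ a a) = 0 := by
    have := hd.2.2
    rw [s.pp h] at this
    rw [map_add, map_mul, h.symm]
    linear_combination this + uh σ a a * hθ
  have e : ue h x (P *ᵥ a) d = g0 h x P θ a * ue h x 0 (d + θ * uh σ a a) := by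
    rw [g0, (Ok.exists_c h s hθ a).mul h (Ok.zero s.xx hd0), add_zero, uh_zero_left]
    congr 1; ring
  rw [e]
  exact S.mul_mem (hall a) (hcen _ hd0)

/-- The lifts of central elements commute. -/
theorem center_center (h : UFrob σ q) (hπ : IsCE π) (s : Split σ m x y P) (i : Fin m) {c d : F} (hc : c + σ c = 0)
    (hd : d + σ d = 0) : LiftComm π (ue h x 0 c) (ue h x 0 d) := by
  obtain ⟨θ, hθ⟩ := exists_trace h
  have o1 := Ok.exists_c h s hθ (Pi.single i ((θ * c)))
  have o2 := Ok.exists_c h s hθ (Pi.single i (1 : F))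
  obtain ⟨a, ha⟩ := hπ.surj (g0 h x P θ (Pi.single i ((θ * c))))
  obtain ⟨b, hb⟩ := hπ.surj (g0 h x P θ (Pi.single i 1))
  obtain ⟨z, hz⟩ := hπ.surj (ue h x 0 d)
  refine (liftComm_iff hπ (a := ⁅a, b⁆) ?_ hz).2 (commutatorElement_eq_one_iff_mul_comm.1 ?_)
  · rw [map_commutatorElement, ha, hb]
    exact center_comm h s i hθ hc o1 o2
  have hca : π a * π z = π z * π a := by rw [ha, hz]; exact center_commute h s hd (g0_mem h s hθ _)
  have hcb : π b * π z = π z * π b := by rw [hb, hz]; exact center_commute h s hd (g0_mem h s hθ _)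
  have hai : π a⁻¹ * π z = π z * π a⁻¹ := by rw [map_inv]; exact (Commute.inv_left hca :)
  have hbi : π b⁻¹ * π z = π z * π b⁻¹ := by rw [map_inv]; exact (Commute.inv_left hcb :)
  rw [commutatorElement_def a b, bracket_mul_left hπ hbi, bracket_mul_left hπ hai, bracket_mul_left hπ hcb,
    bracket_inv_left hπ hca, bracket_inv_left hπ hcb,
    ← hπ.ker_comm (bracket_mem_ker hcb) ⁅a, z⁆, inv_mul_cancel_left, inv_mul_cancel]

/-- The lifts of root elements commute with those of the central ones. -/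
theorem center_liftComm (hF : Nat.card F = q ^ 2) (h : UFrob σ q) (hπ : IsCE π) (s : Split σ m x y P) (i0 : Fin m)
    {c : F} (hc : c + σ c = 0) {g : Cfsg.SU n F q} (hg : g ∈ qSub h s) : LiftComm π (ue h x 0 c) g := by
  classical
  obtain ⟨θ, hθ⟩ := exists_trace h
  have hok : ∀ a : Fin m → F, Ok σ x (P *ᵥ a) (-θ * uh σ a a) := fun a => Ok.exists_c h s hθ a
  -- the coordinate elements
  have hcoord : ∀ (i : Fin m) (r : F) (c : F), c + σ c = 0 →
      LiftComm π (ue h x 0 c) (g0 h x P θ (Pi.single i r)) := by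
    intro i
    by_cases hq : q = 2
    · -- every central element is a square
      intro r c hc
      have h2 := two_eq_zero_of_q_two hF hq
      rcases eq_or_ne r 0 with rfl | hr
      · rw [g0, Pi.single_zero, uh_zero_left, mul_zero, mulVec_zero, ue_one]
        exact fun a b _ hb => hπ.ker_comm hb a
      have hc01 : c = 0 ∨ c = r * σ r := by
        haveI : Fintype F := Fintype.ofFinite F
        have hn : r * σ r = 1 := by
          have := FiniteField.pow_card_sub_one_eq_one r hr
          rw [← Nat.card_eq_fintype_card, hF, hq] at this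
          rw [h.pow, hq, ← pow_succ']
          exact this
        rw [hn]
        have hσ : c ^ 2 = c := by
          rw [show c ^ 2 = σ c by rw [h.pow, hq]]
          linear_combination hc - c * h2
        rcases eq_or_ne c 0 with h0 | h0
        · exact Or.inl h0
        · exact Or.inr (mul_right_cancel₀ h0 (by linear_combination hσ))
      rcases hc01 with rfl | rfl
      · rw [ue_one]; exact fun a b ha _ => (hπ.ker_comm ha b).symm
      obtain ⟨b, hb⟩ := hπ.surj (g0 h x P θ (Pi.single i r))
      refine (liftComm_iff hπ (a := b * b) ?_ hb).2 (by rw [mul_assoc])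
      rw [map_mul, hb, g0, (hok _).mul h (hok _), ← mulVec_add, ← Pi.single_add,
        show r + r = 0 by linear_combination r * h2, Pi.single_zero, mulVec_zero, s.pp h, uh_single_left,
        Pi.single_eq_same]
      congr 1
      linear_combination -(θ * (r * σ r)) * h2 - (r * σ r) * h2
    have hq3 : 3 ≤ q := by have := two_le_q hF; omega
    obtain ⟨α, hα⟩ := exists_gen_units hF (F := F)
    obtain ⟨t, ht, hts, htl⟩ := exists_diag h s α.ne_zero i (Function.update (fun _ => 1) i (σ (α : F) / α))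
      (fun j => by
        rcases eq_or_ne j i with rfl | hj
        · rw [Function.update_self]; exact norm_div h α.ne_zero
        · rw [Function.update_of_ne hj]; simp)
      (by rw [prod_update_one]; field_simp)
    obtain ⟨c0, hc0, hc0s⟩ := exists_skew h
    have hsk : ∀ r : F, (r + σ r) * c0 + σ ((r + σ r) * c0) = 0 := fun r => by
      rw [map_mul, map_add, h.invol]
      linear_combination (r + σ r) * hc0s
    choose L hL using hπ.surj
    have hcomm : ∀ r r', π (L (g0 h x P θ (Pi.single i r))) * π (L (ue h x 0 ((r' + σ r') * c0))) =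
        π (L (ue h x 0 ((r' + σ r') * c0))) * π (L (g0 h x P θ (Pi.single i r))) := fun r r' => by
      rw [hL, hL]; exact center_commute h s (hsk r') (g0_mem h s hθ _)
    letI : CommGroup π.ker :=
      { (inferInstance : Group π.ker) with mul_comm := fun a b => Subtype.ext (hπ.ker_comm b.2 a) }
    let β : F → F → Additive π.ker := fun r r' => Additive.ofMul
      ⟨⁅L (g0 h x P θ (Pi.single i r)), L (ue h x 0 ((r' + σ r') * c0))⁆, bracket_mem_ker (hcomm r r')⟩
    have z : ∀ (a : Γ) {w : Γ}, w ∈ π.ker → a * w = w * a := fun a w hw => hπ.ker_comm hw a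
    have hβ1 : ∀ r r2 r', β (r + r2) r' = β r r' + β r2 r' := fun r r2 r' => by
      obtain ⟨d, hd, e⟩ := g0_add h s hθ (Pi.single i r) (Pi.single i r2)
      rw [← Pi.single_add] at e
      refine congrArg Additive.ofMul (Subtype.ext ?_)
      show ⁅_, _⁆ = ⁅_, _⁆ * ⁅_, _⁆
      rw [bracket_congr_left hπ (a' := L (g0 h x P θ (Pi.single i r)) * L (g0 h x P θ (Pi.single i r2)) *
          L (ue h x 0 d)) (by rw [map_mul, map_mul, hL, hL, hL, hL, e]),
        bracket_mul_left hπ (by rw [hL, hL]; exact center_commute h s (hsk r') (center_mem h s hd)),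
        bracket_mul_left hπ (hcomm r2 r'),
        commutatorElement_eq_one_iff_mul_comm.2 (center_center h hπ s i hd (hsk r') _ _ (hL _) (hL _)), one_mul]
      exact z _ (bracket_mem_ker (hcomm r r'))
    have hβ2 : ∀ r r1 r2, β r (r1 + r2) = β r r1 + β r r2 := fun r r1 r2 => by
      refine congrArg Additive.ofMul (Subtype.ext ?_)
      show ⁅_, _⁆ = ⁅_, _⁆ * ⁅_, _⁆
      rw [← bracket_mul_right hπ (hcomm r r2)]
      refine bracket_congr hπ rfl ?_
      rw [map_mul, hL, hL, hL, (Ok.zero s.xx (hsk r1)).mul h (Ok.zero s.xx (hsk r2)), add_zero, uh_zero_left,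
        map_add]
      congr 1; ring
    have hinv : ∀ r r', β (((α ^ (2 * q - 1) : Fˣ) : F) * r) (((α : F) * σ α) * r') = β r r' := fun r r' => by
      refine congrArg Additive.ofMul (Subtype.ext ?_)
      show ⁅_, _⁆ = ⁅_, _⁆
      obtain ⟨τ, hτ⟩ := hπ.surj t
      rw [← bracket_conj hπ (u := τ) (hcomm r r')]
      have e1 := (conj_ue h s ht (hok (Pi.single i r))).2
      rw [hts, htl, Function.update_self, ← Pi.single_smul, smul_eq_mul] at e1
      refine bracket_congr hπ ?_ ?_
      · rw [hL, map_mul π, map_mul π, map_inv π, hτ, hL]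
        simp only [g0]
        rw [e1]
        have hw : ((α ^ (2 * q - 1) : Fˣ) : F) = σ α * (σ (α : F) / α) := by
          rw [Units.val_pow_eq_pow_val, h.pow, ← mul_div_assoc, ← pow_add, eq_div_iff α.ne_zero, ← pow_succ]
          congr 1; omega
        rw [hw, mul_assoc (σ (α : F))]
        congr 1
        simp only [uh_single_left, Pi.single_eq_same, map_mul, map_div₀, h.invol]
        field_simp
      · rw [hL, map_mul π, map_mul π, map_inv π, hτ, hL]
        have e2 := (conj_ue h s ht (a := 0) (c := (r' + σ r') * c0) (by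
          rw [mulVec_zero]; exact Ok.zero s.xx (hsk r'))).2
        have hl0 : lin σ P t 0 = 0 := by simp [lin]
        rw [mulVec_zero, hts, hl0, smul_zero, mulVec_zero] at e2
        rw [e2]
        congr 1
        rw [map_mul, map_mul, h.invol]
        ring
    rcases biadd_hom β hβ1 hβ2 (closure_eq_top hF (orderOf_mu hF hq3 hα))
        (mul_ne_zero α.ne_zero (by simp)) hinv with hz | ⟨φ, hφ, -⟩
    · intro r c hc
      have hρ : σ (c / c0) = c / c0 := by
        have hsc : σ c = -c := eq_neg_of_add_eq_zero_right hc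
        have hsc0 : σ c0 = -c0 := eq_neg_of_add_eq_zero_right hc0s
        rw [map_div₀, hsc, hsc0, neg_div_neg_eq]
      have e : (θ * (c / c0) + σ (θ * (c / c0))) * c0 = c := by
        rw [map_mul, hρ, ← add_mul, hθ, one_mul, div_mul_cancel₀ _ hc0]
      rw [← e]
      refine LiftComm.symm ((liftComm_iff hπ (hL _) (hL _)).2 (commutatorElement_eq_one_iff_mul_comm.1 ?_))
      exact congrArg Subtype.val (congrArg Additive.toMul (hz r (θ * (c / c0))))
    · exfalso
      refine no_fixed_image h (closure_eq_top hF (orderOf_mu hF hq3 hα)) (φ := φ) ?_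
      rw [hφ, map_inv₀, map_mul, h.invol, mul_comm]
  exact qSub_le h s hθ (cLift hπ (ue h x 0 c)) (fun i r => hcoord i r c hc) (fun d hd => center_center h hπ s i0 hc hd) hg

end CfsgLib.MultSU
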