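import Cfsg.Agent.Lib.MultSU.Heis
import Cfsg.Agent.Lib.MinIdx.UnLift

/-!
The derived group of the lifted root elements meets the kernel trivially.
-/

set_option autoImplicit false

namespace CfsgLib.MultSU

open Matrix CfsgLib.Classical CfsgLib.Classical.Unitary CfsgLib.MinIdx.Un
open scoped commutatorElement

universe u

variable {F : Type u} [Field F] {σ : F →+* F} {q n m : ℕ} {x y : Fin n → F} {P : Matrix (Fin n) (Fin m) F}

/-- The commutator of two root elements. -/
theorem q_comm (h : UFrob σ q) (s : Split σ m x y P) {a b : Fin m → F} {ca cb : F}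
    (oa : Ok σ x (P *ᵥ a) ca) (ob : Ok σ x (P *ᵥ b) cb) :
    ⁅ue h x (P *ᵥ a) ca, ue h x (P *ᵥ b) cb⁆ = ue h x 0 (uh σ a b - uh σ b a) := by
  have hsk : uh σ a b - uh σ b a + σ (uh σ a b - uh σ b a) = 0 := by
    rw [map_sub, h.symm, h.symm]; ring
  have o0 : Ok σ x 0 (uh σ a b - uh σ b a) := Ok.zero s.xx hsk
  have o1 : Ok σ x (P *ᵥ b) (uh σ a b - uh σ b a + cb - uh σ (P *ᵥ b) 0) := by
    have := o0.add h ob
    rwa [zero_add] at this
  rw [commutatorElement_def, mul_inv_eq_iff_eq_mul, mul_inv_eq_iff_eq_mul, oa.mul h ob, o0.mul h ob,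
    zero_add, o1.mul h oa, add_comm (P *ᵥ b)]
  congr 1
  rw [uh_zero_right, s.pp h, s.pp h]
  ring

theorem q_comm0 (h : UFrob σ q) (s : Split σ m x y P) {θ : F} (hθ : θ + σ θ = 1) (a b : Fin m → F) :
    ⁅g0 h x P θ a, g0 h x P θ b⁆ = ue h x 0 (uh σ a b - uh σ b a) :=
  q_comm h s (Ok.exists_c h s hθ a) (Ok.exists_c h s hθ b)

theorem center_mul (h : UFrob σ q) (s : Split σ m x y P) {c d : F} (hc : c + σ c = 0) (hd : d + σ d = 0) :
    ue h x 0 c * ue h x 0 d = ue h x 0 (c + d) := by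
  rw [(Ok.zero s.xx hc).mul h (Ok.zero s.xx hd), add_zero, uh_zero_left, sub_zero]

theorem center_inj (h : UFrob σ q) (s : Split σ m x y P) {c : F} (hc : c + σ c = 0) (e : ue h x 0 c = 1) :
    c = 0 := by
  have h1 := congrArg (fun g : Cfsg.SU n F q => g.1.1 *ᵥ y) e
  simp only [ue_apply h (Ok.zero s.xx hc), su_one_mulVec, uh_zero_right, smul_zero, add_zero, s.yx h, mul_one,
    sub_zero, add_eq_left, smul_eq_zero] at h1
  exact h1.resolve_right s.x_ne

/-- The central root elements. -/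
noncomputable def zSub (h : UFrob σ q) (s : Split σ m x y P) : Subgroup (Cfsg.SU n F q) where
  carrier := {g | ∃ c, c + σ c = 0 ∧ g = ue h x 0 c}
  one_mem' := ⟨0, by simp, (ue_one h x).symm⟩
  mul_mem' := by
    rintro _ _ ⟨c, hc, rfl⟩ ⟨d, hd, rfl⟩
    exact ⟨c + d, add_skew hc hd, center_mul h s hc hd⟩
  inv_mem' := by
    rintro _ ⟨c, hc, rfl⟩
    exact ⟨σ c, by rw [h.invol, add_comm, hc], by rw [(Ok.zero s.xx hc).inv h, neg_zero]⟩

theorem comm_mem_zSub (h : UFrob σ q) (s : Split σ m x y P) {g k : Cfsg.SU n F q} (hg : g ∈ qSub h s)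
    (hk : k ∈ qSub h s) : ⁅g, k⁆ ∈ zSub h s := by
  obtain ⟨a, ca, oa, rfl⟩ := hg
  obtain ⟨b, cb, ob, rfl⟩ := hk
  exact ⟨_, by rw [map_sub, h.symm, h.symm]; ring, q_comm h s oa ob⟩

/-- A cyclic permutation of three coordinates. -/
theorem exists_three_cycle [Finite F] (hF : Nat.card F = q ^ 2) (hq : q = 2) {i j k : Fin m} (hij : i ≠ j)
    (hik : i ≠ k) (hjk : j ≠ k) :
    ∃ M : Cfsg.SU m F q, M ^ 3 = 1 ∧ ∀ r, M.1.1 *ᵥ Pi.single i r = Pi.single j r := by
  let A : Cfsg.SU m F q := ⟨⟨signSwap F i j, signSwap_det hij⟩, signSwap_mem_SU hF hij⟩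
  let B : Cfsg.SU m F q := ⟨⟨signSwap F j k, signSwap_det hjk⟩, signSwap_mem_SU hF hjk⟩
  have h1 : (-1 : F) = 1 := by linear_combination -(two_eq_zero_of_q_two hF hq)
  have hAB : ∀ (u : Fin m → F) l, ((A * B).1.1 *ᵥ u) l = u (Equiv.swap j k (Equiv.swap i j l)) := fun u l => by
    rw [su_mul_mulVec]
    simp only [A, B, signSwap_mulVec, h1, ite_self, one_mul]
  refine ⟨A * B, su_ext fun u => funext fun l => ?_, fun r => funext fun l => ?_⟩
  · rw [pow_succ, pow_two, su_mul_mulVec, su_mul_mulVec, su_one_mulVec, hAB, hAB, hAB]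
    congr 1
    simp only [Equiv.swap_apply_def]
    grind
  · rw [hAB, Pi.single_apply, Pi.single_apply]
    simp only [Equiv.swap_apply_def]
    grind

/-- The field of four elements. -/
theorem four_cases [Finite F] (hF : Nat.card F = q ^ 2) (hq : q = 2) {ω : F} (hω : 1 + ω + ω ^ 2 = 0) (r : F) :
    r = 0 ∨ r = 1 ∨ r = ω ∨ r = 1 + ω := by
  classical
  have h2 := two_eq_zero_of_q_two hF hq
  haveI : Fintype F := Fintype.ofFinite F
  rcases eq_or_ne r 0 with hr | hr
  · exact Or.inl hr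
  have h3 : r ^ 3 = 1 := by
    have := FiniteField.pow_card_sub_one_eq_one r hr
    rw [← Nat.card_eq_fintype_card, hF, hq] at this
    exact this
  have h4 : (r - 1) * ((r - ω) * (r - (1 + ω))) = 0 := by
    linear_combination h3 + r * hω - hω + (r * ω - r ^ 2 * (1 + ω) + 1) * h2
  rcases mul_eq_zero.1 h4 with e | e
  · exact Or.inr (Or.inl (sub_eq_zero.1 e))
  rcases mul_eq_zero.1 e with e | e
  · exact Or.inr (Or.inr (Or.inl (sub_eq_zero.1 e)))
  · exact Or.inr (Or.inr (Or.inr (sub_eq_zero.1 e)))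

/-- Conjugation by a torus element. -/
theorem conj_g0 (h : UFrob σ q) (s : Split σ m x y P) {θ : F} (hθ : θ + σ θ = 1) {t : Cfsg.SU n F q}
    (ht : t ∈ Mst σ q x y) {d : Fin m → F} (hd : ∀ i, d i * σ (d i) = 1)
    (hl : ∀ i r, lin σ P t (Pi.single i r) = Pi.single i (d i * r)) (i : Fin m) (r : F) :
    t * g0 h x P θ (Pi.single i r) * t⁻¹ = g0 h x P θ (Pi.single i (σ (scal σ x y t) * d i * r)) := by
  simp only [g0]
  rw [(conj_ue h s ht (Ok.exists_c h s hθ _)).2, hl, ← Pi.single_smul, smul_eq_mul, mul_assoc]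
  congr 1
  · rw [mul_assoc]
  simp only [uh_single_left, Pi.single_eq_same, map_mul, h.invol]
  linear_combination -(θ * (r * σ r) * (scal σ x y t * σ (scal σ x y t))) * (-hd i)

theorem conj_center (h : UFrob σ q) (s : Split σ m x y P) {t : Cfsg.SU n F q} (ht : t ∈ Mst σ q x y)
    {c : F} (hc : c + σ c = 0) :
    t * ue h x 0 c * t⁻¹ = ue h x 0 (scal σ x y t * σ (scal σ x y t) * c) := by
  have e2 := (conj_ue h s ht (a := 0) (c := c) (by rw [mulVec_zero]; exact Ok.zero s.xx hc)).2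
  have hl0 : lin σ P t 0 = 0 := by simp [lin]
  rwa [mulVec_zero, hl0, smul_zero, mulVec_zero] at e2

/-- Two torus elements commute. -/
theorem diag_comm (h : UFrob σ q) (s : Split σ m x y P) {t t' : Cfsg.SU n F q} (ht : t ∈ Mst σ q x y)
    (ht' : t' ∈ Mst σ q x y) {d d' : Fin m → F} (hl : ∀ i r, lin σ P t (Pi.single i r) = Pi.single i (d i * r))
    (hl' : ∀ i r, lin σ P t' (Pi.single i r) = Pi.single i (d' i * r)) : t * t' = t' * t := by
  have key : ∀ {k k' : Cfsg.SU n F q} {e e' : Fin m → F}, k ∈ Mst σ q x y → k' ∈ Mst σ q x y →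
      (∀ i r, lin σ P k (Pi.single i r) = Pi.single i (e i * r)) →
      (∀ i r, lin σ P k' (Pi.single i r) = Pi.single i (e' i * r)) →
      ∀ a, (k * k').1.1 *ᵥ (P *ᵥ a) = P *ᵥ (∑ i, Pi.single i (e i * (e' i * a i))) := by
    intro k k' e e' hk hk' he he' a
    conv_lhs => rw [← Finset.univ_sum_single a, mulVec_sum, mulVec_sum]
    rw [mulVec_sum]
    refine Finset.sum_congr rfl fun i _ => ?_
    rw [su_mul_mulVec, Mst_p h s hk', he', Mst_p h s hk, he]
  refine su_ext_split h s ?_ ?_ fun a => ?_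
  · rw [su_mul_mulVec, su_mul_mulVec, (Mst_x s ht').2, mulVec_smul, (Mst_x s ht).2, mulVec_smul, (Mst_x s ht').2,
      smul_comm]
  · rw [su_mul_mulVec, su_mul_mulVec, Mst_y h s ht', mulVec_smul, Mst_y h s ht, mulVec_smul, Mst_y h s ht',
      smul_comm]
  · rw [key ht ht' hl hl' a, key ht' ht hl' hl a]
    exact congrArg (P *ᵥ ·) (Finset.sum_congr rfl fun i _ => by rw [mul_left_comm])

variable [Finite F] {Γ : Type u} [Group Γ] [Finite Γ] {π : Γ →* Cfsg.SU n F q}

/-- The bracket of two lifts is additive. -/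
theorem bracket_g0_add (hF : Nat.card F = q ^ 2) (h : UFrob σ q) (hπ : IsCE π) (s : Split σ m x y P) (i0 : Fin m)
    {θ : F} (hθ : θ + σ θ = 1) {a b : Fin m → F} {A B AB C : Γ} (hA : π A = g0 h x P θ a)
    (hB : π B = g0 h x P θ b) (hAB : π AB = g0 h x P θ (a + b)) (hC : π C ∈ qSub h s) :
    ⁅AB, C⁆ = ⁅B, C⁆ * ⁅A, C⁆ ∧ ⁅C, AB⁆ = ⁅C, A⁆ * ⁅C, B⁆ := by
  obtain ⟨d, hd, e⟩ := g0_add h s hθ a b
  obtain ⟨D, hD⟩ := hπ.surj (ue h x 0 d)
  have hDC : D * C = C * D := center_liftComm hF h hπ s i0 hd hC D C hD rfl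
  have e0 : π AB = π (A * B * D) := by rw [map_mul, map_mul, hA, hB, hD, hAB, e]
  have hcen : ∀ X Y : Γ, π X ∈ qSub h s → π Y ∈ qSub h s → ⁅X, Y⁆ * A = A * ⁅X, Y⁆ := fun X Y hX hY => by
    obtain ⟨c, hc, ec⟩ := comm_mem_zSub h s hX hY
    exact center_liftComm hF h hπ s i0 hc (g0_mem h s hθ a) _ _ (by rw [map_commutatorElement, ec]) hA
  have hBq : π B ∈ qSub h s := hB ▸ g0_mem h s hθ b
  constructor
  · rw [bracket_congr_left hπ e0,
      show ⁅A * B * D, C⁆ = A * (B * ⁅D, C⁆ * B⁻¹ * ⁅B, C⁆) * A⁻¹ * ⁅A, C⁆ by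
        simp only [commutatorElement_def]; group,
      commutatorElement_eq_one_iff_mul_comm.2 hDC, mul_one, mul_inv_cancel, one_mul,
      ← hcen B C hBq hC, mul_inv_cancel_right]
  · rw [bracket_congr hπ rfl e0,
      show ⁅C, A * B * D⁆ = ⁅C, A⁆ * (A * (⁅C, B⁆ * (B * ⁅C, D⁆ * B⁻¹)) * A⁻¹) by
        simp only [commutatorElement_def]; group,
      commutatorElement_eq_one_iff_mul_comm.2 hDC.symm, mul_one, mul_inv_cancel, mul_one,
      ← hcen C B hC hBq, mul_inv_cancel_right]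

/-- Different coordinates have commuting lifts. -/
theorem pair_comm (hF : Nat.card F = q ^ 2) (h : UFrob σ q) (hπ : IsCE π) (s : Split σ m x y P)
    (hm : 4 ≤ q ∨ m ≠ 2) {θ : F} (hθ : θ + σ θ = 1) {i j : Fin m} (hij : i ≠ j) (r r' : F) :
    LiftComm π (g0 h x P θ (Pi.single i r)) (g0 h x P θ (Pi.single j r')) := by
  classical
  choose L hL using hπ.surj
  have huh : ∀ a b : F, uh σ (Pi.single i a : Fin m → F) (Pi.single j b) = 0 ∧
      uh σ (Pi.single j b : Fin m → F) (Pi.single i a) = 0 := fun a b => by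
    simp [uh_single_left, hij, hij.symm]
  have hker : ∀ a b, ⁅L (g0 h x P θ (Pi.single i a)), L (g0 h x P θ (Pi.single j b))⁆ ∈ π.ker := fun a b => by
    rw [MonoidHom.mem_ker, map_commutatorElement, hL, hL, q_comm0 h s hθ, (huh a b).1, (huh a b).2, sub_zero, ue_one]
  letI : CommGroup π.ker :=
    { (inferInstance : Group π.ker) with mul_comm := fun a b => Subtype.ext (hπ.ker_comm b.2 a) }
  let β : F → F → Additive π.ker := fun a b => Additive.ofMul ⟨_, hker a b⟩
  have hβ1 : ∀ a a' b, β (a + a') b = β a b + β a' b := fun a a' b => by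
    refine congrArg Additive.ofMul (Subtype.ext ?_)
    refine ((bracket_g0_add hF h hπ s i hθ (hL _) (hL _) (by rw [hL, Pi.single_add])
      (by rw [hL]; exact g0_mem h s hθ _)).1).trans ?_
    exact hπ.ker_comm (hker a b) _
  have hβ2 : ∀ a b b', β a (b + b') = β a b + β a b' := fun a b b' => by
    refine congrArg Additive.ofMul (Subtype.ext ?_)
    exact (bracket_g0_add hF h hπ s i hθ (hL _) (hL _) (by rw [hL, Pi.single_add])
      (by rw [hL]; exact g0_mem h s hθ _)).2
  have hinv : ∀ (t : Cfsg.SU n F q) (d : Fin m → F), t ∈ Mst σ q x y → (∀ i, d i * σ (d i) = 1) →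
      (∀ i r, lin σ P t (Pi.single i r) = Pi.single i (d i * r)) →
      ∀ a b, β (σ (scal σ x y t) * d i * a) (σ (scal σ x y t) * d j * b) = β a b := by
    intro t d ht hd hl a b
    refine congrArg Additive.ofMul (Subtype.ext ?_)
    show ⁅_, _⁆ = ⁅_, _⁆
    obtain ⟨τ, hτ⟩ := hπ.surj t
    rw [show ⁅L (g0 h x P θ (Pi.single i a)), L (g0 h x P θ (Pi.single j b))⁆ =
      τ * ⁅L (g0 h x P θ (Pi.single i a)), L (g0 h x P θ (Pi.single j b))⁆ * τ⁻¹ by
      rw [hπ.ker_comm (hker a b), mul_inv_cancel_right],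
      show ∀ u v : Γ, τ * ⁅u, v⁆ * τ⁻¹ = ⁅τ * u * τ⁻¹, τ * v * τ⁻¹⁆ from fun u v => by
        simp only [commutatorElement_def]; group]
    refine bracket_congr hπ ?_ ?_ <;>
      rw [hL, map_mul, map_mul, map_inv, hτ, hL, conj_g0 h s hθ ht hd hl]
  obtain ⟨lam, hlam⟩ : ∃ l : Fˣ, orderOf l = q + 1 := by
    obtain ⟨⟨l, hl⟩, hl'⟩ := IsCyclic.exists_generator (α := normOne F q)
    exact ⟨l, by rw [← Subgroup.orderOf_mk _ hl, orderOf_eq_card_of_forall_mem_zpowers hl', card_normOne hF]⟩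
  have hlamN : (lam : F) * σ lam = 1 := by
    rw [h.pow, ← pow_succ', ← Units.val_pow_eq_pow_val, ← hlam, pow_orderOf_eq_one, Units.val_one]
  have hlσ : σ (lam : F) = (lam : F)⁻¹ := eq_inv_of_mul_eq_one_right hlamN
  obtain ⟨d, hd⟩ : ∃ d, d = Function.update (Function.update (fun _ => (1 : F)) i (lam : F)) j (lam : F)⁻¹ := ⟨_, rfl⟩
  have hdn : ∀ k, d k * σ (d k) = 1 := fun k => by
    rw [hd]
    rcases eq_or_ne k j with rfl | hk
    · rw [Function.update_self, map_inv₀, ← mul_inv, hlamN, inv_one]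
    · rw [Function.update_of_ne hk]
      rcases eq_or_ne k i with rfl | hk'
      · rw [Function.update_self, hlamN]
      · rw [Function.update_of_ne hk']; simp
  have hdp : ∏ k, d k = 1 := by
    rw [hd, Finset.prod_update_of_mem (Finset.mem_univ j), Finset.prod_update_of_mem
      (by simp [hij] : i ∈ Finset.univ \ {j})]
    simp
  obtain ⟨t, ht, hts, htl⟩ := exists_diag h s one_ne_zero i d hdn (by rw [map_one, div_one, one_mul, hdp])
  have h1 := hinv t d ht hdn htl
  rw [hts, map_one, one_mul, one_mul, hd, Function.update_of_ne hij, Function.update_self, Function.update_self] at h1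
  have hgen := closure_eq_top hF (w := lam) (by omega)
  suffices hz : ∀ a b, β a b = 0 by
    refine (liftComm_iff hπ (hL _) (hL _)).2 (commutatorElement_eq_one_iff_mul_comm.1 ?_)
    exact congrArg Subtype.val (congrArg Additive.toMul (hz r r'))
  rcases biadd_hom β hβ1 hβ2 hgen (inv_ne_zero lam.ne_zero) h1 with hz | ⟨φ, hφ, hrel⟩
  · exact hz
  rw [inv_inv] at hφ
  have hid : ∀ u, φ u = u := fun u => by
    have hle : Subring.closure {(lam : F)} ≤ RingHom.eqLocus φ (RingHom.id F) :=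
      Subring.closure_le.2 (Set.singleton_subset_iff.2 hφ)
    exact hle (hgen ▸ Subring.mem_top u)
  -- a second torus element
  obtain ⟨α, hα⟩ := exists_gen_units hF (F := F)
  have hq := two_le_q hF
  have hpow : ∀ e : ℕ, ¬ q ^ 2 - 1 ∣ e → (α : F) ^ e ≠ 1 := fun e he e' => he (hα ▸ orderOf_dvd_of_pow_eq_one
    (Units.ext (by rw [Units.val_pow_eq_pow_val, e', Units.val_one])))
  obtain ⟨k, hk, hw⟩ : ∃ (k : Fin m), True ∧
      σ (α : F) * Function.update (fun _ => (1 : F)) k (σ (α : F) / α) i *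
        (σ (α : F) * Function.update (fun _ => (1 : F)) k (σ (α : F) / α) j) ≠ 1 := by
    rcases le_or_gt 4 q with h4 | h4
    · refine ⟨i, trivial, fun e => hpow (3 * q - 1) (fun hd => ?_) ?_⟩
      · have := Nat.le_of_dvd (by omega) hd
        have h5 : 4 * q ≤ q ^ 2 := by rw [sq]; exact Nat.mul_le_mul_right _ h4
        omega
      · rw [Function.update_self, Function.update_of_ne hij.symm, mul_one, h.pow] at e
        refine mul_right_cancel₀ α.ne_zero ?_
        rw [← pow_succ, Nat.sub_add_cancel (by omega), one_mul]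
        field_simp at e
        linear_combination (norm := ring_nf) e
    · have hm3 : 3 ≤ m := by
        have := hm.resolve_left (by omega)
        have hi := i.2
        have hj := j.2
        have : (i : ℕ) ≠ j := fun e => hij (Fin.ext e)
        omega
      obtain ⟨k, hki, hkj⟩ : ∃ k : Fin m, k ≠ i ∧ k ≠ j := by
        obtain ⟨k, -, hk⟩ := Finset.exists_mem_notMem_of_card_lt_card (s := ({i, j} : Finset (Fin m)))
          (t := Finset.univ) (lt_of_le_of_lt Finset.card_le_two (by simp only [Finset.card_univ, Fintype.card_fin]; omega))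
        exact ⟨k, fun e => hk (by simp [e]), fun e => hk (by simp [e])⟩
      refine ⟨k, trivial, fun e => hpow (2 * q) (fun hd => ?_) ?_⟩
      · interval_cases q <;> norm_num at hd
      · rw [Function.update_of_ne hki.symm, Function.update_of_ne hkj.symm, mul_one, h.pow, ← pow_add] at e
        rw [two_mul]; exact e
  obtain ⟨t', ht', hts', htl'⟩ := exists_diag h s α.ne_zero k (Function.update (fun _ => 1) k (σ (α : F) / α))
    (fun l => by
      rcases eq_or_ne l k with rfl | hl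
      · rw [Function.update_self]; exact norm_div h α.ne_zero
      · rw [Function.update_of_ne hl]; simp)
    (by rw [prod_update_one]; field_simp)
  have h2 := hinv t' _ ht' (fun l => by
      rcases eq_or_ne l k with rfl | hl
      · rw [Function.update_self]; exact norm_div h α.ne_zero
      · rw [Function.update_of_ne hl]; simp) htl'
  rw [hts'] at h2
  intro a b
  obtain ⟨W, hW⟩ : ∃ W, W = σ (α : F) * Function.update (fun _ => (1 : F)) k (σ (α : F) / α) i *
      (σ (α : F) * Function.update (fun _ => (1 : F)) k (σ (α : F) / α) j) := ⟨_, rfl⟩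
  have hneg : ∀ a b, β (-a) b = -β a b := fun a b => eq_neg_of_add_eq_zero_left (by
    rw [← hβ1, neg_add_cancel]
    simpa using hβ1 0 0 b)
  have h3 : ∀ a b, β (W * a) b = β a b := fun a b => by
    refine Eq.trans ?_ (h2 a b)
    rw [hrel W, hid, hrel _ a, hid, hW, mul_assoc]
  have h4 : β ((W - 1) * ((W - 1)⁻¹ * a)) b = 0 := by
    rw [sub_mul, one_mul, sub_eq_add_neg, hβ1, h3, hneg, add_neg_cancel]
  rwa [mul_inv_cancel_left₀ (sub_ne_zero.2 (hW ▸ hw))] at h4

/-- The derived group of the lifted root elements meets the kernel trivially. -/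
theorem heis_comm (hF : Nat.card F = q ^ 2) (h : UFrob σ q) (hπ : IsCE π) (hr : q = 2 → IsPGroup 2 π.ker)
    (s : Split σ m x y P) (hm : 4 ≤ q ∨ m ≠ 2) (i0 : Fin m) :
    ∀ g ∈ ⁅(qSub h s).comap π, (qSub h s).comap π⁆, π g = 1 → g = 1 := by
  classical
  obtain ⟨θ, hθ⟩ := exists_trace h
  choose L hL using hπ.surj
  obtain ⟨M, hM⟩ : ∃ M, M = (zSub h s).comap π := ⟨_, rfl⟩
  have hMmem : ∀ g, g ∈ M ↔ ∃ c, c + σ c = 0 ∧ π g = ue h x 0 c := fun g => by rw [hM]; rfl
  have hMc : ∀ μ ∈ M, ∀ g, π g ∈ qSub h s → μ * g = g * μ := fun μ hμ g hg => by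
    obtain ⟨c, hc, e⟩ := (hMmem μ).1 hμ
    exact center_liftComm hF h hπ s i0 hc hg μ g e rfl
  -- the bracket in one coordinate
  obtain ⟨B, hB⟩ : ∃ B : Fin m → F → F → Γ, B = fun i r r' =>
      ⁅L (g0 h x P θ (Pi.single i r)), L (g0 h x P θ (Pi.single i r'))⁆ := ⟨_, rfl⟩
  have hBπ : ∀ i r r', π (B i r r') = ue h x 0 (r * σ r' - r' * σ r) := fun i r r' => by
    rw [hB, map_commutatorElement, hL, hL, q_comm0 h s hθ, uh_single_left, uh_single_left, Pi.single_eq_same,
      Pi.single_eq_same]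
  have hgq : ∀ i r, π (L (g0 h x P θ (Pi.single i r))) ∈ qSub h s := fun i r => by
    rw [hL]; exact g0_mem h s hθ _
  have hB1 : ∀ i r r2 r', B i (r + r2) r' = B i r2 r' * B i r r' := fun i r r2 r' => by
    simp only [hB]
    exact (bracket_g0_add hF h hπ s i0 hθ (hL _) (hL _) (by rw [hL, Pi.single_add]) (hgq i r')).1
  have hB2 : ∀ i r r1 r2, B i r (r1 + r2) = B i r r1 * B i r r2 := fun i r r1 r2 => by
    simp only [hB]
    exact (bracket_g0_add hF h hπ s i0 hθ (hL _) (hL _) (by rw [hL, Pi.single_add]) (hgq i r)).2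
  have hskΦ : ∀ r r' : F, r * σ r' - r' * σ r + σ (r * σ r' - r' * σ r) = 0 := fun r r' => by
    rw [map_sub, map_mul, map_mul, h.invol, h.invol]; ring
  have hBM : ∀ i r r', B i r r' ∈ M := fun i r r' => (hMmem _).2 ⟨_, hskΦ r r', hBπ i r r'⟩
  -- it suffices to have a subgroup holding these brackets
  suffices hK : ∃ K : Subgroup Γ, (∀ k ∈ K, k ∈ M) ∧ (∀ k ∈ K, π k = 1 → k = 1) ∧ ∀ i r r', B i r r' ∈ K by
    obtain ⟨K, hKM, hK1, hKv⟩ := hK
    let X : Set Γ := {g | (∃ i r, g = L (g0 h x P θ (Pi.single i r))) ∨ g ∈ M}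
    have hXq : ∀ g ∈ X, π g ∈ qSub h s := by
      rintro g (⟨i, r, rfl⟩ | hg)
      · exact hgq i r
      · obtain ⟨c, hc, e⟩ := (hMmem g).1 hg
        rw [e]; exact center_mem h s hc
    refine inf_comm_eq_bot hπ X K (fun g hg => ?_) (fun g hg k hk => ?_) ?_ hK1
    · have hle : qSub h s ≤ (Subgroup.closure (X ∪ (π.ker : Set Γ))).map π := by
        refine qSub_le h s hθ _ (fun i r => ⟨L (g0 h x P θ (Pi.single i r)),
            Subgroup.subset_closure (Set.mem_union_left _ (Or.inl ⟨i, r, rfl⟩)), hL _⟩)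
          fun c hc => ⟨L (ue h x 0 c), Subgroup.subset_closure
            (Set.mem_union_left _ (Or.inr ((hMmem _).2 ⟨c, hc, hL _⟩))), hL _⟩
      obtain ⟨k, hk, e⟩ := hle hg
      obtain ⟨z, hz, rfl⟩ := exists_eq_mul (σ := π) e.symm
      exact Subgroup.mul_mem _ hk (Subgroup.subset_closure (Set.mem_union_right _ hz))
    · rw [← hMc k (hKM k hk) g (hXq g hg), mul_inv_cancel_right]; exact hk
    · rintro a (⟨i, r, rfl⟩ | ha) b hb
      · rcases hb with ⟨j, r', rfl⟩ | hb
        · rcases eq_or_ne i j with rfl | hij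
          · have := hKv i r r'
            rwa [hB] at this
          · rw [commutatorElement_eq_one_iff_mul_comm.2 (pair_comm hF h hπ s hm hθ hij r r' _ _ (hL _) (hL _))]
            exact K.one_mem
        · rw [commutatorElement_eq_one_iff_mul_comm.2 (hMc b hb _ (hgq i r)).symm]
          exact K.one_mem
      · rw [commutatorElement_eq_one_iff_mul_comm.2 (hMc a ha _ (hXq b hb))]
        exact K.one_mem
  by_cases hq : q = 2
  · obtain ⟨ω, hω, -, hσω⟩ := exists_omega hF h hq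
    have h2 := two_eq_zero_of_q_two hF hq
    have hB0 : ∀ i r, B i 0 r = 1 ∧ B i r 0 = 1 := fun i r => by
      have e1 := hB1 i 0 0 r
      have e2 := hB2 i r 0 0
      rw [add_zero] at e1 e2
      exact ⟨mul_eq_left.1 e1.symm, mul_eq_left.1 e2.symm⟩
    have hne : (1 : F) * σ ω - ω * σ 1 = -1 := by
      rw [hσω, map_one]
      linear_combination hω - ω * h2
    obtain ⟨v0, hv0⟩ : ∃ v0, v0 = B i0 1 ω := ⟨_, rfl⟩
    have hv0π : π v0 = ue h x 0 (-1) := by rw [hv0, hBπ, hne]
    have hsk1 : (-1 : F) + σ (-1) = 0 := by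
      rw [map_neg, map_one]; linear_combination -h2
    have hv0sq : v0 * v0 = 1 := by
      rw [hv0, ← hB1, show (1 : F) + 1 = 0 by linear_combination h2, (hB0 i0 ω).1]
    -- the same value in every coordinate
    have hval : ∀ i, B i 1 ω = v0 := fun i => by
      rcases eq_or_ne i i0 with rfl | hi
      · exact hv0.symm
      have hm3 : 2 < m := by
        have := hm.resolve_left (by omega)
        have h1 := i.2
        have h2 := i0.2
        have : (i : ℕ) ≠ i0 := fun e => hi (Fin.ext e)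
        omega
      obtain ⟨k, hk0, hki⟩ : ∃ k : Fin m, k ≠ i0 ∧ k ≠ i := by
        obtain ⟨k, -, hk⟩ := Finset.exists_mem_notMem_of_card_lt_card (s := ({i0, i} : Finset (Fin m)))
          (t := Finset.univ) (lt_of_le_of_lt Finset.card_le_two (by simp only [Finset.card_univ, Fintype.card_fin]; omega))
        exact ⟨k, fun e => hk (by simp [e]), fun e => hk (by simp [e])⟩
      obtain ⟨A, hA3, hAs⟩ := exists_three_cycle hF hq hi.symm hk0.symm hki.symm
      obtain ⟨W, hW⟩ := hπ.surj (ext h s A)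
      have hconj : ∀ r, π (W * L (g0 h x P θ (Pi.single i0 r)) * W⁻¹) = π (L (g0 h x P θ (Pi.single i r))) :=
        fun r => by
          rw [map_mul, map_mul, map_inv, hW, hL, hL]
          simp only [g0]
          rw [(conj_ue h s (ext_mem h s A) (Ok.exists_c h s hθ _)).2, scal_ext, lin_ext, map_one, one_smul,
            one_mul, one_mul, hAs, uh_single_left, uh_single_left, Pi.single_eq_same, Pi.single_eq_same]
      have hcomm : v0 * W = W * v0 := by
        haveI : Fact (Nat.Prime 2) := ⟨Nat.prime_two⟩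
        refine liftComm_of_coprime hπ (hr hq) (h := ext h s A) ?_ (N := 3)
          (by rw [← map_pow, hA3, map_one]) (by norm_num) v0 W hv0π hW
        have e := conj_center h s (ext_mem h s A) hsk1
        rw [scal_ext, map_one, one_mul, one_mul, mul_inv_eq_iff_eq_mul] at e
        exact e.symm
      have e1 : B i 1 ω = W * v0 * W⁻¹ := by
        rw [hv0]
        simp only [hB]
        rw [← bracket_congr hπ (hconj 1) (hconj ω)]
        simp only [commutatorElement_def]
        group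
      rw [e1, ← hcomm, mul_inv_cancel_right]
    obtain ⟨K, hKd⟩ : ∃ K, K = Subgroup.zpowers v0 := ⟨_, rfl⟩
    have hv0K : v0 ∈ K := hKd ▸ Subgroup.mem_zpowers v0
    refine ⟨K, ?_, ?_, fun i r r' => ?_⟩
    · rw [hKd]
      exact Subgroup.zpowers_le.2 (hv0 ▸ hBM i0 1 ω)
    · rw [hKd]
      intro k hk hk1
      obtain ⟨j, rfl⟩ := Subgroup.mem_zpowers_iff.1 hk
      rcases Int.even_or_odd j with ⟨l, rfl⟩ | ⟨l, rfl⟩
      · rw [← two_mul, _root_.zpow_mul, zpow_two, hv0sq, _root_.one_zpow]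
      · exfalso
        rw [_root_.zpow_add_one, _root_.zpow_mul, zpow_two, hv0sq, _root_.one_zpow, one_mul, hv0π] at hk1
        exact neg_ne_zero.2 one_ne_zero (center_inj h s hsk1 hk1)
    · have hall : ∀ u : F, u = 0 ∨ u = 1 ∨ u = ω ∨ u = 1 + ω := four_cases hF hq hω
      have hrow : ∀ u r', (B i 1 r' ∈ K) → (B i ω r' ∈ K) → B i u r' ∈ K := fun u r' a b => by
        rcases hall u with rfl | rfl | rfl | rfl
        · rw [(hB0 i r').1]; exact K.one_mem
        · exact a
        · exact b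
        · rw [hB1]; exact K.mul_mem b a
      have h11 : ∀ u, B i u u ∈ K := fun u => by
        simp only [hB, commutatorElement_self]
        exact K.one_mem
      have hinv : B i ω 1 ∈ K := by
        have : B i ω 1 = (B i 1 ω)⁻¹ := by simp only [hB, commutatorElement_inv]
        rw [this, hval]
        exact K.inv_mem hv0K
      have h1ω : B i 1 ω ∈ K := (hval i).symm ▸ hv0K
      rcases hall r' with e | e | e | e <;> rw [e]
      · rw [(hB0 i r).2]; exact K.one_mem
      · exact hrow r 1 (h11 1) hinv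
      · exact hrow r ω h1ω (h11 ω)
      · rw [hB2]; exact K.mul_mem (hrow r 1 (h11 1) hinv) (hrow r ω h1ω (h11 ω))
  have hq3 : 3 ≤ q := by have := two_le_q hF; omega
  obtain ⟨α, hα⟩ := exists_gen_units hF (F := F)
  have hdn : ∀ k l : Fin m, Function.update (fun _ => (1 : F)) k (σ (α : F) / α) l *
      σ (Function.update (fun _ => (1 : F)) k (σ (α : F) / α) l) = 1 := fun k l => by
    rcases eq_or_ne l k with rfl | hl
    · rw [Function.update_self]; exact norm_div h α.ne_zero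
    · rw [Function.update_of_ne hl]; simp
  choose t ht hts htl using fun k : Fin m => exists_diag h s α.ne_zero k
    (Function.update (fun _ => (1 : F)) k (σ (α : F) / α)) (hdn k) (by rw [prod_update_one]; field_simp)
  obtain ⟨ν, hν⟩ : ∃ ν, ν = (α : F) * σ α := ⟨_, rfl⟩
  have hν1 : ν ≠ 1 := by
    rw [hν, h.pow, ← pow_succ']
    intro e
    have hd : q ^ 2 - 1 ∣ q + 1 := hα ▸ orderOf_dvd_of_pow_eq_one
      (Units.ext (by rw [Units.val_pow_eq_pow_val, e, Units.val_one]))
    have := Nat.le_of_dvd (by omega) hd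
    have h5 : 3 * q ≤ q ^ 2 := by rw [sq]; exact Nat.mul_le_mul_right _ hq3
    omega
  have hνσ : σ ν = ν := by rw [hν, map_mul, h.invol, mul_comm]
  have hskν : ∀ {c : F}, c + σ c = 0 → ν * c + σ (ν * c) = 0 := fun {c} hc => by
    rw [map_mul, hνσ, ← mul_add, hc, mul_zero]
  have hskd : ∀ {c : F}, c + σ c = 0 → c / (ν - 1) + σ (c / (ν - 1)) = 0 := fun {c} hc => by
    rw [map_div₀, map_sub, hνσ, map_one, ← add_div, hc, zero_div]
  have hconj : ∀ k {c : F}, c + σ c = 0 → t k * ue h x 0 c * (t k)⁻¹ = ue h x 0 (ν * c) := fun k c hc => by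
    rw [conj_center h s (ht k) hc, hts, hν]
  obtain ⟨ρ, hρ⟩ : ∃ ρ : F → Γ, ρ = fun c => ⁅L (t i0), L (ue h x 0 (c / (ν - 1)))⁆ := ⟨_, rfl⟩
  have hρπ : ∀ {c : F}, c + σ c = 0 → π (ρ c) = ue h x 0 c := fun {c} hc => by
    have hd := hskd hc
    have hd' : σ (c / (ν - 1)) = -(c / (ν - 1)) := eq_neg_of_add_eq_zero_right hd
    rw [hρ, map_commutatorElement, hL, hL, commutatorElement_def, hconj i0 hd, mul_inv_eq_iff_eq_mul,
      center_mul h s hc hd]
    congr 1
    field_simp [sub_ne_zero.2 hν1]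
    ring
  have hρM : ∀ {c : F}, c + σ c = 0 → ρ c ∈ M := fun {c} hc => (hMmem _).2 ⟨c, hc, hρπ hc⟩
  have hzq : ∀ {c : F}, c + σ c = 0 → π (L (ue h x 0 c)) ∈ qSub h s := fun {c} hc => by
    rw [hL]; exact center_mem h s hc
  have hρadd : ∀ {c d : F}, c + σ c = 0 → d + σ d = 0 → ρ (c + d) = ρ c * ρ d := fun {c d} hc hd => by
    have e : π (L (ue h x 0 ((c + d) / (ν - 1)))) = π (L (ue h x 0 (c / (ν - 1))) * L (ue h x 0 (d / (ν - 1)))) := by
      rw [map_mul, hL, hL, hL, center_mul h s (hskd hc) (hskd hd), add_div]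
    have e2 := hMc _ (hρM hd) _ (hzq (hskd hc))
    simp only [hρ] at e2 ⊢
    rw [bracket_congr hπ rfl e, show ∀ a b c : Γ, ⁅a, b * c⁆ = ⁅a, b⁆ * (b * ⁅a, c⁆ * b⁻¹) from fun a b c => by
      simp only [commutatorElement_def]; group, ← e2, mul_inv_cancel_right]
  have hρ0 : ρ 0 = 1 := by
    have e := hρadd (c := 0) (d := 0) (by simp) (by simp)
    rw [add_zero] at e
    exact mul_eq_left.1 e.symm
  have hρt : ∀ k {c : F}, c + σ c = 0 → L (t k) * ρ c * (L (t k))⁻¹ = ρ (ν * c) := fun k c hc => by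
    simp only [hρ]
    rw [show ∀ u a b : Γ, u * ⁅a, b⁆ * u⁻¹ = ⁅u * a * u⁻¹, u * b * u⁻¹⁆ from fun u a b => by
      simp only [commutatorElement_def]; group]
    refine bracket_congr hπ ?_ ?_
    · rw [map_mul, map_mul, map_inv, hL, hL, diag_comm h s (ht k) (ht i0) (htl k) (htl i0), mul_inv_cancel_right]
    · rw [map_mul, map_mul, map_inv, hL, hL, hL, hconj k (hskd hc), mul_div_assoc]
  obtain ⟨K, hK⟩ : ∃ K : Subgroup Γ, ∀ g, g ∈ K ↔ ∃ c, c + σ c = 0 ∧ g = ρ c := by
    refine ⟨{ carrier := {g | ∃ c, c + σ c = 0 ∧ g = ρ c}, one_mem' := ?_, mul_mem' := ?_, inv_mem' := ?_ },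
      fun _ => Iff.rfl⟩
    · rintro _ _ ⟨c, hc, rfl⟩ ⟨d, hd, rfl⟩
      exact ⟨c + d, add_skew hc hd, (hρadd hc hd).symm⟩
    · exact ⟨0, by simp, hρ0.symm⟩
    · rintro _ ⟨c, hc, rfl⟩
      refine ⟨-c, by rw [map_neg, ← neg_add, hc, neg_zero], inv_eq_of_mul_eq_one_right ?_⟩
      rw [← hρadd hc (by rw [map_neg, ← neg_add, hc, neg_zero]), add_neg_cancel, hρ0]
  suffices hz : ∀ i r r', B i r r' = ρ (r * σ r' - r' * σ r) by
    refine ⟨K, fun k hk => ?_, fun k hk hk1 => ?_, fun i r r' => (hK _).2 ⟨_, hskΦ r r', hz i r r'⟩⟩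
    · obtain ⟨c, hc, rfl⟩ := (hK k).1 hk
      exact hρM hc
    · obtain ⟨c, hc, rfl⟩ := (hK k).1 hk
      rw [hρπ hc] at hk1
      rw [center_inj h s hc hk1, hρ0]
  intro i
  letI : CommGroup π.ker :=
    { (inferInstance : Group π.ker) with mul_comm := fun a b => Subtype.ext (hπ.ker_comm b.2 a) }
  have hker : ∀ r r', B i r r' * (ρ (r * σ r' - r' * σ r))⁻¹ ∈ π.ker := fun r r' => by
    rw [MonoidHom.mem_ker, map_mul, map_inv, hBπ, hρπ (hskΦ r r'), mul_inv_cancel]
  let β : F → F → Additive π.ker := fun r r' => Additive.ofMul ⟨_, hker r r'⟩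
  have hβ1 : ∀ r r2 r', β (r + r2) r' = β r r' + β r2 r' := fun r r2 r' => by
    refine congrArg Additive.ofMul (Subtype.ext ?_)
    show B i (r + r2) r' * _ = B i r r' * _ * (B i r2 r' * _)
    rw [show (r + r2) * σ r' - r' * σ (r + r2) = (r2 * σ r' - r' * σ r2) + (r * σ r' - r' * σ r) by
        rw [map_add]; ring, hρadd (hskΦ r2 r') (hskΦ r r'), _root_.mul_inv_rev, hB1,
      show ∀ a b c d : Γ, a * b * (c * d) = a * (b * c) * d from fun a b c d => by simp only [mul_assoc],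
      hπ.ker_comm (hker r r'), mul_assoc (B i r r' * _) (B i r2 r')]
  have hβ2 : ∀ r r1 r2, β r (r1 + r2) = β r r1 + β r r2 := fun r r1 r2 => by
    refine congrArg Additive.ofMul (Subtype.ext ?_)
    show B i r (r1 + r2) * _ = B i r r1 * _ * (B i r r2 * _)
    have hq2 : π (B i r r2) ∈ qSub h s := by
      rw [hBπ]; exact center_mem h s (hskΦ r r2)
    have e2 : Commute (ρ (r * σ r1 - r1 * σ r)) (B i r r2) := hMc _ (hρM (hskΦ r r1)) _ hq2
    rw [show r * σ (r1 + r2) - (r1 + r2) * σ r = (r * σ r2 - r2 * σ r) + (r * σ r1 - r1 * σ r) by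
        rw [map_add]; ring, hρadd (hskΦ r r2) (hskΦ r r1), _root_.mul_inv_rev, hB2,
      show ∀ a b c d : Γ, a * b * (c * d) = a * (b * c) * d from fun a b c d => by simp only [mul_assoc],
      ← e2.inv_left.eq]
    simp only [mul_assoc]
  obtain ⟨w, hw⟩ : ∃ w, w = σ (α : F) * (σ (α : F) / α) := ⟨_, rfl⟩
  have hwν : w * σ w = ν := by
    rw [hw, hν, map_mul, map_div₀, h.invol]
    have : σ (α : F) ≠ 0 := by simp
    field_simp
  have hinv : ∀ r r', β (w * r) (w * r') = β r r' := fun r r' => by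
    refine congrArg Additive.ofMul (Subtype.ext ?_)
    show B i (w * r) (w * r') * _ = B i r r' * _
    conv_rhs => rw [← mul_inv_cancel_right (B i r r' * _) (L (t i)), ← hπ.ker_comm (hker r r') (L (t i))]
    rw [show w * r * σ (w * r') - w * r' * σ (w * r) = ν * (r * σ r' - r' * σ r) by
        rw [← hwν, map_mul, map_mul]; ring, ← hρt i (hskΦ r r'),
      show B i (w * r) (w * r') = L (t i) * B i r r' * (L (t i))⁻¹ by
        simp only [hB]
        rw [show ∀ u a b : Γ, u * ⁅a, b⁆ * u⁻¹ = ⁅u * a * u⁻¹, u * b * u⁻¹⁆ from fun u a b => by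
          simp only [commutatorElement_def]; group]
        refine bracket_congr hπ ?_ ?_ <;>
          rw [hL, map_mul, map_mul, map_inv, hL, hL, conj_g0 h s hθ (ht i) (hdn i) (htl i), hts,
            Function.update_self, hw]]
    group
  have hwu : w = ((α ^ (2 * q - 1) : Fˣ) : F) := by
    rw [hw, Units.val_pow_eq_pow_val, h.pow, ← mul_div_assoc, ← pow_add, div_eq_iff α.ne_zero, ← pow_succ]
    congr 1; omega
  have hord := orderOf_mu hF hq3 hα
  have hgen : Subring.closure {w} = ⊤ := hwu ▸ closure_eq_top hF hord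
  have hw0 : w ≠ 0 := hwu ▸ (α ^ (2 * q - 1)).ne_zero
  rcases biadd_hom β hβ1 hβ2 hgen hw0 hinv with hz | ⟨φ, hφ, -⟩
  · intro r r'
    exact mul_inv_eq_one.1 (congrArg Subtype.val (congrArg Additive.toMul (hz r r')))
  exfalso
  have hφφ : ∀ u, φ (φ u) = u := fun u => by
    have hle : Subring.closure {w} ≤ RingHom.eqLocus (φ.comp φ) (RingHom.id F) :=
      Subring.closure_le.2 (Set.singleton_subset_iff.2 (show φ (φ w) = w by rw [hφ, map_inv₀, hφ, inv_inv]))
    exact hle (hgen ▸ Subring.mem_top u)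
  rcases endo_invol hF h.pow h.ne hφφ with e | e
  · rw [e, RingHom.id_apply] at hφ
    have : orderOf (α ^ (2 * q - 1)) ≤ 2 := orderOf_le_of_pow_eq_one two_pos (Units.ext (by
      rw [Units.val_pow_eq_pow_val, ← hwu, Units.val_one, sq]
      nth_rewrite 2 [hφ]
      exact mul_inv_cancel₀ hw0))
    omega
  · rw [e] at hφ
    exact hν1 (by rw [← hwν, hφ, mul_inv_cancel₀ hw0])

end CfsgLib.MultSU
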