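import Cfsg.Agent.Lib.MultSU.HeisComm
import Cfsg.Agent.Lib.MultSU.Card

/-!
The multiplier at the characteristic.
-/

set_option autoImplicit false

namespace CfsgLib.MultSU

open Matrix CfsgLib.Classical CfsgLib.Classical.Unitary CfsgLib.MinIdx.Un
open scoped commutatorElement

universe u

variable {F : Type u} [Field F] {σ : F →+* F} {q n m : ℕ} {x y : Fin n → F} {P : Matrix (Fin n) (Fin m) F}

theorem ue_vec_inj (h : UFrob σ q) (s : Split σ m x y P) {a b : Fin m → F} {c d : F} (ha : Ok σ x (P *ᵥ a) c)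
    (hb : Ok σ x (P *ᵥ b) d) (e : ue h x (P *ᵥ a) c = ue h x (P *ᵥ b) d) : a = b := by
  have := congrArg (fun g : Cfsg.SU n F q => (P.map σ)ᵀ *ᵥ (g.1.1 *ᵥ y)) e
  simp only [ue_apply h ha, ue_apply h hb, s.yx h, one_smul, mulVec_add, mulVec_smul, s.proj_x h, smul_zero,
    add_zero, add_right_inj, s.frame.apply] at this
  exact this

theorem lin_const (s : Split σ m x y P) {t : Cfsg.SU n F q} {δ : F}
    (hl : ∀ i r, lin σ P t (Pi.single i r) = Pi.single i (δ * r)) (a : Fin m → F) : lin σ P t a = δ • a := by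
  classical
  conv_lhs => rw [← Finset.univ_sum_single a]
  simp only [lin, mulVec_sum]
  conv_rhs => rw [← Finset.univ_sum_single a, Finset.smul_sum]
  refine Finset.sum_congr rfl fun i _ => ?_
  rw [← lin, hl, ← Pi.single_smul, smul_eq_mul]

theorem ext_injective (h : UFrob σ q) (s : Split σ m x y P) : Function.Injective (ext h s) := fun A B e =>
  su_ext fun a => by rw [← lin_ext h s A, ← lin_ext h s B, e]

theorem ext_normalizes (h : UFrob σ q) (s : Split σ m x y P) (A : Cfsg.SU m F q) {g : Cfsg.SU n F q}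
    (hg : g ∈ qSub h s) : ext h s A * g * (ext h s A)⁻¹ ∈ qSub h s := by
  obtain ⟨a, c, he, rfl⟩ := hg
  exact ⟨_, _, (conj_ue h s (ext_mem h s A) he).1, (conj_ue h s (ext_mem h s A) he).2⟩

variable [Finite F]

theorem card_qSub (hF : Nat.card F = q ^ 2) (h : UFrob σ q) (s : Split σ m x y P) :
    Nat.card (qSub h s) = q ^ (2 * m + 1) := by
  obtain ⟨θ, hθ⟩ := exists_trace h
  have hok : ∀ (a : Fin m → F) (c : Sk σ), Ok σ x (P *ᵥ a) (-θ * uh σ a a + c.1) := fun a c => by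
    have := (Ok.exists_c h s hθ a).add h (Ok.zero s.xx c.2)
    rwa [add_zero, uh_zero_left, sub_zero] at this
  have e : (Fin m → F) × Sk σ ≃ qSub h s := by
    refine Equiv.ofBijective (fun z => ⟨ue h x (P *ᵥ z.1) (-θ * uh σ z.1 z.1 + z.2.1), _, _, hok _ _, rfl⟩) ⟨?_, ?_⟩
    · rintro ⟨a, c⟩ ⟨b, d⟩ e
      have e' : ue h x (P *ᵥ a) (-θ * uh σ a a + c.1) = ue h x (P *ᵥ b) (-θ * uh σ b b + d.1) :=
        congrArg Subtype.val e
      obtain rfl := ue_vec_inj h s (hok a c) (hok b d) e'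
      have h1 := congrArg (fun g : Cfsg.SU n F q => uh σ (g.1.1 *ᵥ y) y) e'
      simp only [ue_apply h (hok a c), ue_apply h (hok a d), s.yx h, s.yy, s.py, s.xy, s.yp h, one_smul, uh_add_left,
        uh_smul_left, mul_one, zero_add, sub_zero, add_right_inj] at h1
      exact Prod.ext rfl (Subtype.ext h1)
    · rintro ⟨_, a, c, he, rfl⟩
      refine ⟨(a, ⟨c + θ * uh σ a a, ?_⟩), Subtype.ext ?_⟩
      · show c + θ * uh σ a a + σ (c + θ * uh σ a a) = 0
        have := he.2.2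
        rw [s.pp h] at this
        rw [map_add, map_mul, h.symm]
        linear_combination this + uh σ a a * hθ
      · show ue h x (P *ᵥ a) (-θ * uh σ a a + (c + θ * uh σ a a)) = ue h x (P *ᵥ a) c
        congr 1
        ring
  rw [← Nat.card_congr e, Nat.card_prod, Nat.card_fun, Nat.card_eq_fintype_card (α := Fin m), Fintype.card_fin,
    hF, card_Sk hF h, ← pow_mul, ← pow_succ]

/-- The parabolic subgroup has index prime to the characteristic. -/
theorem parabolic_index (hF : Nat.card F = q ^ 2) (h : UFrob σ q) {r : ℕ} (hr : r.Prime) (hrq : r ∣ q)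
    (hn : n = m + 2) (hm : 1 ≤ m) (s : Split σ m x y P) :
    ¬ r ∣ (qSub h s ⊔ (ext h s).range).index := by
  subst hn
  have hd : ∀ g ∈ (ext h s).range, g ∈ qSub h s → g = 1 := by
    rintro _ ⟨A, rfl⟩ ⟨a, c, he, e⟩
    have h1 := congrArg (fun g : Cfsg.SU (m + 2) F q => g.1.1 *ᵥ y) e
    simp only [ext_y, ue_apply h he, s.yx h, s.yp h, one_smul, mul_one, sub_zero, add_assoc, left_eq_add] at h1
    have h2 := congrArg ((P.map σ)ᵀ *ᵥ ·) h1
    simp only [mulVec_add, mulVec_smul, s.proj_x h, smul_zero, add_zero, mulVec_zero, s.frame.apply] at h2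
    rw [h2, mulVec_zero, zero_add, smul_eq_zero] at h1
    rw [e, h2, mulVec_zero, h1.resolve_right s.x_ne, ue_one]
  have hn : (ext h s).range ≤ Subgroup.normalizer (qSub h s : Set (Cfsg.SU (m + 2) F q)) := by
    rintro _ ⟨A, rfl⟩
    exact Subgroup.mem_normalizer_fintype fun g hg => ext_normalizes h s A hg
  refine index_not_dvd _ (c := q ^ (2 * m + 1) * Nat.card (Cfsg.SU m F q)) (i := fac q m * fac q (m + 1)) ?_ ?_ ?_
  · rw [card_sup_normalizing _ _ hn hd, card_qSub hF h s,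
      Nat.card_congr (MonoidHom.ofInjective (ext_injective h s)).symm.toEquiv]
  · rw [card_SU_succ hF (by omega), card_SU_succ hF hm, show 2 * m + 1 = m + 1 + m by omega, pow_add (m := m + 1)]
    ring
  · intro hd
    rcases hr.dvd_mul.1 hd with h1 | h1 <;> exact not_dvd_fac hr hrq (two_le_q hF) h1

/-- No multiplier at the characteristic. -/
theorem noMult_char (hF : Nat.card F = q ^ 2) (h : UFrob σ q) {r : ℕ} [hr : Fact r.Prime] (hrq : r ∣ q)
    (hn : n = m + 2) (hm : 1 ≤ m) (hm2 : 4 ≤ q ∨ m ≠ 2) (s : Split σ m x y P)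
    (hL : m = 1 ∨ ((∀ (Γ : Type u) [Group Γ] [Finite Γ] (π : Γ →* Cfsg.SU n F q), IsCE π → IsPGroup r π.ker →
        ∀ g ∈ ⁅(ext h s).range.comap π, (ext h s).range.comap π⁆, π g = 1 → g = 1) ∧
      ∃ α δ : F, α ≠ 0 ∧ δ * σ δ = 1 ∧ α / σ α * δ ^ m = 1 ∧ σ α * δ ≠ 1)) :
    NoMult r (Cfsg.SU n F q) := by
  have hidx := parabolic_index hF h hr.out hrq hn hm s
  have i0 : Fin m := ⟨0, hm⟩
  refine NoMult.of_subgroup _ hidx fun Γ _ _ π hπ hpr => ?_
  have hcomm := heis_comm hF h hπ (fun hq => by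
    rw [hq, Nat.prime_dvd_prime_iff_eq hr.out Nat.prime_two] at hrq
    exact hrq ▸ hpr) s hm2 i0
  by_cases hm1 : m = 1
  · have hbot : (ext h s).range = ⊥ := by
      rw [eq_bot_iff]
      rintro _ ⟨A, rfl⟩
      have := (Nat.card_eq_one_iff_unique.1 (hm1 ▸ card_SU_one hF : Nat.card (Cfsg.SU m F q) = 1)).1
      rw [Subsingleton.elim A 1, map_one]
      exact Subgroup.one_mem _
    rw [hbot, sup_bot_eq]
    exact hcomm
  obtain ⟨hNo, α, δ, hα, hδ, hdet, hw⟩ := hL.resolve_left hm1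
  have hLc := hNo Γ π hπ hpr
  obtain ⟨θ, hθ⟩ := exists_trace h
  obtain ⟨t, ht, hts, htl⟩ := exists_diag h s hα i0 (fun _ => δ) (fun _ => hδ) (by
    rwa [Finset.prod_const, Finset.card_univ, Fintype.card_fin])
  obtain ⟨T, hT⟩ := hπ.surj t
  choose Lf hLf using hπ.surj
  obtain ⟨Qt, hQt⟩ : ∃ Qt, Qt = (qSub h s).comap π := ⟨_, rfl⟩
  obtain ⟨C, hC⟩ : ∃ C, C = ⁅Qt, Qt⁆ := ⟨_, rfl⟩
  rw [← hQt, ← hC] at hcomm
  have hQm : ∀ g, g ∈ Qt ↔ π g ∈ qSub h s := fun g => by rw [hQt]; rfl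
  have hCn : ∀ u : Γ, (∀ g ∈ Qt, u * g * u⁻¹ ∈ Qt) → ∀ v ∈ C, u * v * u⁻¹ ∈ C := fun u hu v hv => by
    have hle : ⁅Qt, Qt⁆ ≤ C.comap (MulAut.conj u).toMonoidHom := Subgroup.commutator_le.2 fun a ha b hb => by
      rw [Subgroup.mem_comap, map_commutatorElement, hC]
      exact Subgroup.commutator_mem_commutator (hu a ha) (hu b hb)
    exact hle (hC ▸ hv)
  have hCQ : ∀ v ∈ C, v ∈ Qt := fun v hv => by
    have : ⁅Qt, Qt⁆ ≤ Qt := Subgroup.commutator_le_self Qt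
    exact this (hC ▸ hv)
  have hTQ : ∀ g ∈ Qt, T * g * T⁻¹ ∈ Qt := fun g hg => by
    obtain ⟨a, c, he, e⟩ := (hQm g).1 hg
    rw [hQm, map_mul, map_mul, map_inv, hT, e]
    exact ⟨_, _, (conj_ue h s ht he).1, (conj_ue h s ht he).2⟩
  have hTb : ∀ g ∈ Qt, ⁅T, g⁆ ∈ Qt := fun g hg => by
    rw [commutatorElement_def]; exact Qt.mul_mem (hTQ g hg) (Qt.inv_mem hg)
  have hQc : ∀ a ∈ Qt, ∀ v ∈ C, a * v * a⁻¹ ∈ C := fun a ha =>
    hCn a fun g hg => Qt.mul_mem (Qt.mul_mem ha hg) (Qt.inv_mem ha)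
  -- central elements come from `C`
  have hcen : ∀ c, c + σ c = 0 → ∃ v ∈ C, π v = ue h x 0 c := fun c hc => by
    refine ⟨⁅Lf (g0 h x P θ (Pi.single i0 (θ * c))), Lf (g0 h x P θ (Pi.single i0 1))⁆, hC ▸
      Subgroup.commutator_mem_commutator ((hQm _).2 (by rw [hLf]; exact g0_mem h s hθ _))
        ((hQm _).2 (by rw [hLf]; exact g0_mem h s hθ _)), ?_⟩
    rw [map_commutatorElement, hLf, hLf]
    exact center_comm h s i0 hθ hc (Ok.exists_c h s hθ _) (Ok.exists_c h s hθ _)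
  obtain ⟨S, hS⟩ : ∃ S : Set Γ, S = {g | ∃ a ∈ Qt, ∃ v ∈ C, g = ⁅T, a⁆ * v} := ⟨_, rfl⟩
  have hS1 : (1 : Γ) ∈ S := hS ▸ ⟨1, Qt.one_mem, 1, C.one_mem, by simp [commutatorElement_def]⟩
  have hSmul : ∀ g ∈ S, ∀ k ∈ S, g * k ∈ S := by
    rw [hS]
    rintro _ ⟨a, ha, v, hv, rfl⟩ _ ⟨b, hb, v', hv', rfl⟩
    refine ⟨a * b, Qt.mul_mem ha hb,
      ⁅a, ⁅T, b⁆⁆⁻¹ * (⁅T, b⁆⁻¹ * v * ⁅T, b⁆ * v') * 1 * 1, ?_, ?_⟩
    · simp only [mul_one]
      refine C.mul_mem (C.inv_mem (hC ▸ Subgroup.commutator_mem_commutator ha (hTb b hb))) (C.mul_mem ?_ hv')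
      have := hQc _ (Qt.inv_mem (hTb b hb)) v hv
      rwa [inv_inv] at this
    · have hz : Commute (⁅a, ⁅T, b⁆⁆) ⁅T, b⁆ := by
        obtain ⟨c, hc, e⟩ := comm_mem_zSub h s ((hQm a).1 ha) ((hQm _).1 (hTb b hb))
        exact center_liftComm hF h hπ s i0 hc ((hQm _).1 (hTb b hb)) _ _ (by rw [map_commutatorElement, e]) rfl
      rw [show ⁅T, a * b⁆ = ⁅T, a⁆ * (⁅a, ⁅T, b⁆⁆ * ⁅T, b⁆) by simp only [commutatorElement_def]; group, hz.eq]
      group
  let K1 : Subgroup Γ :=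
    { carrier := S
      one_mem' := hS1
      mul_mem' := fun hg hk => hSmul _ hg _ hk
      inv_mem' := fun {g} hg => by
        have hp : ∀ k : ℕ, g ^ k ∈ S := fun k => by
          induction k with
          | zero => rw [pow_zero]; exact hS1
          | succ k ih => rw [pow_succ]; exact hSmul _ ih _ hg
        have : g⁻¹ = g ^ (orderOf g - 1) := by
          refine inv_eq_of_mul_eq_one_right ?_
          rw [← pow_succ', Nat.sub_add_cancel (orderOf_pos g), pow_orderOf_eq_one]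
        rw [this]
        exact hp _ }
  have hK1 : ∀ {g}, g ∈ K1 ↔ ∃ a ∈ Qt, ∃ v ∈ C, g = ⁅T, a⁆ * v := fun {g} => by
    show g ∈ S ↔ _
    rw [hS]; rfl
  have hK1Q : ∀ g ∈ K1, g ∈ Qt := fun g hg => by
    obtain ⟨a, ha, v, hv, rfl⟩ := hK1.1 hg
    exact Qt.mul_mem (hTb a ha) (hCQ v hv)
  have hK1C : ∀ v ∈ C, v ∈ K1 := fun v hv => hK1.2 ⟨1, Qt.one_mem, v, hv, by simp [commutatorElement_def]⟩
  -- `K1` covers the root elements
  have hsurj : qSub h s ≤ K1.map π := by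
    refine qSub_le h s hθ _ (fun i r => ?_) fun c hc => ?_
    · obtain ⟨v0, hv0⟩ : ∃ v0, v0 = r / (σ α * δ - 1) := ⟨_, rfl⟩
      have hsum : σ α * δ * v0 = r + v0 := by
        rw [hv0]
        field_simp [sub_ne_zero.2 hw]
        ring
      obtain ⟨d, hd, e⟩ := g0_add h s hθ (Pi.single i r) (Pi.single i v0)
      obtain ⟨v, hv, hvπ⟩ := hcen (-d) (by rw [map_neg, ← neg_add, hd, neg_zero])
      refine ⟨⁅T, Lf (g0 h x P θ (Pi.single i v0))⁆ * v,
        hK1.2 ⟨_, (hQm _).2 (by rw [hLf]; exact g0_mem h s hθ _), v, hv, rfl⟩, ?_⟩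
      rw [map_mul, map_commutatorElement, hT, hLf, hvπ, commutatorElement_def,
        conj_g0 h s hθ ht (fun _ => hδ) htl, hts, hsum, Pi.single_add, e,
        mul_assoc (g0 h x P θ _ * g0 h x P θ _), ← center_commute h s hd ((qSub h s).inv_mem (g0_mem h s hθ _)),
        ← mul_assoc, mul_inv_cancel_right, mul_assoc, center_mul h s hd (by rw [map_neg, ← neg_add, hd, neg_zero]),
        add_neg_cancel, ue_one, mul_one]
    · obtain ⟨v, hv, e⟩ := hcen c hc
      exact ⟨v, hK1C v hv, e⟩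
  have hsplit : ∀ g ∈ Qt, ∃ k ∈ K1, ∃ z ∈ π.ker, g = k * z := fun g hg => by
    obtain ⟨k, hk, e⟩ := hsurj ((hQm g).1 hg)
    obtain ⟨z, hz, e'⟩ := exists_eq_mul (σ := π) e.symm
    exact ⟨k, hk, z, hz, e'⟩
  obtain ⟨Lt, hLt⟩ : ∃ Lt, Lt = (ext h s).range.comap π := ⟨_, rfl⟩
  rw [← hLt] at hLc
  have hLQ : ∀ l ∈ Lt, ∀ g ∈ Qt, l * g * l⁻¹ ∈ Qt := fun l hl g hg => by
    obtain ⟨A, e⟩ : π l ∈ (ext h s).range := by rw [hLt] at hl; exact hl
    rw [hQm, map_mul, map_mul, map_inv, ← e]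
    exact ext_normalizes h s A ((hQm g).1 hg)
  have hLK : ∀ l ∈ Lt, ∀ k ∈ K1, l * k * l⁻¹ ∈ K1 := fun l hl k hk => by
    obtain ⟨a, ha, v, hv, rfl⟩ := hK1.1 hk
    obtain ⟨A, e⟩ : π l ∈ (ext h s).range := by rw [hLt] at hl; exact hl
    refine hK1.2 ⟨l * a * l⁻¹, hLQ l hl a ha, l * v * l⁻¹, hCn l (hLQ l hl) v hv, ?_⟩
    rw [show l * (⁅T, a⁆ * v) * l⁻¹ = ⁅l * T * l⁻¹, l * a * l⁻¹⁆ * (l * v * l⁻¹) by
      simp only [commutatorElement_def]; group]
    congr 1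
    refine bracket_congr hπ ?_ rfl
    rw [map_mul, map_mul, map_inv, hT, ← e, mul_inv_eq_iff_eq_mul]
    refine su_ext_split h s ?_ ?_ fun b => ?_
    · rw [su_mul_mulVec, su_mul_mulVec, ext_x, (Mst_x s ht).2, mulVec_smul, ext_x]
    · rw [su_mul_mulVec, su_mul_mulVec, ext_y, Mst_y h s ht, mulVec_smul, ext_y]
    · rw [su_mul_mulVec, su_mul_mulVec, ext_p, Mst_p h s ht, Mst_p h s ht, ext_p, lin_const s htl, lin_const s htl,
        mulVec_smul]
  have hker : ∀ k ∈ K1, π k = 1 → k = 1 := fun k hk hk1 => by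
    obtain ⟨a, ha, v, hv, rfl⟩ := hK1.1 hk
    obtain ⟨w, cw, hok, ea⟩ := (hQm a).1 ha
    obtain ⟨cv, hcv, ev⟩ : π v ∈ zSub h s := by
      have hle : C ≤ (zSub h s).comap π := by
        rw [hC]
        refine Subgroup.commutator_le.2 fun g hg g' hg' => ?_
        rw [Subgroup.mem_comap, map_commutatorElement]
        exact comm_mem_zSub h s ((hQm g).1 hg) ((hQm g').1 hg')
      exact hle hv
    have hz : Ok σ x 0 (σ cv) := Ok.zero s.xx (by rw [h.invol, add_comm, hcv])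
    rw [map_mul, map_commutatorElement, hT, ea, ev, mul_eq_one_iff_eq_inv, (Ok.zero s.xx hcv).inv h, neg_zero,
      commutatorElement_def, mul_inv_eq_iff_eq_mul, (conj_ue h s ht hok).2, hts, hz.mul h hok, zero_add] at hk1
    have hw' : σ α • lin σ P t w = w := by
      refine ue_vec_inj h s ?_ ?_ hk1
      · simpa only [hts] using (conj_ue h s ht hok).1
      · have := hz.add h hok
        rwa [zero_add] at this
    rw [lin_const s htl, smul_smul] at hw'
    have hw0 : w = 0 := by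
      have : (σ α * δ - 1) • w = 0 := by rw [sub_smul, one_smul, hw', sub_self]
      exact (smul_eq_zero.1 this).resolve_left (sub_ne_zero.2 hw)
    obtain ⟨v', hv', e'⟩ := hcen cw (by
      have := hok.2.2
      rwa [hw0, mulVec_zero, uh_zero_left, add_zero] at this)
    have hTa : ⁅T, a⁆ ∈ C := by
      rw [bracket_congr hπ (a' := T) (b' := v') rfl (by rw [ea, e', hw0, mulVec_zero]), commutatorElement_def]
      exact C.mul_mem (hCn T hTQ v' hv') (C.inv_mem hv')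
    refine hcomm _ (C.mul_mem hTa hv) ?_
    rw [map_mul, map_commutatorElement, hT, ea, ev, mul_eq_one_iff_eq_inv, (Ok.zero s.xx hcv).inv h, neg_zero,
      commutatorElement_def, mul_inv_eq_iff_eq_mul, (conj_ue h s ht hok).2, hts, hz.mul h hok, zero_add]
    exact hk1
  obtain ⟨D, hD⟩ : ∃ D, D = ⁅Lt, Lt⁆ := ⟨_, rfl⟩
  rw [← hD] at hLc
  have hDn : ∀ l ∈ Lt, ∀ d ∈ D, l * d * l⁻¹ ∈ D := fun l hl d hd => by
    have hle : ⁅Lt, Lt⁆ ≤ D.comap (MulAut.conj l).toMonoidHom := Subgroup.commutator_le.2 fun a ha b hb => by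
      rw [Subgroup.mem_comap, map_commutatorElement, hD]
      exact Subgroup.commutator_mem_commutator (Lt.mul_mem (Lt.mul_mem hl ha) (Lt.inv_mem hl))
        (Lt.mul_mem (Lt.mul_mem hl hb) (Lt.inv_mem hl))
    exact hle (hD ▸ hd)
  have hDL : ∀ d ∈ D, d ∈ Lt := fun d hd => Subgroup.commutator_le_self Lt (hD ▸ hd)
  refine inf_comm_eq_bot hπ {g | g ∈ K1 ∨ g ∈ Lt} (K1 ⊔ D) (fun g hg => ?_) (fun g hg k hk => ?_) ?_ ?_
  · have hle : qSub h s ⊔ (ext h s).range ≤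
        (Subgroup.closure ({g | g ∈ K1 ∨ g ∈ Lt} ∪ (π.ker : Set Γ))).map π := by
      refine sup_le (fun a ha => ?_) fun a ha => ?_
      · obtain ⟨k, hk, e⟩ := hsurj ha
        exact ⟨k, Subgroup.subset_closure (Set.mem_union_left _ (Or.inl hk)), e⟩
      · refine ⟨Lf a, Subgroup.subset_closure (Set.mem_union_left _ (Or.inr ?_)), hLf a⟩
        rw [hLt, Subgroup.mem_comap, hLf]; exact ha
    obtain ⟨k, hk, e⟩ := hle hg
    obtain ⟨z, hz, rfl⟩ := exists_eq_mul (σ := π) e.symm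
    exact Subgroup.mul_mem _ hk (Subgroup.subset_closure (Set.mem_union_right _ hz))
  · rcases hg with hg | hg
    · have hg' : g ∈ K1 ⊔ D := Subgroup.mem_sup_left hg
      exact (K1 ⊔ D).mul_mem ((K1 ⊔ D).mul_mem hg' hk) ((K1 ⊔ D).inv_mem hg')
    · have hle : K1 ⊔ D ≤ (K1 ⊔ D).comap (MulAut.conj g).toMonoidHom :=
        sup_le (fun a ha => Subgroup.mem_sup_left (hLK g hg a ha)) fun a ha => Subgroup.mem_sup_right (hDn g hg a ha)
      exact hle hk
  · have hKL : ∀ a ∈ K1, ∀ b ∈ Lt, ⁅a, b⁆ ∈ K1 ⊔ D := fun a ha b hb => by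
      rw [show ⁅a, b⁆ = a * (b * a⁻¹ * b⁻¹) by simp only [commutatorElement_def]; group]
      exact Subgroup.mem_sup_left (K1.mul_mem ha (hLK b hb _ (K1.inv_mem ha)))
    rintro a (ha | ha) b (hb | hb)
    · exact Subgroup.mem_sup_left (by
        rw [commutatorElement_def]; exact K1.mul_mem (K1.mul_mem (K1.mul_mem ha hb) (K1.inv_mem ha)) (K1.inv_mem hb))
    · exact hKL a ha b hb
    · rw [← commutatorElement_inv]; exact Subgroup.inv_mem _ (hKL b hb a ha)
    · exact Subgroup.mem_sup_right (hD ▸ Subgroup.commutator_mem_commutator ha hb)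
  · intro k hk hk1
    have hn : D ≤ Subgroup.normalizer (K1 : Set Γ) :=
      fun d hd => Subgroup.mem_normalizer_fintype fun a ha => hLK d (hDL d hd) a ha
    rw [← SetLike.mem_coe, Subgroup.coe_mul_of_right_le_normalizer_left K1 D hn] at hk
    obtain ⟨a, ha, d, hd, rfl⟩ := Set.mem_mul.1 hk
    have hd' : π d ∈ (ext h s).range := by have := hDL d hd; rwa [hLt] at this
    rw [map_mul] at hk1
    have hdq : π d ∈ qSub h s := by
      rw [eq_inv_of_mul_eq_one_right hk1]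
      exact (qSub h s).inv_mem ((hQm a).1 (hK1Q a ha))
    obtain ⟨A, eA⟩ := hd'
    obtain ⟨w, cw, hok, ew⟩ := hdq
    have hd1 : π d = 1 := by
      have e : ext h s A = ue h x (P *ᵥ w) cw := eA.trans ew
      have h1 := congrArg (fun g : Cfsg.SU n F q => g.1.1 *ᵥ y) e
      simp only [ext_y, ue_apply h hok, s.yx h, s.yp h, one_smul, mul_one, sub_zero, add_assoc, left_eq_add] at h1
      have h2 := congrArg ((P.map σ)ᵀ *ᵥ ·) h1
      simp only [mulVec_add, mulVec_smul, s.proj_x h, smul_zero, add_zero, mulVec_zero, s.frame.apply] at h2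
      rw [h2, mulVec_zero, zero_add, smul_eq_zero] at h1
      rw [ew, h2, mulVec_zero, h1.resolve_right s.x_ne, ue_one]
    rw [hd1, mul_one] at hk1
    rw [hker a ha hk1, hLc d hd hd1, mul_one]

end CfsgLib.MultSU
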