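import Cfsg.Agent.Lib.MultSU.Parabolic
import Cfsg.Agent.Lib.MultSU.Free
import Cfsg.Agent.Lib.MultSU.AbExt
import Cfsg.Agent.Lib.MultSU.Diag

/-!
The multiplier of `SU 3`.
-/

set_option autoImplicit false

namespace CfsgLib.MultSU

open Matrix CfsgLib.Classical CfsgLib.Classical.Unitary CfsgLib.MinIdx.Un
open scoped commutatorElement

universe u

variable {F : Type u} [Field F] {σ : F →+* F} {q : ℕ}

theorem card_extend_prime {Q : Type*} [Group Q] [Finite Q] (N : Subgroup Q) (g : Q) {k : ℕ} (hk : k.Prime)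
    (hg : ∀ x ∈ N, g * x * g⁻¹ ∈ N) (hmem : g ^ k ∈ N) (hne : g ∉ N) :
    Nat.card (N ⊔ Subgroup.zpowers g : Subgroup Q) = Nat.card N * k := by
  refine card_extend N g k hk.pos hg hmem fun i hi hik hmi => hne ?_
  obtain ⟨a, b, hab⟩ : ∃ a b : ℤ, (1 : ℤ) = (i : ℤ) * a + (k : ℤ) * b := by
    refine ⟨Nat.gcdA i k, Nat.gcdB i k, ?_⟩
    rw [← Nat.gcd_eq_gcd_ab, Nat.Coprime.gcd_eq_one
      (Nat.Coprime.symm ((Nat.Prime.coprime_iff_not_dvd hk).2 fun hd => by
        have := Nat.le_of_dvd hi hd; omega))]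
    rfl
  rw [← zpow_one g, hab, _root_.zpow_add, _root_.zpow_mul, _root_.zpow_mul, zpow_natCast, zpow_natCast]
  exact N.mul_mem (N.zpow_mem hmi a) (N.zpow_mem hmem b)

variable [Finite F]

theorem card_SU_two (hF : Nat.card F = q ^ 2) : Nat.card (Cfsg.SU 2 F q) = q * (q ^ 2 - 1) := by
  rw [card_SU_succ hF le_rfl, card_SU_one hF, fac, if_neg (by decide)]
  ring

theorem card_SU_three (hF : Nat.card F = q ^ 2) :
    Nat.card (Cfsg.SU 3 F q) = q ^ 3 * ((q - 1) * (q + 1) ^ 2 * (q * q - q + 1)) := by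
  rw [card_SU_succ hF (by norm_num), card_SU_two hF, fac, if_pos (by decide)]
  obtain ⟨j, rfl⟩ : ∃ j, q = j + 1 := ⟨q - 1, by have := two_le_q hF; omega⟩
  rw [show (j + 1) ^ 2 - 1 = j * (j + 2) from Nat.sub_eq_of_eq_add (by ring),
    show (j + 1) * (j + 1) - (j + 1) = j * j + j from Nat.sub_eq_of_eq_add (by ring), Nat.add_sub_cancel]
  ring

theorem exists_split_three (h : UFrob σ q) : ∃ (x y : Fin 3 → F) (P : Matrix (Fin 3) (Fin 1) F), Split σ 1 x y P := by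
  obtain ⟨e, he0, he⟩ := exists_iso_vector h (m := 1 + 2) (by norm_num)
  obtain ⟨y, P, s⟩ := exists_split h (m := 1) he0 he
  exact ⟨e, y, P, s⟩

/-- In dimension three the scalar determines the element of the Levi part. -/
theorem mst_ext_one (hF : Nat.card F = q ^ 2) (h : UFrob σ q) {n : ℕ} {x y : Fin n → F}
    {P : Matrix (Fin n) (Fin 1) F} (s : Split σ 1 x y P) {g g' : Cfsg.SU n F q} (hg : g ∈ Mst σ q x y)
    (hg' : g' ∈ Mst σ q x y) (e : scal σ x y g = scal σ x y g') : g = g' := by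
  have h1 : scalHom s ⟨g, hg⟩ = scalHom s ⟨g', hg'⟩ := Units.ext e
  obtain ⟨M, hM⟩ := exists_ext h s (Subgroup.mul_mem _ (Subgroup.inv_mem _ hg') hg) (by
    have : scalHom s ((⟨g', hg'⟩ : Mst σ q x y)⁻¹ * ⟨g, hg⟩) = 1 := by rw [map_mul, map_inv, h1, inv_mul_cancel]
    have e2 := scalHom_val s ((⟨g', hg'⟩ : Mst σ q x y)⁻¹ * ⟨g, hg⟩)
    rw [this] at e2
    exact e2.symm)
  have := (Nat.card_eq_one_iff_unique.1 (card_SU_one hF : Nat.card (Cfsg.SU 1 F q) = 1)).1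
  rw [Subsingleton.elim M 1, map_one] at hM
  exact (inv_mul_eq_one.1 hM.symm).symm

/-- A prime dividing `q - 1`. -/
theorem noMult_three_split (hF : Nat.card F = q ^ 2) (h : UFrob σ q) {r : ℕ} [hr : Fact r.Prime] (hodd : r ≠ 2)
    (hd : r ∣ q - 1) : NoMult r (Cfsg.SU 3 F q) := by
  have hq := two_le_q hF
  obtain ⟨x, y, P, s⟩ := exists_split_three h
  obtain ⟨α, hα⟩ := exists_gen_units hF (F := F)
  obtain ⟨k, hk, hks, -⟩ := exists_diag h s α.ne_zero 0 (fun _ => σ (α : F) / α) (fun _ => norm_div h α.ne_zero)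
    (by simp only [Finset.prod_const, Finset.card_univ, Fintype.card_fin, pow_one]
        field_simp [show σ (α : F) ≠ 0 by simp])
  have ho : orderOf k = q ^ 2 - 1 := by
    refine Nat.dvd_antisymm (orderOf_dvd_of_pow_eq_one ?_) ?_
    · refine mst_ext_one hF h s (Subgroup.pow_mem _ hk _) (Subgroup.one_mem _) ?_
      have e1 : scalHom s ⟨k, hk⟩ = α := Units.ext hks
      have e2 := congrArg Units.val (map_pow (scalHom s) ⟨k, hk⟩ (q ^ 2 - 1))
      rw [e1, ← hα, pow_orderOf_eq_one] at e2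
      rw [← hα]
      refine Eq.trans (b := (1 : F)) ?_ ?_
      · simpa [scalHom_val] using e2
      · rw [scal, su_one_mulVec, s.xy]
    · rw [← hα, show α = scalHom s ⟨k, hk⟩ from (Units.ext hks).symm]
      refine (orderOf_map_dvd (scalHom s) _).trans ?_
      rw [← Subgroup.orderOf_coe]
  refine NoMult.of_cyclic (Subgroup.zpowers k) (index_not_dvd _ (c := q ^ 2 - 1)
    (i := q ^ 3 * ((q + 1) * (q * q - q + 1))) (by rw [Nat.card_zpowers, ho]) ?_ ?_) inferInstance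
  · rw [card_SU_three hF, show q ^ 2 - 1 = (q + 1) * (q - 1) by rw [← Nat.sq_sub_sq q 1, one_pow]]
    ring
  · obtain ⟨j, hj⟩ := hd
    have hr2 := hr.out.two_le
    intro hdiv
    rcases hr.out.dvd_mul.1 hdiv with h1 | h1
    · have := hr.out.dvd_of_dvd_pow h1
      exact hr.out.not_dvd_one ((Nat.dvd_sub this (Dvd.intro j hj.symm)).trans (by rw [show q - (q - 1) = 1 by omega]))
    rcases hr.out.dvd_mul.1 h1 with h2 | h2
    · have h3 := Nat.dvd_sub h2 (Dvd.intro j hj.symm)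
      rw [show q + 1 - (q - 1) = 2 by omega] at h3
      exact hodd ((Nat.prime_dvd_prime_iff_eq hr.out Nat.prime_two).1 h3)
    · have h3 : r ∣ q * q - q := by
        rw [show q * q - q = q * (q - 1) by rw [Nat.mul_sub_one]]
        exact (Dvd.intro j hj.symm).trans (dvd_mul_left _ _)
      exact hr.out.not_dvd_one ((Nat.dvd_add_right h3).1 h2)

theorem cycle_three : (Equiv.swap (1 : Fin 3) 2 * Equiv.swap 0 1) ^ 3 = 1 ∧
    Equiv.swap (1 : Fin 3) 2 * Equiv.swap 0 1 ≠ 1 := by decide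

/-- A prime dividing `q + 1`. -/
theorem noMult_three_plus (hF : Nat.card F = q ^ 2) (h : UFrob σ q) {r : ℕ} [hr : Fact r.Prime] (hodd : r ≠ 2)
    (hrq : ¬ r ∣ q) (hd : r ∣ q + 1) : NoMult r (Cfsg.SU 3 F q) := by
  have hq := two_le_q hF
  obtain ⟨j, hj⟩ := hd
  have hr2 := hr.out.two_le
  have hj0 : 0 < j := Nat.pos_of_ne_zero fun e => by rw [e, mul_zero] at hj; omega
  have hm1 : ¬ r ∣ q - 1 := fun hd' => by
    have h3 := Nat.dvd_sub (Dvd.intro j hj.symm) hd'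
    rw [show q + 1 - (q - 1) = 2 by omega] at h3
    exact hodd ((Nat.prime_dvd_prime_iff_eq hr.out Nat.prime_two).1 h3)
  have hq3 : ¬ r ∣ q ^ 3 := fun e => hrq (hr.out.dvd_of_dvd_pow e)
  have hfac : ∃ M, q * q - q + 1 = 3 + r * M := by
    obtain ⟨N, hN⟩ : ∃ N, q + 1 = r * j ∧ 2 ≤ N ∧ N = r * j := ⟨r * j, hj, by omega, rfl⟩
    refine ⟨j * (r * j - 3), ?_⟩
    have e : 3 ≤ r * j := by omega
    obtain ⟨t, ht⟩ : ∃ t, r * j = t + 3 := ⟨r * j - 3, by omega⟩
    rw [← mul_assoc, ht, Nat.add_sub_cancel]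
    have hq' : q = t + 2 := by omega
    subst hq'
    rw [show (t + 2) * (t + 2) - (t + 2) = t * t + 3 * t + 2 from Nat.sub_eq_of_eq_add (by ring)]
    ring
  obtain ⟨M, hM⟩ := hfac
  rcases eq_or_ne r 3 with rfl | hr3
  · obtain ⟨c, hc⟩ : ∃ c : Cfsg.SU 3 F q, c = sw hF (show (0 : Fin 3) ≠ 1 by decide) *
        sw hF (show (1 : Fin 3) ≠ 2 by decide) := ⟨_, rfl⟩
    have hmon := hc ▸ (sw_mon hF (show (0 : Fin 3) ≠ 1 by decide)).mul (sw_mon hF (show (1 : Fin 3) ≠ 2 by decide))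
    have hnorm : ∀ t ∈ tSub 3 F q, c * t * c⁻¹ ∈ tSub 3 F q := fun t ht => hmon.normalizes h ht
    refine NoMult.of_subgroup (tSub 3 F q ⊔ Subgroup.zpowers c) (index_not_dvd _ (c := (q + 1) ^ 2 * 3)
      (i := q ^ 3 * ((q - 1) * ((q * q - q + 1) / 3))) ?_ ?_ ?_) fun Γ _ _ π hπ hpr => ?_
    · rw [card_extend_prime _ _ Nat.prime_three hnorm (hmon.pow_mem_tSub cycle_three.1)
        (hmon.not_tSub cycle_three.2), card_tSub hF h 2]
    · rw [card_SU_three hF, hM, show (3 + 3 * M) / 3 = 1 + M by omega]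
      ring
    · have hM3 : ¬ 3 ∣ (q * q - q + 1) / 3 := by
        have hq' : q = 3 * j - 1 := by omega
        have e : q * q - q + 1 = 3 * (3 * (j * (j - 1)) + 1) := by
          obtain ⟨t, rfl⟩ : ∃ t, j = t + 1 := ⟨j - 1, by omega⟩
          rw [hq', show 3 * (t + 1) - 1 = 3 * t + 2 by omega,
            show (3 * t + 2) * (3 * t + 2) - (3 * t + 2) = 9 * (t * t) + 9 * t + 2 from Nat.sub_eq_of_eq_add (by ring),
            Nat.add_sub_cancel]
          ring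
        rw [e, Nat.mul_div_cancel_left _ three_pos]
        omega
      intro hdiv
      rcases hr.out.dvd_mul.1 hdiv with h1 | h1
      · exact hq3 h1
      rcases hr.out.dvd_mul.1 h1 with h2 | h2
      exacts [hm1 h2, hM3 h2]
    · refine abExt_one hπ _ (tSub_liftComm_odd hF h hπ hpr hodd) c hnorm fun t ht hct => ?_
      obtain ⟨e, he⟩ := ht
      have hfix := hmon.commute_fix he hct
      have e01 : e 0 = e 1 := by
        have := hfix 0
        rw [show (Equiv.swap (1 : Fin 3) 2 * Equiv.swap (0 : Fin 3) 1) (0 : Fin 3) = (2 : Fin 3) by decide] at this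
        have h2 := hfix 2
        rw [show (Equiv.swap (1 : Fin 3) 2 * Equiv.swap (0 : Fin 3) 1) (2 : Fin 3) = (1 : Fin 3) by decide] at h2
        rw [h2, this]
      have e12 : e 1 = e 2 := by
        have := hfix 2
        rwa [show (Equiv.swap (1 : Fin 3) 2 * Equiv.swap (0 : Fin 3) 1) (2 : Fin 3) = (1 : Fin 3) by decide] at this
      rw [hc]
      exact ((cLift hπ t).mul_mem (diag_sw hF h hπ hpr hrq he _ e01) (diag_sw hF h hπ hpr hrq he _ e12)).symm
  · refine NoMult.of_subgroup (tSub 3 F q) (index_not_dvd _ (c := (q + 1) ^ 2)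
      (i := q ^ 3 * ((q - 1) * (q * q - q + 1))) (card_tSub hF h 2) ?_ ?_) fun Γ _ _ π hπ hpr => ?_
    · rw [card_SU_three hF]; ring
    · intro hdiv
      rcases hr.out.dvd_mul.1 hdiv with h1 | h1
      · exact hq3 h1
      rcases hr.out.dvd_mul.1 h1 with h2 | h2
      · exact hm1 h2
      · rw [hM] at h2
        exact hr3 ((Nat.prime_dvd_prime_iff_eq hr.out Nat.prime_three).1 ((Nat.dvd_add_left (dvd_mul_right _ _)).1 h2))
    · have := abExt_one hπ _ (tSub_liftComm_odd hF h hπ hpr hodd) 1 (fun t ht => by simpa using ht)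
        fun t _ _ => ((cLift hπ t).one_mem).symm
      rwa [Subgroup.zpowers_one_eq_bot, sup_bot_eq] at this

/-- The torus at `2` when `q ≡ 3 (mod 4)`. -/
theorem tSub_liftComm_two (hF : Nat.card F = q ^ 2) (h : UFrob σ q) (h4 : q % 4 = 3) {Γ : Type u} [Group Γ]
    {π : Γ →* Cfsg.SU 3 F q} (hπ : IsCE π) (hpr : IsPGroup 2 π.ker) :
    ∀ s ∈ tSub 3 F q, ∀ t ∈ tSub 3 F q, LiftComm π s t := by
  classical
  haveI : Fact (Nat.Prime 2) := ⟨Nat.prime_two⟩
  have hrq : ¬ 2 ∣ q := by omega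
  obtain ⟨lam, hlam, hgen, hord⟩ := exists_lam hF
  have hl0 : lam ≠ 0 := fun e => by rw [e, zero_pow (Nat.succ_ne_zero q)] at hlam; exact zero_ne_one hlam
  obtain ⟨m, hm⟩ : ∃ m, q + 1 = 2 * m ∧ Even m := ⟨(q + 1) / 2, by omega, ⟨(q + 1) / 4, by omega⟩⟩
  have hlm : lam ^ m = -1 := by
    have h1 : lam ^ m * lam ^ m = 1 := by rw [← pow_add, ← two_mul, ← hm.1, hlam]
    refine (mul_self_eq_one_iff.1 h1).resolve_left fun e => ?_
    have := Nat.le_of_dvd (by omega) (hord m e)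
    omega
  obtain ⟨g1, hg1⟩ := exists_gen (k := 2) lam hlam (1 : Fin 3) (q := q)
  obtain ⟨g2, hg2⟩ := exists_gen (k := 2) lam hlam (2 : Fin 3) (q := q)
  suffices hmain : LiftComm π g1 g2 by
    refine tSub_liftComm hF h hπ hlam hgen fun i j hij g g' hg hg' => ?_
    fin_cases i <;> fin_cases j
    · exact absurd rfl hij
    · rw [hg.ext hg1, hg'.ext hg2]; exact hmain
    · rw [hg.ext hg2, hg'.ext hg1]; exact hmain.symm
    · exact absurd rfl hij
  obtain ⟨D, hD⟩ : ∃ D : Cfsg.SU 3 F q, D = g1 * g2⁻¹ * g2⁻¹ := ⟨_, rfl⟩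
  have hDm := hD ▸ (hg1.mul_diag hg2.inv_diag).mul_diag hg2.inv_diag
  have hD01 : (fun i => gv lam (1 : Fin 3) i * (gv lam 2 i)⁻¹ * (gv lam 2 i)⁻¹) (0 : Fin 3) =
      (fun i => gv lam (1 : Fin 3) i * (gv lam 2 i)⁻¹ * (gv lam 2 i)⁻¹) 1 := by
    simp [gv, hl0]
  have hDw := diag_sw hF h hπ hpr hrq hDm (show (0 : Fin 3) ≠ 1 by decide) hD01
  -- `g1` lies in the block
  obtain ⟨M, hM⟩ := exists_gen (k := 1) lam hlam (1 : Fin 2) (q := q)
  have hblk : g1 = blk h (pair_inj (show (0 : Fin 3) ≠ 1 by decide)) M := by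
    refine su_ext fun u => funext fun j => ?_
    rw [hg1.1, Equiv.Perm.one_apply]
    fin_cases j
    · refine Eq.trans ?_ (blk_in h _ M u 0).symm
      rw [hM.1]; simp [gv]
    · refine Eq.trans ?_ (blk_in h _ M u 1).symm
      rw [hM.1]; simp [gv]
    · refine Eq.trans ?_ (blk_out h _ M u (fun i => by fin_cases i <;> simp)).symm
      simp [gv]
  have hDg : LiftComm π D g1 := by
    rw [hblk]
    exact liftComm_block hF h hπ hpr hrq _ (transvGroup_two hF h)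
      (fun M' => diag_comm_blk h _ hDm (fun i => by fin_cases i; · rfl
                                                    · exact hD01.symm) M') M
  obtain ⟨A, hA⟩ := hπ.surj g1
  obtain ⟨B, hB⟩ := hπ.surj g2
  obtain ⟨W, hW⟩ := hπ.surj (sw hF (show (0 : Fin 3) ≠ 1 by decide))
  have hAB : π A * π B = π B * π A := by rw [hA, hB]; exact tSub_comm ⟨_, hg1⟩ ⟨_, hg2⟩
  have hAB' : π A * π B⁻¹ = π B⁻¹ * π A := by rw [map_inv]; exact Commute.inv_right hAB
  obtain ⟨η, hη⟩ : ∃ η, η = ⁅A, B⁻¹⁆ := ⟨_, rfl⟩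
  have hηk : η ∈ π.ker := hη ▸ bracket_mem_ker hAB'
  have hDl : π (A * B⁻¹ * B⁻¹) = D := by rw [map_mul, map_mul, map_inv, hA, hB, hD]
  have hη2 : η * η = 1 := by
    have h1 : ⁅A, A * B⁻¹ * B⁻¹⁆ = 1 := commutatorElement_eq_one_iff_mul_comm.2 (hDg.symm A _ hA hDl)
    rwa [bracket_mul_right hπ hAB', bracket_mul_right hπ hAB', commutatorElement_self, one_mul, ← hη] at h1
  -- conjugation by the swap
  obtain ⟨z1, hz1, e1⟩ : ∃ z1 ∈ π.ker, W * A * W⁻¹ = A⁻¹ * z1 := exists_eq_mul (by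
    rw [map_mul, map_mul, map_inv, map_inv, hW, hA]
    refine (sw_mon hF _).conj hg1 ?_
    convert hg1.inv_diag using 1
    funext l; fin_cases l <;> simp [gv, Equiv.swap_apply_def])
  obtain ⟨z, hz, e2⟩ : ∃ z ∈ π.ker, W * B * W⁻¹ = A⁻¹ * B * z := exists_eq_mul (by
    rw [map_mul, map_mul, map_inv, map_mul, map_inv, hW, hA, hB]
    refine (sw_mon hF _).conj hg2 ?_
    convert hg1.inv_diag.mul_diag hg2 using 1
    funext l; fin_cases l <;> simp [gv, hl0, Equiv.swap_apply_def])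
  have hW2 : W * (W * B * W⁻¹) * W⁻¹ = B := by
    have hww : π (W * W) = π (A ^ m) := by
      rw [map_mul, map_pow, hW, hA]
      obtain ⟨d', hd'⟩ := hg1.pow m
      rw [one_pow] at hd'
      have hsq := (sw_mon (F := F) hF (show (0 : Fin 3) ≠ 1 by decide)).mul
        (sw_mon hF (show (0 : Fin 3) ≠ 1 by decide))
      rw [Equiv.swap_mul_self] at hsq
      have hp : ∀ (j : ℕ), IsMon (g1 ^ j) 1 fun i => gv lam (1 : Fin 3) i ^ j := fun j => by
        induction j with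
        | zero => simpa using IsMon.one
        | succ j ih => simpa [pow_succ] using ih.mul_diag hg1
      refine hsq.ext ?_
      convert hp m using 1
      funext l; fin_cases l <;> simp [gv, hlm, inv_pow, Equiv.swap_apply_def]
    obtain ⟨y, hy, ey⟩ := exists_eq_mul (σ := π) hww
    have hmk : ⁅A, B⁆ ^ m = 1 := by
      have : ⁅A, B⁻¹⁆ = ⁅A, B⁆⁻¹ := by
        refine eq_inv_of_mul_eq_one_right ?_
        rw [← bracket_mul_right hπ hAB', mul_inv_cancel]
        simp [commutatorElement_def]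
      obtain ⟨t, rfl⟩ := hm.2
      rw [← two_mul, pow_mul, sq, ← inv_inv (⁅A, B⁆ * ⁅A, B⁆), _root_.mul_inv_rev, ← this, ← hη, hη2, inv_one, one_pow]
    rw [show W * (W * B * W⁻¹) * W⁻¹ = W * W * B * (W * W)⁻¹ by group, ey,
      show A ^ m * y * B * (A ^ m * y)⁻¹ = A ^ m * (y * B * y⁻¹) * (A ^ m)⁻¹ by group,
      ← hπ.ker_comm hy B, mul_inv_cancel_right,
      show A ^ m * B * (A ^ m)⁻¹ = ⁅A ^ m, B⁆ * B by simp only [commutatorElement_def]; group,
      bracket_pow_left hπ hAB, hmk, one_mul]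
  have hzz : z1 = z * z := by
    rw [e2, show W * (A⁻¹ * B * z) * W⁻¹ = (W * A * W⁻¹)⁻¹ * (W * B * W⁻¹) * (W * z * W⁻¹) by group, e1, e2,
      hπ.ker_comm hz W, mul_inv_cancel_right,
      show (A⁻¹ * z1)⁻¹ * (A⁻¹ * B * z) * z = z1⁻¹ * (B * (z * z)) by group,
      hπ.ker_comm (Subgroup.mul_mem _ hz hz) B, ← mul_assoc, mul_eq_right] at hW2
    exact inv_mul_eq_one.1 hW2
  have hWD : W * (A * B⁻¹ * B⁻¹) * W⁻¹ = A * B⁻¹ * B⁻¹ := by
    rw [← hDw (A * B⁻¹ * B⁻¹) W hDl hW, mul_inv_cancel_right]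
  rw [show W * (A * B⁻¹ * B⁻¹) * W⁻¹ = W * A * W⁻¹ * (W * B * W⁻¹)⁻¹ * (W * B * W⁻¹)⁻¹ by group, e1, e2, hzz,
    show A⁻¹ * (z * z) * (A⁻¹ * B * z)⁻¹ * (A⁻¹ * B * z)⁻¹ =
      A⁻¹ * (z * (B⁻¹ * A)) * z⁻¹ * (B⁻¹ * A) by group,
    ← hπ.ker_comm hz (B⁻¹ * A)] at hWD
  have eB : B⁻¹ * A = η * (A * B⁻¹) := by
    have hi : η = η⁻¹ := eq_inv_of_mul_eq_one_left hη2
    rw [hi, hη, commutatorElement_inv]
    simp only [commutatorElement_def]
    group
  rw [show A⁻¹ * (B⁻¹ * A * z) * z⁻¹ * (B⁻¹ * A) = A⁻¹ * (B⁻¹ * A) * (B⁻¹ * A) by group] at hWD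
  nth_rewrite 1 [eB] at hWD
  rw [← hπ.ker_comm hηk (A * B⁻¹), show A⁻¹ * (A * B⁻¹ * η) * (B⁻¹ * A) = B⁻¹ * (η * (B⁻¹ * A)) by group, eB,
    ← mul_assoc η η, hη2, one_mul, show B⁻¹ * (A * B⁻¹) = (B⁻¹ * A) * B⁻¹ by group, eB, mul_assoc η,
    mul_eq_right] at hWD
  have hfin : ⁅A, B⁆ = 1 := by
    rw [hη] at hWD
    have := commutatorElement_eq_one_iff_mul_comm.1 hWD
    exact commutatorElement_eq_one_iff_mul_comm.2 (Commute.inv_right_iff.1 this)
  exact (liftComm_iff hπ hA hB).2 (commutatorElement_eq_one_iff_mul_comm.1 hfin)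

/-- The prime `2`, `q ≡ 3 (mod 4)`. -/
theorem noMult_three_two (hF : Nat.card F = q ^ 2) (h : UFrob σ q) (h4 : q % 4 = 3) :
    NoMult 2 (Cfsg.SU 3 F q) := by
  haveI : Fact (Nat.Prime 2) := ⟨Nat.prime_two⟩
  have hrq : ¬ 2 ∣ q := by omega
  obtain ⟨c, hc⟩ : ∃ c : Cfsg.SU 3 F q, c = sw hF (show (0 : Fin 3) ≠ 1 by decide) := ⟨_, rfl⟩
  have hmon := hc ▸ sw_mon hF (show (0 : Fin 3) ≠ 1 by decide)
  have hnorm : ∀ t ∈ tSub 3 F q, c * t * c⁻¹ ∈ tSub 3 F q := fun t ht => hmon.normalizes h ht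
  refine NoMult.of_subgroup (tSub 3 F q ⊔ Subgroup.zpowers c) (index_not_dvd _ (c := (q + 1) ^ 2 * 2)
    (i := q ^ 3 * ((q - 1) / 2 * (q * q - q + 1))) ?_ ?_ ?_) fun Γ _ _ π hπ hpr => ?_
  · rw [card_extend_prime _ _ Nat.prime_two hnorm (hmon.pow_mem_tSub (by decide))
      (hmon.not_tSub (by decide)), card_tSub hF h 2]
  · rw [card_SU_three hF]
    obtain ⟨j, hj⟩ : ∃ j, q - 1 = 2 * j := ⟨(q - 1) / 2, by omega⟩
    rw [hj, Nat.mul_div_cancel_left _ two_pos]
    ring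
  · intro hdiv
    rcases Nat.prime_two.dvd_mul.1 hdiv with h1 | h1
    · exact hrq (Nat.prime_two.dvd_of_dvd_pow h1)
    rcases Nat.prime_two.dvd_mul.1 h1 with h2 | h2
    · omega
    · have h3 : 2 ∣ q * q - q := by
        rw [← Nat.mul_sub_one]
        exact (show 2 ∣ q - 1 by omega).trans (dvd_mul_left _ _)
      omega
  · refine abExt_one hπ _ (tSub_liftComm_two hF h h4 hπ hpr) c hnorm fun t ht hct => ?_
    obtain ⟨e, he⟩ := ht
    have := hmon.commute_fix he hct 0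
    rw [Equiv.swap_apply_left] at this
    exact hc ▸ (diag_sw hF h hπ hpr hrq he _ this.symm).symm

/-- The prime `2`, `q ≡ 1 (mod 4)`. -/
theorem noMult_three_two' (hF : Nat.card F = q ^ 2) (h : UFrob σ q) (h4 : q % 4 = 1) :
    NoMult 2 (Cfsg.SU 3 F q) := by
  classical
  haveI : Fact (Nat.Prime 2) := ⟨Nat.prime_two⟩
  have hq := two_le_q hF
  have h2 : (2 : F) ≠ 0 := by exact_mod_cast cast_ne_zero hF Nat.prime_two (show ¬ 2 ∣ q by omega)
  obtain ⟨a, ha⟩ := CfsgLib.Geometry.exists_norm_eq h.ne h.invol (c := (-1 : F)) (by rw [map_neg, map_one])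
  obtain ⟨x, hx⟩ : ∃ x : Fin 3 → F, x = ![1, a, 0] := ⟨_, rfl⟩
  obtain ⟨y, hy⟩ : ∃ y : Fin 3 → F, y = ![1 / 2, -a / 2, 0] := ⟨_, rfl⟩
  have huh : ∀ u v : Fin 3 → F, uh σ u v = u 0 * σ (v 0) + u 1 * σ (v 1) + u 2 * σ (v 2) := fun u v => by
    simp [uh, dotProduct, Fin.sum_univ_three]
  have hxx : uh σ x x = 0 := by rw [huh, hx]; simp; linear_combination ha
  have hyy : uh σ y y = 0 := by
    rw [huh, hy]; simp [map_div₀, map_ofNat]; field_simp; linear_combination ha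
  have hxy : uh σ x y = 1 := by
    rw [huh, hx, hy]; simp [map_div₀, map_ofNat]; field_simp; linear_combination -ha
  obtain ⟨P, s⟩ := exists_split_pair h (m := 1) hxx hyy hxy
  obtain ⟨w, hw⟩ := exists_dg (q := q) ![(1 : F), -1, -1] (fun i => by
    fin_cases i <;> simp [show Even (q + 1) from Nat.even_iff.2 (by omega)]) (by simp [Fin.prod_univ_three])
  have hwx : w.1.1 *ᵥ x = (2 : F) • y := by
    funext i; rw [hw.1]; fin_cases i <;> simp [hx, hy] <;> field_simp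
  have hwy : w.1.1 *ᵥ y = (1 / 2 : F) • x := by
    funext i; rw [hw.1]; fin_cases i <;> simp [hx, hy] <;> field_simp
  have hww : w * w = 1 := by
    refine (hw.mul_diag hw).ext ?_
    convert IsMon.one (n := 3) (F := F) (q := q) using 1
    funext i; fin_cases i <;> simp
  obtain ⟨α, hα⟩ := exists_gen_units hF (F := F)
  obtain ⟨k, hk, hks, -⟩ := exists_diag h s α.ne_zero 0 (fun _ => σ (α : F) / α) (fun _ => norm_div h α.ne_zero)
    (by simp only [Finset.prod_const, Finset.card_univ, Fintype.card_fin, pow_one]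
        field_simp [show σ (α : F) ≠ 0 by simp])
  have hkp : ∀ j : ℕ, scal σ x y (k ^ j) = (α : F) ^ j := fun j => by
    have e1 : scalHom s ⟨k, hk⟩ = α := Units.ext hks
    have e2 := congrArg Units.val (map_pow (scalHom s) ⟨k, hk⟩ j)
    rw [e1, Units.val_pow_eq_pow_val] at e2
    simpa [scalHom_val] using e2
  have hk1 : scal σ x y (1 : Cfsg.SU 3 F q) = 1 := by rw [scal, su_one_mulVec, s.xy]
  have hαp : ∀ j, (α : F) ^ j = 1 ↔ q ^ 2 - 1 ∣ j := fun j => by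
    rw [← hα, orderOf_dvd_iff_pow_eq_one, Units.ext_iff, Units.val_pow_eq_pow_val, Units.val_one]
  have hkord : ∀ j, k ^ j = 1 ↔ q ^ 2 - 1 ∣ j := fun j => by
    rw [← hαp]
    exact ⟨fun e => by rw [← hkp, e, hk1],
      fun e => mst_ext_one hF h s (Subgroup.pow_mem _ hk _) (Subgroup.one_mem _) (by rw [hkp, e, hk1])⟩
  have ho : orderOf k = q ^ 2 - 1 :=
    Nat.dvd_antisymm (orderOf_dvd_of_pow_eq_one ((hkord _).2 dvd_rfl)) ((hkord _).1 (pow_orderOf_eq_one k))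
  have hwk : w * k * w⁻¹ = (k ^ q)⁻¹ := by
    have hwi : w⁻¹ = w := inv_eq_of_mul_eq_one_right hww
    have hgx : (w * k * w⁻¹).1.1 *ᵥ x = (σ (α : F))⁻¹ • x := by
      rw [hwi, su_mul_mulVec, su_mul_mulVec, hwx, mulVec_smul, Mst_y h s hk, hks, mulVec_smul, mulVec_smul, hwy,
        smul_smul, smul_smul]
      congr 1
      field_simp
    have hgy : (w * k * w⁻¹).1.1 *ᵥ y = (α : F) • y := by
      rw [hwi, su_mul_mulVec, su_mul_mulVec, hwy, mulVec_smul, (Mst_x s hk).2, hks, mulVec_smul, mulVec_smul, hwx,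
        smul_smul, smul_smul]
      congr 1
      field_simp
    have hσα : σ (α : F) ≠ 0 := by simp
    refine mst_ext_one hF h s ⟨⟨_, inv_ne_zero hσα, hgx⟩, _, α.ne_zero, hgy⟩
      (Subgroup.inv_mem _ (Subgroup.pow_mem _ hk _)) ?_
    have e3 : scalHom s (⟨k, hk⟩ ^ q)⁻¹ = (α ^ q)⁻¹ := by
      rw [map_inv, map_pow, show scalHom s ⟨k, hk⟩ = α from Units.ext hks]
    have e4 := congrArg Units.val e3
    simp only [scalHom_val, Units.val_inv_eq_inv_val, Units.val_pow_eq_pow_val, SubgroupClass.coe_pow,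
      InvMemClass.coe_inv] at e4
    rw [e4, ← h.pow, scal, hgx, uh_smul_left, hxy, mul_one]
  have hwk' : w ∉ Subgroup.zpowers k := fun hm => by
    obtain ⟨⟨c, hc, e⟩, -⟩ : w ∈ Mst σ q x y := Subgroup.zpowers_le.2 hk hm
    rw [hwx] at e
    have e0 := congrFun e 0
    have e1 := congrFun e 1
    simp [hx, hy] at e0 e1
    field_simp at e0 e1
    have ha0 : a ≠ 0 := fun e => by rw [e, zero_mul] at ha; exact one_ne_zero (neg_eq_zero.1 ha.symm)
    have hc1 : c = -1 := mul_right_cancel₀ ha0 (by linear_combination -e1)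
    exact h2 (by linear_combination e0 + hc1)
  refine NoMult.of_subgroup (Subgroup.zpowers k ⊔ Subgroup.zpowers w) (index_not_dvd _ (c := (q ^ 2 - 1) * 2)
    (i := q ^ 3 * ((q + 1) / 2 * (q * q - q + 1))) ?_ ?_ ?_) fun Γ _ _ π hπ hpr => ?_
  · have hnorm : ∀ g ∈ Subgroup.zpowers k, w * g * w⁻¹ ∈ Subgroup.zpowers k := fun g hg => by
      obtain ⟨j, rfl⟩ := Subgroup.mem_zpowers_iff.1 hg
      rw [← conj_zpow, hwk]
      exact Subgroup.zpow_mem _ (Subgroup.inv_mem _ (Subgroup.npow_mem_zpowers _ _)) _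
    rw [card_extend_prime _ _ Nat.prime_two hnorm (by rw [sq, hww]; exact Subgroup.one_mem _) hwk',
      Nat.card_zpowers, ho]
  · rw [card_SU_three hF, show q ^ 2 - 1 = (q + 1) * (q - 1) by rw [← Nat.sq_sub_sq q 1, one_pow]]
    obtain ⟨j, hj⟩ : ∃ j, q + 1 = 2 * j := ⟨(q + 1) / 2, by omega⟩
    rw [hj, Nat.mul_div_cancel_left _ two_pos]
    ring
  · intro hdiv
    rcases Nat.prime_two.dvd_mul.1 hdiv with h1 | h1
    · have := Nat.prime_two.dvd_of_dvd_pow h1
      omega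
    rcases Nat.prime_two.dvd_mul.1 h1 with h3 | h3
    · omega
    · have h5 : 2 ∣ q * q - q := by
        rw [← Nat.mul_sub_one]
        exact (show 2 ∣ q - 1 by omega).trans (dvd_mul_left _ _)
      omega
  obtain ⟨K, hK⟩ := hπ.surj k
  obtain ⟨W, hW⟩ := hπ.surj w
  obtain ⟨z, hz, e1⟩ : ∃ z ∈ π.ker, W * K * W⁻¹ = (K ^ q)⁻¹ * z := exists_eq_mul (by
    rw [map_mul, map_mul, map_inv, map_inv, map_pow, hW, hK, hwk])
  have hzc : ∀ g : Γ, Commute g z := fun g => hπ.ker_comm hz g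
  obtain ⟨v, hv⟩ : ∃ v, v = ⁅W, K⁆ := ⟨_, rfl⟩
  have hve : v = (K ^ (q + 1))⁻¹ * z := by
    rw [hv, commutatorElement_def, e1, mul_assoc, ((hzc K⁻¹).eq).symm, ← mul_assoc, ← _root_.mul_inv_rev, pow_succ']
  have hWp : ∀ j : ℕ, W * K ^ j * W⁻¹ = ((K ^ q) ^ j)⁻¹ * z ^ j := fun j => by
    rw [← conj_pow, e1, ((hzc _)).mul_pow, inv_pow]
  -- the relation from the square of the swap
  have hrel : K = (K ^ q) ^ q * z * (z ^ q)⁻¹ := by
    have hker : W * W ∈ π.ker := by rw [MonoidHom.mem_ker, map_mul, hW, hww]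
    calc K = W * W * K * (W * W)⁻¹ := by rw [← hπ.ker_comm hker K, mul_inv_cancel_right]
      _ = W * (W * K * W⁻¹) * W⁻¹ := by group
      _ = (W * K ^ q * W⁻¹)⁻¹ * (W * z * W⁻¹) := by rw [e1]; group
      _ = (((K ^ q) ^ q)⁻¹ * z ^ q)⁻¹ * z := by rw [hWp, hπ.ker_comm hz W, mul_inv_cancel_right]
      _ = _ := by
        rw [_root_.mul_inv_rev, inv_inv, mul_assoc, mul_assoc, ← mul_assoc (z ^ q)⁻¹,
          ← ((hzc ((K ^ q) ^ q)).pow_right q).inv_right.eq, mul_assoc,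
          ((Commute.refl z).pow_right q).inv_right.eq]
  have ha1 : (K ^ (q + 1)) ^ q * z = K ^ (q + 1) * z ^ q := by
    have : K ^ (q * q) * z = K * z ^ q := by
      rw [← pow_mul] at hrel
      nth_rewrite 2 [hrel]
      rw [inv_mul_cancel_right]
    rw [← pow_mul, show (q + 1) * q = q + q * q by ring, pow_add, mul_assoc, this, ← mul_assoc, ← pow_succ]
  have hvq : v ^ (q - 1) = 1 := by
    rw [hve, (hzc _).mul_pow, inv_pow, inv_mul_eq_one]
    refine mul_right_cancel (b := K ^ (q + 1) * z) ?_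
    have e : q = q - 1 + 1 := by omega
    calc (K ^ (q + 1)) ^ (q - 1) * (K ^ (q + 1) * z) = (K ^ (q + 1)) ^ q * z := by
          rw [← mul_assoc, ← pow_succ, ← e]
      _ = K ^ (q + 1) * z ^ q := ha1
      _ = z ^ (q - 1) * (K ^ (q + 1) * z) := by
          rw [← mul_assoc, ← ((hzc (K ^ (q + 1))).pow_right (q - 1)).eq, mul_assoc, ← pow_succ, ← e]
  have hKv : K * v * K⁻¹ = v := by
    have : Commute K v := hve ▸ ((Commute.self_pow K (q + 1)).inv_right.mul_right (hzc K))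
    rw [this.eq, mul_inv_cancel_right]
  have hWv : W * v * W⁻¹ = v⁻¹ := by
    rw [hve, show W * ((K ^ (q + 1))⁻¹ * z) * W⁻¹ = (W * K ^ (q + 1) * W⁻¹)⁻¹ * (W * z * W⁻¹) by group, hWp,
      hπ.ker_comm hz W, mul_inv_cancel_right, _root_.mul_inv_rev, inv_inv, _root_.mul_inv_rev, inv_inv, mul_assoc,
      ← pow_mul, mul_comm q (q + 1), pow_mul, ha1, ← ((hzc (K ^ (q + 1))).inv_right).eq,
      show z ^ (q + 1) = z ^ q * z from pow_succ z q, _root_.mul_inv_rev, mul_assoc z⁻¹,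
      ← mul_assoc ((z ^ q)⁻¹), ← ((hzc (K ^ (q + 1))).pow_right q).inv_right.eq, inv_mul_cancel_right,
      ← ((hzc (K ^ (q + 1))).inv_right).eq]
  refine inf_comm_eq_bot hπ {K, W} (Subgroup.zpowers v) (fun g hg => ?_) (fun g hg u hu => ?_) ?_ ?_
  · have hle : Subgroup.zpowers k ⊔ Subgroup.zpowers w ≤
        (Subgroup.closure ({K, W} ∪ (π.ker : Set Γ))).map π := by
      refine sup_le (Subgroup.zpowers_le.2 ?_) (Subgroup.zpowers_le.2 ?_)
      · exact ⟨K, Subgroup.subset_closure (Set.mem_union_left _ (Set.mem_insert _ _)), hK⟩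
      · exact ⟨W, Subgroup.subset_closure (Set.mem_union_left _ (Set.mem_insert_of_mem _ rfl)), hW⟩
    obtain ⟨u, hu, e⟩ := hle hg
    obtain ⟨z', hz', rfl⟩ := exists_eq_mul (σ := π) e.symm
    exact Subgroup.mul_mem _ hu (Subgroup.subset_closure (Set.mem_union_right _ hz'))
  · obtain ⟨j, rfl⟩ := Subgroup.mem_zpowers_iff.1 hu
    rcases hg with rfl | rfl
    · rw [← conj_zpow, hKv]; exact Subgroup.zpow_mem_zpowers _ _
    · rw [← conj_zpow, hWv]
      exact Subgroup.zpow_mem _ (Subgroup.inv_mem _ (Subgroup.mem_zpowers v)) _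
  · rintro g (rfl | rfl) g' (rfl | rfl)
    · rw [commutatorElement_self]; exact Subgroup.one_mem _
    · rw [← commutatorElement_inv, ← hv]; exact Subgroup.inv_mem _ (Subgroup.mem_zpowers v)
    · exact hv ▸ Subgroup.mem_zpowers v
    · rw [commutatorElement_self]; exact Subgroup.one_mem _
  · intro u hu hu1
    obtain ⟨j, rfl⟩ : u ∈ Submonoid.powers v := by rwa [mem_powers_iff_mem_zpowers]
    simp only at hu1 ⊢
    rw [map_pow, hve, map_mul, hz, mul_one, map_inv, map_pow, hK, inv_pow, inv_eq_one, ← pow_mul, hkord,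
      show q ^ 2 - 1 = (q + 1) * (q - 1) by rw [← Nat.sq_sub_sq q 1, one_pow]] at hu1
    obtain ⟨t, rfl⟩ := Nat.dvd_of_mul_dvd_mul_left (Nat.succ_pos q) hu1
    rw [pow_mul, hvq, one_pow]

/-- No multiplier for `SU 3`, except at the characteristic for `q = 2`. -/
theorem noMult_three (hF : Nat.card F = q ^ 2) (h : UFrob σ q) {r : ℕ} [hr : Fact r.Prime]
    (hq : 3 ≤ q ∨ r = 2) : NoMult r (Cfsg.SU 3 F q) := by
  have hq2 := two_le_q hF
  by_cases hrq : r ∣ q
  · obtain ⟨x, y, P, s⟩ := exists_split_three h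
    exact noMult_char hF h hrq rfl le_rfl (Or.inr (by norm_num)) s (Or.inl rfl)
  rcases eq_or_ne r 2 with rfl | hodd
  · rcases (show q % 4 = 1 ∨ q % 4 = 3 by omega) with h4 | h4
    exacts [noMult_three_two' hF h h4, noMult_three_two hF h h4]
  by_cases hm : r ∣ q - 1
  · exact noMult_three_split hF h hodd hm
  by_cases hp : r ∣ q + 1
  · exact noMult_three_plus hF h hodd hrq hp
  refine noMult_free hF h (k := 2) hodd hrq ?_
  rw [card_SU_two hF, show q ^ 2 - 1 = (q + 1) * (q - 1) by rw [← Nat.sq_sub_sq q 1, one_pow]]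
  intro hd
  rcases hr.out.dvd_mul.1 hd with h1 | h1
  · exact hrq h1
  · rcases hr.out.dvd_mul.1 h1 with h1 | h1
    exacts [hp h1, hm h1]

end CfsgLib.MultSU
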