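import Cfsg.Agent.Lib.MultSU.Ext
import Cfsg.Agent.Lib.Classical.UnitaryGen

/-!
Lifts that commute with a whole block, and criteria away from the characteristic.
-/

set_option autoImplicit false

namespace CfsgLib.MultSU

open Matrix CfsgLib.Classical CfsgLib.Classical.Unitary
open scoped commutatorElement

universe u

section
variable {Q Γ : Type*} [Group Q] [Group Γ] {π : Γ →* Q}

/-- An element inverting `g` and sending `h` to `g⁻¹ h`. -/
theorem liftComm_of_invert' (hπ : IsCE π) {r : ℕ} [Fact r.Prime] (hr : IsPGroup r π.ker) (hodd : r ≠ 2)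
    {g h u : Q} (hgh : g * h = h * g) (hug : u * g * u⁻¹ = g⁻¹) (huh : u * h * u⁻¹ = g⁻¹ * h) :
    LiftComm π g h := by
  obtain ⟨a, rfl⟩ := hπ.surj g
  obtain ⟨b, rfl⟩ := hπ.surj h
  obtain ⟨c, rfl⟩ := hπ.surj u
  refine (liftComm_iff hπ rfl rfl).2 (commutatorElement_eq_one_iff_mul_comm.1 ?_)
  have e : ⁅a⁻¹, a⁻¹ * b⁆ = ⁅a, b⁆ := by
    rw [← bracket_conj hπ (u := c) hgh]
    exact bracket_congr hπ (by simp [hug]) (by simp [huh])
  rw [bracket_mul_right hπ (by rw [map_inv]; exact (Commute.inv_left hgh :)),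
    show ⁅a⁻¹, a⁻¹⁆ = 1 from commutatorElement_self _, one_mul, bracket_inv_left hπ hgh] at e
  refine eq_one_of_pow hr (bracket_mem_ker hgh) (N := 2) ?_ fun hd =>
    hodd ((Nat.prime_dvd_prime_iff_eq Fact.out Nat.prime_two).1 hd)
  rw [sq]
  exact inv_eq_iff_mul_eq_one.1 e

theorem liftComm_one (hπ : IsCE π) (g : Q) : LiftComm π g 1 := (cLift hπ g).one_mem

/-- A Sylow subgroup of order at most a prime. -/
theorem noMult_of_sq {Q : Type u} [Group Q] [Finite Q] {r : ℕ} [hr : Fact r.Prime] (hsq : ¬ r ^ 2 ∣ Nat.card Q) :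
    NoMult r Q := by
  obtain ⟨P⟩ := (inferInstance : Nonempty (Sylow r Q))
  refine NoMult.of_cyclic (P : Subgroup Q) P.not_dvd_index ?_
  obtain ⟨k, hk⟩ := IsPGroup.iff_card.1 P.isPGroup'
  have hk1 : k ≤ 1 := by
    by_contra h
    exact hsq ((pow_dvd_pow r (show 2 ≤ k by omega)).trans (hk ▸ (P : Subgroup Q).card_subgroup_dvd_card))
  interval_cases k
  · haveI := (Nat.card_eq_one_iff_unique.1 (hk.trans (pow_zero r))).1
    infer_instance
  · exact isCyclic_of_prime_card (hk.trans (pow_one r))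

end

variable {F : Type u} [Field F] {σ : F →+* F} {q n k : ℕ}

theorem cast_q_eq_zero [Finite F] (hF : Nat.card F = q ^ 2) : (q : F) = 0 := by
  haveI := Fintype.ofFinite F
  have h4 : ((Fintype.card F : ℕ) : F) = 0 := Nat.cast_card_eq_zero F
  rw [← Nat.card_eq_fintype_card, hF, Nat.cast_pow] at h4
  exact (pow_eq_zero_iff two_ne_zero).1 h4

theorem utv_pow (h : UFrob σ q) (v : Fin n → F) {c : F} (hv : uh σ v v = 0) (hc : c + σ c = 0) (j : ℕ) :
    ∃ hj : (j : F) * c + σ ((j : F) * c) = 0, utv h v c hv hc ^ j = utv h v ((j : F) * c) hv hj := by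
  have hj : ∀ j : ℕ, (j : F) * c + σ ((j : F) * c) = 0 := fun j => by
    rw [map_mul, map_natCast, ← mul_add, hc, mul_zero]
  refine ⟨hj j, ?_⟩
  induction j with
  | zero => exact su_ext fun x => by rw [pow_zero, su_one_mulVec, utv_mulVec]; simp
  | succ j ih =>
    refine su_ext fun x => ?_
    rw [pow_succ, ih, su_mul_mulVec, utv_mulVec, utv_mulVec, utv_mulVec, uh_add_left, uh_smul_left, hv]
    push_cast
    module

/-- Lifts of `g` commute with a block commuting with `g`, away from the characteristic. -/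
theorem liftComm_block [Finite F] (hF : Nat.card F = q ^ 2) (h : UFrob σ q) {Q : Type u} [Group Q] {Γ : Type u}
    [Group Γ] {π : Γ →* Q} (hπ : IsCE π) {r : ℕ} [Fact r.Prime] (hr : IsPGroup r π.ker) (hrq : ¬ r ∣ q)
    (f : Cfsg.SU k F q →* Q) (htop : transvGroup k F q = ⊤) {g : Q} (hg : ∀ M, g * f M = f M * g)
    (M : Cfsg.SU k F q) : LiftComm π g (f M) := by
  have hle : transvGroup k F q ≤ (cLift hπ g).comap f := mem_of_eq_utv h fun v c hv hc => by
    refine liftComm_of_coprime hπ hr (hg _) (N := q) ?_ hrq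
    obtain ⟨hj, e⟩ := utv_pow h v hv hc q
    rw [← map_pow, e, ← map_one f]
    refine congrArg f (su_ext fun x => ?_)
    rw [utv_mulVec, su_one_mulVec, cast_q_eq_zero hF]
    simp
  exact hle (htop ▸ Subgroup.mem_top M)

/-! ### Coordinate blocks -/

/-- The frame on a set of coordinates. -/
def cFrame (F : Type*) [Field F] {n k : ℕ} (f : Fin k → Fin n) : Matrix (Fin n) (Fin k) F :=
  (1 : Matrix (Fin n) (Fin n) F).submatrix id f

theorem cFrame_isFrame (σ : F →+* F) {f : Fin k → Fin n} (hf : Function.Injective f) :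
    IsFrame σ (cFrame F f) := by
  show _ = _
  ext i j
  simp only [cFrame, mul_apply, transpose_apply, map_apply, submatrix_apply, id, one_apply, apply_ite σ, map_one,
    map_zero, ite_mul, one_mul, zero_mul, Finset.sum_ite_eq', Finset.mem_univ, if_true]
  exact if_congr hf.eq_iff rfl rfl

theorem cFrame_proj (σ : F →+* F) (f : Fin k → Fin n) (u : Fin n → F) :
    ((cFrame F f).map σ)ᵀ *ᵥ u = u ∘ f := by
  funext i
  simp [cFrame, mulVec, dotProduct, one_apply, apply_ite σ]

theorem cFrame_mulVec_in {f : Fin k → Fin n} (hf : Function.Injective f) (a : Fin k → F) (i : Fin k) :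
    (cFrame F f *ᵥ a) (f i) = a i := by
  simp [cFrame, mulVec, dotProduct, one_apply, hf.eq_iff]

theorem cFrame_mulVec_out {f : Fin k → Fin n} (a : Fin k → F) {j : Fin n} (hj : ∀ i, f i ≠ j) :
    (cFrame F f *ᵥ a) j = 0 := by
  simp [cFrame, mulVec, dotProduct, one_apply, fun i => (hj i).symm]

/-- The block on a set of coordinates. -/
def blk (h : UFrob σ q) {f : Fin k → Fin n} (hf : Function.Injective f) : Cfsg.SU k F q →* Cfsg.SU n F q :=
  frameHom h (cFrame F f) (cFrame_isFrame σ hf)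

theorem blk_in (h : UFrob σ q) {f : Fin k → Fin n} (hf : Function.Injective f) (M : Cfsg.SU k F q)
    (u : Fin n → F) (i : Fin k) : ((blk h hf M).1.1 *ᵥ u) (f i) = (M.1.1 *ᵥ (u ∘ f)) i := by
  rw [blk, frameHom_mulVec, Pi.add_apply, cFrame_mulVec_in hf, cFrame_proj, Pi.sub_apply, Function.comp_apply]
  ring

theorem blk_out (h : UFrob σ q) {f : Fin k → Fin n} (hf : Function.Injective f) (M : Cfsg.SU k F q)
    (u : Fin n → F) {j : Fin n} (hj : ∀ i, f i ≠ j) : ((blk h hf M).1.1 *ᵥ u) j = u j := by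
  rw [blk, frameHom_mulVec, Pi.add_apply, cFrame_mulVec_out _ hj, add_zero]

theorem blk_injective (h : UFrob σ q) {f : Fin k → Fin n} (hf : Function.Injective f) :
    Function.Injective (blk h hf : Cfsg.SU k F q → Cfsg.SU n F q) := fun A B e => su_ext fun a => by
  rw [← (cFrame_isFrame σ hf).apply (A.1.1 *ᵥ a), ← (cFrame_isFrame σ hf).apply (B.1.1 *ᵥ a),
    ← frameHom_frame h _ (cFrame_isFrame σ hf), ← frameHom_frame h _ (cFrame_isFrame σ hf)]
  exact congrArg (fun g : Cfsg.SU n F q => _ *ᵥ (g.1.1 *ᵥ (cFrame F f *ᵥ a))) e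

/-- The two coordinates `a`, `b`. -/
theorem pair_inj {a b : Fin n} (hab : a ≠ b) : Function.Injective (![a, b] : Fin 2 → Fin n) := by
  intro i j e
  fin_cases i <;> fin_cases j <;> simp_all

/-- `g` has coordinates `d i * u (p i)`. -/
def IsMon (g : Cfsg.SU n F q) (p : Equiv.Perm (Fin n)) (d : Fin n → F) : Prop :=
  (∀ u i, (g.1.1 *ᵥ u) i = d i * u (p i)) ∧ ∀ i, d i ≠ 0

theorem IsMon.mul {g g' : Cfsg.SU n F q} {p p' : Equiv.Perm (Fin n)} {d d' : Fin n → F} (hg : IsMon g p d)
    (hg' : IsMon g' p' d') : IsMon (g * g') (p' * p) fun i => d i * d' (p i) :=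
  ⟨fun u i => by rw [su_mul_mulVec, hg.1, hg'.1, Equiv.Perm.mul_apply]; ring,
    fun i => mul_ne_zero (hg.2 i) (hg'.2 _)⟩

theorem IsMon.one : IsMon (1 : Cfsg.SU n F q) 1 fun _ => (1 : F) :=
  ⟨fun u i => by rw [su_one_mulVec, one_mul, Equiv.Perm.one_apply], fun _ => one_ne_zero⟩

theorem IsMon.pow {g : Cfsg.SU n F q} {p : Equiv.Perm (Fin n)} {d : Fin n → F} (hg : IsMon g p d) (j : ℕ) :
    ∃ d', IsMon (g ^ j) (p ^ j) d' := by
  induction j with
  | zero => exact ⟨_, by rw [pow_zero, pow_zero]; exact IsMon.one⟩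
  | succ j ih =>
    obtain ⟨d', hd'⟩ := ih
    exact ⟨_, by rw [pow_succ, pow_succ']; exact hd'.mul hg⟩

theorem IsMon.ext {g g' : Cfsg.SU n F q} {p : Equiv.Perm (Fin n)} {d : Fin n → F} (hg : IsMon g p d)
    (hg' : IsMon g' p d) : g = g' :=
  su_ext fun u => funext fun i => by rw [hg.1, hg'.1]

theorem IsMon.perm_eq {g : Cfsg.SU n F q} {p p' : Equiv.Perm (Fin n)} {d d' : Fin n → F} (hg : IsMon g p d)
    (hg' : IsMon g p' d') : p = p' ∧ d = d' := by
  have key : ∀ i, p i = p' i := fun i => by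
    by_contra hne
    have := (hg.1 (Pi.single (p i) 1) i).symm.trans (hg'.1 (Pi.single (p i) 1) i)
    rw [Pi.single_eq_same, mul_one, Pi.single_eq_of_ne (Ne.symm hne), mul_zero] at this
    exact hg.2 i this
  refine ⟨Equiv.ext key, funext fun i => ?_⟩
  have := (hg.1 (Pi.single (p i) 1) i).symm.trans (hg'.1 (Pi.single (p i) 1) i)
  rwa [Pi.single_eq_same, ← key, Pi.single_eq_same, mul_one, mul_one] at this

/-- A monomial element moves a diagonal one. -/
theorem IsMon.conj {g t t' : Cfsg.SU n F q} {p : Equiv.Perm (Fin n)} {d e : Fin n → F} (hg : IsMon g p d)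
    (ht : IsMon t 1 e) (ht' : IsMon t' 1 fun i => e (p i)) : g * t * g⁻¹ = t' := by
  rw [mul_inv_eq_iff_eq_mul]
  refine IsMon.ext (p := p) (d := fun i => d i * e (p i)) ?_ ?_
  · have := hg.mul ht
    rwa [one_mul] at this
  · have := ht'.mul hg
    simp only [mul_one, Equiv.Perm.one_apply, mul_comm (e _)] at this
    exact this

/-- The signed transposition of two coordinates. -/
def sw (hF : Nat.card F = q ^ 2) [Finite F] {a b : Fin n} (hab : a ≠ b) : Cfsg.SU n F q :=
  ⟨⟨signSwap F a b, signSwap_det hab⟩, signSwap_mem_SU hF hab⟩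

theorem sw_mon [Finite F] (hF : Nat.card F = q ^ 2) {a b : Fin n} (hab : a ≠ b) :
    IsMon (sw (F := F) hF hab) (Equiv.swap a b) fun i => if i = a then -1 else 1 :=
  ⟨fun u i => signSwap_mulVec a b u i, fun i => by show (if i = a then (-1 : F) else 1) ≠ 0; split_ifs <;> simp⟩

theorem sw_eq_blk [Finite F] (hF : Nat.card F = q ^ 2) (h : UFrob σ q) {a b : Fin n} (hab : a ≠ b) :
    ∃ M : Cfsg.SU 2 F q, sw (F := F) hF hab = blk h (pair_inj hab) M := by
  refine ⟨sw hF (show (0 : Fin 2) ≠ 1 by decide), su_ext fun u => funext fun j => ?_⟩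
  rw [(sw_mon hF hab).1]
  by_cases hj : ∀ i, (![a, b] : Fin 2 → Fin n) i ≠ j
  · rw [blk_out h _ _ _ hj]
    have h0 := hj 0
    have h1 := hj 1
    simp only [Matrix.cons_val_zero, Matrix.cons_val_one] at h0 h1
    show (if j = a then (-1 : F) else 1) * _ = _
    rw [if_neg (Ne.symm h0), Equiv.swap_apply_of_ne_of_ne (Ne.symm h0) (Ne.symm h1), one_mul]
  · push Not at hj
    obtain ⟨i, rfl⟩ := hj
    rw [blk_in, (sw_mon hF _).1]
    fin_cases i <;> simp [hab.symm]

/-- A diagonal element commutes with the blocks on which it is scalar. -/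
theorem diag_comm_blk (h : UFrob σ q) {f : Fin k → Fin n} (hf : Function.Injective f) {t : Cfsg.SU n F q}
    {e : Fin n → F} (ht : IsMon t 1 e) {c : F} (hc : ∀ i, e (f i) = c) (M : Cfsg.SU k F q) :
    t * blk h hf M = blk h hf M * t := by
  refine su_ext fun u => funext fun j => ?_
  rw [su_mul_mulVec, su_mul_mulVec, ht.1, Equiv.Perm.one_apply]
  by_cases hj : ∀ i, f i ≠ j
  · rw [blk_out h _ _ _ hj, blk_out h _ _ _ hj, ht.1, Equiv.Perm.one_apply]
  · push Not at hj
    obtain ⟨i, rfl⟩ := hj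
    rw [blk_in, blk_in, show (t.1.1 *ᵥ u) ∘ f = c • (u ∘ f) from funext fun l => by
      rw [Function.comp_apply, ht.1, Equiv.Perm.one_apply, hc]; rfl, mulVec_smul, hc]
    rfl

/-- Lifts of a diagonal element commute with swaps of coordinates where it agrees. -/
theorem diag_sw [Finite F] (hF : Nat.card F = q ^ 2) (h : UFrob σ q) {Γ : Type u} [Group Γ]
    {π : Γ →* Cfsg.SU n F q} (hπ : IsCE π) {r : ℕ} [Fact r.Prime] (hr : IsPGroup r π.ker) (hrq : ¬ r ∣ q)
    {t : Cfsg.SU n F q} {e : Fin n → F} (ht : IsMon t 1 e) {a b : Fin n} (hab : a ≠ b) (he : e a = e b) :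
    LiftComm π t (sw hF hab) := by
  obtain ⟨M, hM⟩ := sw_eq_blk hF h hab
  rw [hM]
  refine liftComm_block hF h hπ hr hrq _ (transvGroup_two hF h) (fun M' => diag_comm_blk h _ ht (c := e a)
    (fun i => ?_) M') M
  fin_cases i <;> simp [he]

end CfsgLib.MultSU
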